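import Cfsg.Agent.Lib.G2Sylow.CentFour
import Mathlib.FieldTheory.Finite.Basic

/-!
The derived group of the centraliser modulo core is a commuting product of two `SL₂`.
-/

set_option autoImplicit false
set_option linter.unusedSectionVars false
set_option linter.style.haveILetI false

namespace Cfsg.Agent.G2Sylow

universe u

open Matrix (SpecialLinearGroup)

theorem two_ne_zero_of_odd_card {F : Type*} [Field F] [Fintype F] (hF : Odd (Fintype.card F)) : (2 : F) ≠ 0 := by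
  intro h2
  obtain ⟨p, hp⟩ := CharP.exists F
  obtain ⟨f, hpp, hcard⟩ := FiniteField.card F p
  have hd : p ∣ 2 := (CharP.cast_eq_zero_iff F p 2).1 (by exact_mod_cast h2)
  rw [(Nat.prime_dvd_prime_iff_eq hpp Nat.prime_two).1 hd] at hcard
  rw [hcard] at hF
  exact absurd (hF : Odd (2 ^ (f : ℕ))) (Nat.not_odd_iff_even.2 (Nat.even_pow.2 ⟨even_two, f.pos.ne'⟩))

variable {H : Type u} [Group H] [Finite H] {T : Sylow 2 H} {m : ℕ} {z g₁ a₁ g₂ a₂ w : ↥(T : Subgroup H)}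
variable {D : Shape ↥(T : Subgroup H) m z g₁ a₁ g₂ a₂ w} {h : ↥(T : Subgroup H)} {r₁ r₂ i j : ℤ}
variable {N K₁ K₂ : Subgroup H}

namespace Shape

/-- Every factor is finished. -/
theorem Parts.exists_good (C : Ctx D) (W : Tw D h r₁ r₂ i j) (P : Parts D N K₁ K₂) :
    ∃ L, Good D K₁ K₂ L := by
  rcases P.kind₁ with ⟨hm, hQ⟩ | ⟨Y, _, π, hY, hnc, ht, hπ, hker⟩
  swap
  · exact ⟨K₁, P.good_simple C W π hY hnc ht hπ hker⟩
  have hgK : (g₁ : H) ∈ K₁ := P.Q₁ _ (by simpa using D.F₁.g_mem 1)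
  have hgT : g₂ ∈ D.F₂.Q := by simpa using D.F₂.g_mem 1
  have hg₂ : g₂ * g₂ = z := by simpa [hm] using D.F₂.quarter_sq
  obtain ⟨g, hgN, hg1, hg2⟩ := P.fuse₁ a₁ D.F₁.a_mem D.F₁.sq g₂ hgT hg₂
  have hmove : D.Eqz (a₁ : H) (g * g₁ * g⁻¹) := by simpa [hm, Eqz] using hg1
  rcases P.kind₂ with ⟨-, hQ'⟩ | ⟨Y', _, π', hY', hnc', ht', hπ', hker'⟩
  · refine P.good_four C W hm hQ (fun x hx y hy => ?_) (fun k hk hc => ?_) hgN ?_ hmove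
    · obtain ⟨s, hs, rfl⟩ := hQ x hx
      obtain ⟨t, ht, rfl⟩ := hQ' y hy
      rw [← Subgroup.coe_mul, ← Subgroup.coe_mul, D.comm s hs t ht]
    · obtain ⟨s, hs, rfl⟩ := hQ' k hk
      have hcs : ∀ q ∈ D.F₂.Q, s * q = q * s := fun q hq => by
        refine Subtype.ext ?_
        rw [Subgroup.coe_mul, Subgroup.coe_mul]
        exact hc _ (P.Q₂ q hq)
      obtain ⟨t, rfl | rfl⟩ := D.F₂.mem_Q.1 hs
      · have e : g₂ ^ (-t) = g₂ ^ t := by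
          rw [← D.F₂.conj_zpow, ← hcs _ D.F₂.a_mem, mul_inv_cancel_right]
        obtain ⟨c, hc4⟩ := D.F₂.zpow_eq.1 e
        rw [hm] at hc4
        rcases Int.even_or_odd' c with ⟨d, rfl | rfl⟩
        · left
          rw [D.F₂.zpow_one_iff.2 ⟨d, by rw [hm]; push_cast at hc4 ⊢; linarith⟩, OneMemClass.coe_one]
        · right
          rw [show g₂ ^ t = z from D.F₂.half ▸ D.F₂.zpow_eq.2 ⟨-d, by rw [hm]; push_cast at hc4 ⊢; linarith⟩]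
      · have e : g₂ ^ (-1 : ℤ) = g₂ ^ (1 : ℤ) := by
          rw [← D.F₂.conj_zpow 1, mul_inv_eq_iff_eq_mul]
          refine mul_left_cancel (a := g₂ ^ t) ?_
          rw [← mul_assoc, ← mul_assoc, hcs _ (D.F₂.g_mem 1), ← mul_assoc, ← zpow_add, ← zpow_add, add_comm]
        obtain ⟨c, hc4⟩ := D.F₂.zpow_eq.1 e
        rw [hm] at hc4
        omega
    · refine P.symm.four_fix C.symm hm hQ' hgN ?_
      exact hg2
  · obtain hG₂ := P.symm.good_simple C.symm W.symm π' hY' hnc' ht' hπ' hker'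
    obtain ⟨Y, _, E, A, G, B, F⟩ := P.exists_four C hm hQ
    haveI := P.n₂
    set c := (h : H) * g * (h : H)⁻¹ * g⁻¹ with hc
    have hcc : c ∈ commutator H := by
      have := Subgroup.commutator_mem_commutator (Subgroup.mem_top (h : H)) (Subgroup.mem_top g)
      rwa [commutatorElement_def] at this
    obtain ⟨k, hk, hkx⟩ := hG₂.act c hcc
    have hσN : k⁻¹ * c ∈ N := mul_mem (inv_mem (P.le₂ hk)) (P.two_le hcc)
    refine P.good_four C W hm hQ (fun x hx y hy => (hG₂.cent y hy x hx).symm) (fun v hv hcv => ?_) hσN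
      (fun y hy => ?_) ?_
    · have hc' : π' ⟨v, hv⟩ ∈ Subgroup.center Y' := Subgroup.mem_center_iff.2 fun y => by
        obtain ⟨x, rfl⟩ := hπ' y
        rw [← map_mul, ← map_mul]
        exact congrArg π' (Subtype.ext (hcv x x.2).symm)
      haveI := hY'
      rcases (inferInstance : (Subgroup.center Y').Normal).eq_bot_or_eq_top with e | e
      · rw [e, Subgroup.mem_bot] at hc'
        exact (hker' _).1 hc'
      · exact absurd ⟨⟨fun a b => Subgroup.mem_center_iff.1 (e ▸ Subgroup.mem_top b) a⟩⟩ hnc'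
    · have h1 := C.eqz_conj k⁻¹ (hkx y hy : D.Eqz (c * y * c⁻¹) (k * y * k⁻¹))
      rw [show k⁻¹ * (k * y * k⁻¹) * k⁻¹⁻¹ = y by group,
        show k⁻¹ * (c * y * c⁻¹) * k⁻¹⁻¹ = k⁻¹ * c * y * (k⁻¹ * c)⁻¹ by group] at h1
      exact C.eqz_symm h1
    · have hgG : A g G = B := by
        rw [← F.eG ⟨_, hgK⟩ rfl, F.act g _ ⟨_, P.n₁.conj_mem _ hgK g⟩ rfl,
          ← F.eB ⟨_, P.Q₁ _ D.F₁.a_mem⟩ rfl, eq_comm]
        exact (Parts.ker_eq C E F.ker).2 hmove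
      have hcG : A c G = B := F.brk W P hgN hgG
      have hkB : A k⁻¹ B = B := by
        rw [← F.eB ⟨_, P.Q₁ _ D.F₁.a_mem⟩ rfl, F.act k⁻¹ _ ⟨_, P.n₁.conj_mem _ (P.Q₁ _ D.F₁.a_mem) k⁻¹⟩ rfl,
          eq_comm]
        exact (Parts.ker_eq C E F.ker).2 (P.triv C (inv_mem hk) (P.Q₁ _ D.F₁.a_mem))
      have e1 : A (k⁻¹ * c) G = B := by rw [map_mul, MulAut.mul_apply, hcG, hkB]
      rw [← F.eG ⟨_, hgK⟩ rfl, F.act _ _ ⟨_, P.n₁.conj_mem _ hgK (k⁻¹ * c)⟩ rfl,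
        ← F.eB ⟨_, P.Q₁ _ D.F₁.a_mem⟩ rfl, eq_comm] at e1
      exact (Parts.ker_eq C E F.ker).1 e1

/-- Two finished factors meet in the centre. -/
theorem Good.inter {L₁ L₂ : Subgroup H} (C : Ctx D) (P : Parts D N K₁ K₂) (G₁ : Good D K₁ K₂ L₁)
    (G₂ : Good D.swap K₂ K₁ L₂) {e : H} (h1 : e ∈ L₁) (h2 : e ∈ L₂) : e = 1 ∨ e = z := by
  obtain ⟨F, _, _, hF, ⟨φ⟩⟩ := G₁.sl
  have hg : ((g₁ ^ (m : ℤ) : ↥(T : Subgroup H)) : H) ∈ K₁ := P.Q₁ _ (D.F₁.g_mem m)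
  have ha : (a₁ : H) ∈ K₁ := P.Q₁ _ D.F₁.a_mem
  let a : L₁ := ⟨_, G₁.K_le hg⟩
  let b : L₁ := ⟨_, G₁.K_le ha⟩
  have ce : ∀ x ∈ K₁, ∀ hx : x ∈ L₁, φ ⟨e, h1⟩ * φ ⟨x, hx⟩ = φ ⟨x, hx⟩ * φ ⟨e, h1⟩ := fun x hx hx' => by
    rw [← map_mul, ← map_mul]
    exact congrArg φ (Subtype.ext (G₂.cent e h2 x hx))
  have hab : φ a * φ b ≠ φ b * φ a := by
    rw [← map_mul, ← map_mul]
    intro e'
    have e2 : g₁ ^ (m : ℤ) * a₁ = a₁ * g₁ ^ (m : ℤ) := by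
      refine Subtype.ext ?_
      rw [Subgroup.coe_mul, Subgroup.coe_mul]
      exact congrArg Subtype.val (φ.injective e')
    rw [D.F₁.a_mul, D.F₁.a_zpow_eq] at e2
    obtain ⟨c, hc⟩ := e2
    have h1' := D.F₁.pos
    rcases lt_trichotomy c 0 with h' | h' | h' <;> nlinarith
  have hee := sl_cent_pair (ce _ hg (G₁.K_le hg)) (ce _ ha (G₁.K_le ha)) hab
  rw [← map_mul] at hee
  have hz : (z : H) ∈ L₁ := G₁.K_le P.z_mem
  have hzS : φ ⟨z, hz⟩ * φ ⟨z, hz⟩ = 1 := by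
    rw [← map_mul, show (⟨z, hz⟩ : L₁) * ⟨z, hz⟩ = 1 from Subtype.ext C.zz, map_one]
  have h2F := two_ne_zero_of_odd_card hF
  have hz1 : φ ⟨z, hz⟩ ≠ 1 := fun e' => C.z_ne (congrArg Subtype.val ((MulEquiv.map_eq_one_iff φ).1 e'))
  have hzeq := (invol_eq h2F hzS).resolve_left hz1
  rcases invol_eq h2F (x := φ ⟨e, h1⟩) (by rw [← map_mul, hee]) with e' | e'
  · exact Or.inl (congrArg Subtype.val ((MulEquiv.map_eq_one_iff φ).1 e'))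
  · exact Or.inr (congrArg Subtype.val (φ.injective (e'.trans hzeq.symm)))

/-- The centraliser theorem. -/
theorem Ctx.main (C : Ctx D) : ∃ L₁ L₂ : Subgroup H, L₁.Normal ∧ L₂.Normal ∧
    (∃ (F₁ : Type) (_ : Field F₁) (_ : Fintype F₁), Odd (Fintype.card F₁) ∧
      Nonempty (L₁ ≃* SpecialLinearGroup (Fin 2) F₁)) ∧
    (∃ (F₂ : Type) (_ : Field F₂) (_ : Fintype F₂), Odd (Fintype.card F₂) ∧
      Nonempty (L₂ ≃* SpecialLinearGroup (Fin 2) F₂)) ∧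
    ⁅L₁, L₂⁆ = ⊥ ∧ L₁ ⊔ L₂ = commutator H := by
  obtain ⟨h, r₁, r₂, i, j, W⟩ := exists_tw D
  obtain ⟨N, K₁, K₂, P⟩ := C.exists_parts W
  obtain ⟨L₁, G₁⟩ := P.exists_good C W
  obtain ⟨L₂, G₂⟩ := P.symm.exists_good C.symm W.symm
  refine ⟨L₁, L₂, G₁.nL, G₂.nL, G₁.sl, G₂.sl, ?_, ?_⟩
  · obtain ⟨F, _, _, hF, ⟨φ⟩⟩ := G₁.sl
    rw [Subgroup.commutator_eq_bot_iff_le_centralizer]
    intro x hx
    rw [Subgroup.mem_centralizer_iff]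
    intro y hy
    have hm : ∀ v : L₁, (v : H) * y * (v : H)⁻¹ * y⁻¹ = 1 ∨ (v : H) * y * (v : H)⁻¹ * y⁻¹ = z := fun v => by
      refine G₁.inter C P G₂ ?_ (mul_mem (G₂.nL.conj_mem y hy v) (inv_mem hy))
      rw [show (v : H) * y * (v : H)⁻¹ * y⁻¹ = (v : H) * (y * (v : H)⁻¹ * y⁻¹) by group]
      exact mul_mem v.2 (G₁.nL.conj_mem _ (inv_mem v.2) y)
    have hcent : ∀ (v : L₁) (a : H), ((v : H) * y * (v : H)⁻¹ * y⁻¹) * a = a * ((v : H) * y * (v : H)⁻¹ * y⁻¹) := by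
      intro v a
      rcases hm v with e | e <;> rw [e]
      · rw [one_mul, mul_one]
      · exact C.hz a
    let f : L₁ →* H := MonoidHom.mk' (fun v => (v : H) * y * (v : H)⁻¹ * y⁻¹) fun a b => by
      rw [Subgroup.coe_mul, hcent a]
      calc (a : H) * b * y * ((a : H) * b)⁻¹ * y⁻¹ =
          (a : H) * ((b : H) * y * (b : H)⁻¹ * y⁻¹) * (a : H)⁻¹ * ((a : H) * y * (a : H)⁻¹ * y⁻¹) := by group
        _ = _ := by rw [← hcent b, mul_inv_cancel_right]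
    have hf : ∀ v, (f.comp φ.symm.toMonoidHom) v * (f.comp φ.symm.toMonoidHom) v = 1 := fun v => by
      rcases hm (φ.symm v) with e | e
      · show f (φ.symm v) * f (φ.symm v) = 1
        rw [show f (φ.symm v) = 1 from e, one_mul]
      · show f (φ.symm v) * f (φ.symm v) = 1
        rw [show f (φ.symm v) = z from e, C.zz]
    have h0 := sl_hom_trivial (two_ne_zero_of_odd_card hF) (f.comp φ.symm.toMonoidHom) hf (φ ⟨x, hx⟩)
    rw [MonoidHom.comp_apply] at h0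
    change f (φ.symm (φ ⟨x, hx⟩)) = 1 at h0
    rw [MulEquiv.symm_apply_apply] at h0
    exact (mul_inv_eq_iff_eq_mul.1 (mul_inv_eq_one.1 (show x * y * x⁻¹ * y⁻¹ = 1 from h0))).symm
  · refine le_antisymm (sup_le G₁.le_comm G₂.le_comm) fun c hc => ?_
    haveI := G₁.nL
    obtain ⟨l₁, hl₁, e₁⟩ := G₁.act c hc
    obtain ⟨l₂, hl₂, e₂⟩ := G₂.act c hc
    have hmem : (l₁ * l₂)⁻¹ * c ∈ N :=
      mul_mem (inv_mem (mul_mem (P.two_le (G₁.le_comm hl₁)) (P.two_le (G₂.le_comm hl₂)))) (P.two_le hc)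
    have k₁ : ∀ x ∈ K₁, D.Eqz x ((l₁ * l₂)⁻¹ * c * x * ((l₁ * l₂)⁻¹ * c)⁻¹) := by
      intro x hx
      have h1 := C.eqz_conj (l₁ * l₂)⁻¹ (e₁ x hx)
      rw [show (l₁ * l₂)⁻¹ * (c * x * c⁻¹) * (l₁ * l₂)⁻¹⁻¹ = (l₁ * l₂)⁻¹ * c * x * ((l₁ * l₂)⁻¹ * c)⁻¹ by group,
        show (l₁ * l₂)⁻¹ * (l₁ * x * l₁⁻¹) * (l₁ * l₂)⁻¹⁻¹ = l₂⁻¹ * x * l₂ by group, mul_assoc l₂⁻¹ x l₂,
        ← G₂.cent l₂ hl₂ x hx, inv_mul_cancel_left] at h1
      exact C.eqz_symm h1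
    have k₂ : ∀ x ∈ K₂, D.Eqz x ((l₁ * l₂)⁻¹ * c * x * ((l₁ * l₂)⁻¹ * c)⁻¹) := by
      intro x hx
      have h1 := C.eqz_conj (l₁ * l₂)⁻¹ (e₂ x hx : D.Eqz (c * x * c⁻¹) (l₂ * x * l₂⁻¹))
      have hcl : l₁⁻¹ * (l₂ * x * l₂⁻¹) * l₁ = l₂ * x * l₂⁻¹ := by
        rw [mul_assoc l₁⁻¹, ← G₁.cent l₁ hl₁ _ (P.n₂.conj_mem x hx l₂), inv_mul_cancel_left]
      rw [show (l₁ * l₂)⁻¹ * (c * x * c⁻¹) * (l₁ * l₂)⁻¹⁻¹ = (l₁ * l₂)⁻¹ * c * x * ((l₁ * l₂)⁻¹ * c)⁻¹ by group,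
        show (l₁ * l₂)⁻¹ * (l₂ * x * l₂⁻¹) * (l₁ * l₂)⁻¹⁻¹ = l₂⁻¹ * (l₁⁻¹ * (l₂ * x * l₂⁻¹) * l₁) * l₂ by group,
        hcl, show l₂⁻¹ * (l₂ * x * l₂⁻¹) * l₂ = x by group] at h1
      exact C.eqz_symm h1
    have h3 : (l₁ * l₂)⁻¹ * c ∈ L₁ ⊔ L₂ :=
      sup_le_sup G₁.K_le G₂.K_le (P.cent _ hmem (fun x hx => C.comm_iff.2 (k₁ x hx))
        fun x hx => C.comm_iff.2 (k₂ x hx))
    have := mul_mem (mul_mem (Subgroup.mem_sup_left (T := L₂) hl₁) (Subgroup.mem_sup_right (S := L₁) hl₂)) h3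
    rwa [mul_inv_cancel_left] at this

end Shape

end Cfsg.Agent.G2Sylow
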