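import Cfsg.Agent.Lib.G2Sylow.Factor
import Cfsg.Agent.Lib.Classical.SL2Sylow
import Cfsg.Agent.Lib.SL2Pres.Torus
import Mathlib.SetTheory.Cardinal.Finite

/-!
A Sylow 2-subgroup of `SL₂(q)`, `q` odd, and an outer diagonal automorphism normalising it.
-/

set_option autoImplicit false
set_option linter.unusedSectionVars false

namespace Cfsg.Agent.G2Sylow

open Matrix (SpecialLinearGroup)
open SL2Pres (diagS diagS_val)

theorem Fac.mk' {X : Type*} [Group X] {m : ℕ} {z g a : X} (pos : 0 < m) (ord : orderOf g = 4 * m)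
    (half : g ^ (2 * (m : ℤ)) = z) (sq : a * a = z) (inv : a * g * a⁻¹ = g⁻¹) : Fac m z g a where
  pos := pos
  ord := ord
  half := half
  sq := sq
  inv := inv
  out i h := by
    have e : a * g * a⁻¹ = g := by rw [← h]; group
    rw [inv] at e
    have h2 : g ^ 2 = 1 := by rw [pow_two, mul_eq_one_iff_eq_inv, e]
    have := Nat.le_of_dvd two_pos (orderOf_dvd_of_pow_eq_one h2)
    omega

/-- The factor has order `8m`. -/
theorem Fac.card_Q {X : Type*} [Group X] {m : ℕ} {z g a : X} (F : Fac m z g a) : Nat.card F.Q = 8 * m := by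
  let f : Fin (4 * m) × Bool → F.Q := fun p =>
    bif p.2 then ⟨g ^ (p.1.1 : ℤ) * a, F.outer_mem _⟩ else ⟨g ^ (p.1.1 : ℤ), F.g_mem _⟩
  have hf : Function.Bijective f := by
    constructor
    · rintro ⟨i, b⟩ ⟨j, c⟩ h
      have hd : ∀ {i j : Fin (4 * m)}, ((4 * m : ℕ) : ℤ) ∣ (j.1 : ℤ) - i.1 → i = j := fun {i j} hd => by
        obtain ⟨c, hc⟩ := hd
        push_cast at hc
        have hi := i.2
        have hj := j.2
        have h1 : c = 0 := by
          by_contra h0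
          rcases lt_or_gt_of_ne h0 with h' | h' <;> nlinarith
        rw [h1] at hc
        exact Fin.ext (by omega)
      have h' := congrArg Subtype.val h
      cases b <;> cases c <;> simp only [f, cond_true, cond_false] at h'
      · exact congrArg (fun i => (i, false)) (hd (by exact_mod_cast F.zpow_eq.1 h'))
      · exact absurd h' (F.inner_ne_outer _ _)
      · exact absurd h'.symm (F.inner_ne_outer _ _)
      · exact congrArg (fun i => (i, true)) (hd (by exact_mod_cast F.a_zpow_eq.1 h'))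
    · rintro ⟨x, hx⟩
      obtain ⟨i, hi⟩ := hx
      have hp := F.pos
      have h0 : (0 : ℤ) ≤ i % (4 * m) := Int.emod_nonneg _ (by omega)
      have h1 : i % (4 * m) < 4 * m := Int.emod_lt_of_pos _ (by omega)
      have e : g ^ ((i % (4 * m)).toNat : ℤ) = g ^ i := by
        rw [Int.toNat_of_nonneg h0, F.zpow_eq]
        exact ⟨i / (4 * m), by linarith [Int.mul_ediv_add_emod i (4 * m)]⟩
      rcases hi with rfl | rfl
      · exact ⟨(⟨(i % (4 * m)).toNat, by omega⟩, false), Subtype.ext e⟩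
      · exact ⟨(⟨(i % (4 * m)).toNat, by omega⟩, true), Subtype.ext (congrArg (· * a) e)⟩
  rw [← Nat.card_congr (Equiv.ofBijective f hf), Nat.card_prod, Nat.card_fin]
  simp
  ring

variable {F : Type*} [Field F]

local notation "SL" => SpecialLinearGroup (Fin 2) F
local notation "GL2" => Matrix.GeneralLinearGroup (Fin 2) F
local notation "zS" => diagS F (-1)

theorem zS_val : ((zS : SL) : Matrix (Fin 2) (Fin 2) F) = -1 := by
  rw [diagS_val]
  ext i j
  fin_cases i <;> fin_cases j <;> simp [inv_neg]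

theorem invol_eq (h2 : (2 : F) ≠ 0) {x : SL} (hx : x * x = 1) : x = 1 ∨ x = zS := by
  obtain ⟨p, q, r, s, hv⟩ : ∃ p q r s, x.1 = !![p, q; r, s] := ⟨_, _, _, _, Matrix.eta_fin_two _⟩
  have h : x.1 * x.1 = 1 := congrArg Subtype.val hx
  have hd := x.2
  rw [hv, Matrix.det_fin_two_of] at hd
  rw [hv, Matrix.mul_fin_two, Matrix.one_fin_two] at h
  simp at h
  obtain ⟨⟨e1, e2⟩, e3, e4⟩ := h
  have hps : p + s ≠ 0 := fun h0 => h2 (by linear_combination p * h0 - e1 - hd)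
  have hq : q = 0 := (mul_eq_zero.1 (show (p + s) * q = 0 by linear_combination e2)).resolve_left hps
  have hr : r = 0 := (mul_eq_zero.1 (show (p + s) * r = 0 by linear_combination e3)).resolve_left hps
  have hsp : s = p := by
    refine sub_eq_zero.1 ((mul_eq_zero.1 (show (p + s) * (s - p) = 0 by linear_combination e4 - e1)).resolve_left hps)
  have hp : p * p = 1 := by rw [hsp] at hd; rw [hr] at hd; linear_combination hd
  rcases mul_self_eq_one_iff.1 hp with h | h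
  · refine Or.inl (Subtype.ext ?_)
    rw [hv, hq, hr, hsp, h]
    exact Matrix.one_fin_two.symm
  · refine Or.inr (Subtype.ext ?_)
    rw [zS_val, hv, hq, hr, hsp, h]
    ext i j
    fin_cases i <;> fin_cases j <;> simp

theorem zS_comm (x : SL) : zS * x = x * zS :=
  Subtype.ext (by
    rw [Matrix.SpecialLinearGroup.coe_mul, Matrix.SpecialLinearGroup.coe_mul, zS_val, neg_one_mul,
      mul_neg_one])

theorem zS_sq : (zS : SL) * zS = 1 := by
  rw [← map_mul, neg_one_mul, _root_.neg_neg, map_one]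

/-- Conjugation by an element of `GL₂`. -/
def cj (M : GL2) : SL →* SL where
  toFun x := ⟨M.1 * x.1 * (M⁻¹).1, by
    rw [Matrix.det_mul, Matrix.det_mul, x.2, mul_one, ← Matrix.det_mul, Units.mul_inv, Matrix.det_one]⟩
  map_one' := Subtype.ext (by simp)
  map_mul' x y := Subtype.ext (by
    show M.1 * (x * y : SL).1 * (M⁻¹).1 = M.1 * x.1 * (M⁻¹).1 * (M.1 * y.1 * (M⁻¹).1)
    simp [Matrix.mul_assoc])

theorem cj_val (M : GL2) (x : SL) : (cj M x).1 = M.1 * x.1 * (M⁻¹).1 := rfl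

theorem cj_one (x : SL) : cj (1 : GL2) x = x := Subtype.ext (by simp [cj_val])

theorem cj_mul (M N : GL2) (x : SL) : cj (M * N) x = cj M (cj N x) :=
  Subtype.ext (by simp [cj_val, Matrix.mul_assoc])

theorem cj_injective (M : GL2) : Function.Injective (cj M) := fun x y h => by
  have := congrArg (cj M⁻¹) h
  rwa [← cj_mul, ← cj_mul, inv_mul_cancel, cj_one, cj_one] at this

theorem cj_toGL (l x : SL) : cj (Matrix.SpecialLinearGroup.toGL l) x = l * x * l⁻¹ := Subtype.ext rfl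

theorem cj_zS (M : GL2) : cj M zS = zS :=
  Subtype.ext (by simp [cj_val, zS_val])

theorem cj_comm {M : GL2} {x : SL} (h : cj M x = x) : M.1 * x.1 = x.1 * M.1 := by
  have h1 := congrArg Subtype.val h
  rw [cj_val] at h1
  calc M.1 * x.1 = M.1 * x.1 * ((M⁻¹).1 * M.1) := by simp
    _ = x.1 * M.1 := by rw [← Matrix.mul_assoc, h1]

theorem scalar_of_comm {y a b : Matrix (Fin 2) (Fin 2) F} (ha : y * a = a * y) (hb : y * b = b * y)
    (hne : a * b ≠ b * a) : y.det = y 0 0 * y 0 0 := by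
  by_contra hy
  apply hne
  have a0 := congrFun (congrFun ha 0) 0
  have a1 := congrFun (congrFun ha 0) 1
  have a2 := congrFun (congrFun ha 1) 0
  have b0 := congrFun (congrFun hb 0) 0
  have b1 := congrFun (congrFun hb 0) 1
  have b2 := congrFun (congrFun hb 1) 0
  simp [Matrix.mul_apply, Fin.sum_univ_two] at a0 a1 a2 b0 b1 b2
  rw [Matrix.det_fin_two] at hy
  by_cases h01 : y 0 1 = 0
  · by_cases h10 : y 1 0 = 0
    · have hd : y 1 1 - y 0 0 ≠ 0 := fun h => hy (by rw [h01, h10, sub_eq_zero.1 h]; ring)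
      have e1 : a 0 1 = 0 :=
        (mul_eq_zero.1 (show (y 1 1 - y 0 0) * a 0 1 = 0 by rw [h01] at a1; linear_combination -a1)).resolve_left hd
      have e2 : a 1 0 = 0 :=
        (mul_eq_zero.1 (show (y 1 1 - y 0 0) * a 1 0 = 0 by rw [h10] at a2; linear_combination a2)).resolve_left hd
      have e3 : b 0 1 = 0 :=
        (mul_eq_zero.1 (show (y 1 1 - y 0 0) * b 0 1 = 0 by rw [h01] at b1; linear_combination -b1)).resolve_left hd
      have e4 : b 1 0 = 0 :=
        (mul_eq_zero.1 (show (y 1 1 - y 0 0) * b 1 0 = 0 by rw [h10] at b2; linear_combination b2)).resolve_left hd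
      ext i j
      fin_cases i <;> fin_cases j <;> simp [Matrix.mul_apply, Fin.sum_univ_two, e1, e2, e3, e4, mul_comm]
    · have h : a 0 1 * b 1 0 = b 0 1 * a 1 0 :=
        mul_left_cancel₀ h10 (by linear_combination a 1 0 * b0 - b 1 0 * a0)
      ext i j
      refine mul_left_cancel₀ h10 ?_
      fin_cases i <;> fin_cases j <;> simp only [Matrix.mul_apply, Fin.sum_univ_two, Fin.zero_eta, Fin.mk_one]
      · linear_combination y 1 0 * h
      · linear_combination (a 1 1 - a 0 0) * b0 - (b 1 1 - b 0 0) * a0 + a 1 0 * b1 - b 1 0 * a1 + (y 0 0 - y 1 1) * h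
      · linear_combination a 1 0 * b2 - b 1 0 * a2
      · linear_combination (-y 1 0) * h
  · have h : a 0 1 * b 1 0 = b 0 1 * a 1 0 :=
      mul_left_cancel₀ h01 (by linear_combination a 0 1 * b0 - b 0 1 * a0)
    ext i j
    refine mul_left_cancel₀ h01 ?_
    fin_cases i <;> fin_cases j <;> simp only [Matrix.mul_apply, Fin.sum_univ_two, Fin.zero_eta, Fin.mk_one]
    · linear_combination y 0 1 * h
    · linear_combination a 0 1 * b1 - b 0 1 * a1
    · linear_combination (b 0 0 - b 1 1) * a0 - (a 0 0 - a 1 1) * b0 + a 0 1 * b2 - b 0 1 * a2 + (y 0 0 - y 1 1) * h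
    · linear_combination (-y 0 1) * h

theorem trace_add (x : SL) : x.1 + (x⁻¹ : SL).1 = x.1.trace • (1 : Matrix (Fin 2) (Fin 2) F) := by
  rw [Matrix.SpecialLinearGroup.coe_inv, Matrix.adjugate_fin_two]
  ext i j
  fin_cases i <;> fin_cases j <;> simp [Matrix.trace_fin_two, add_comm]

theorem sub_one_inv (h2 : (2 : F) ≠ 0) {x : SL} {N : ℕ} (hx : x ^ N = zS) :
    ∃ T : Matrix (Fin 2) (Fin 2) F, T * (x.1 - 1) = 1 := by
  refine ⟨(-(2 : F)⁻¹) • ∑ i ∈ Finset.range N, x.1 ^ i, ?_⟩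
  rw [smul_mul_assoc, geom_sum_mul, ← Matrix.SpecialLinearGroup.coe_pow, hx, zS_val,
    show ((-1 : Matrix (Fin 2) (Fin 2) F) - 1) = (-2 : F) • (1 : Matrix (Fin 2) (Fin 2) F) by
      rw [← neg_add', ← two_smul F, neg_smul],
    smul_smul, neg_mul_neg, inv_mul_cancel₀ h2, one_smul]

theorem exists_pow_z (h2 : (2 : F) ≠ 0) {x : SL} {n : ℕ} (hx : x ^ 2 ^ n = 1) (hne : x ≠ 1) :
    ∃ N : ℕ, x ^ N = zS := by
  induction n with
  | zero => exact absurd (by simpa using hx) hne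
  | succ n ih =>
    by_cases h : x ^ 2 ^ n = 1
    · exact ih h
    · exact ⟨2 ^ n, (invol_eq h2 (by rw [← pow_add, ← two_mul, ← pow_succ', hx])).resolve_left h⟩


/-- A normalising element centralises or inverts the cyclic part. -/
theorem act_pm {m : ℕ} {g a : SL} (h2 : (2 : F) ≠ 0) (D : Fac m zS g a) {n : ℕ} (hn : 4 * m = 2 ^ n) {M : GL2}
    {k : ℤ} (hk : cj M g = g ^ k) : g ^ k = g ∨ g ^ k = g⁻¹ := by
  have htr : (g ^ k).1 + (g ^ (-k)).1 = g.1 + (g⁻¹ : SL).1 := by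
    rw [zpow_neg, ← hk, ← map_inv, cj_val, cj_val, ← Matrix.add_mul, ← Matrix.mul_add, trace_add,
      Matrix.mul_smul, Matrix.smul_mul, mul_one, Units.mul_inv]
  have hprod : ((g ^ (k - 1)).1 - 1) * ((g ^ (k + 1)).1 - 1) = 0 := by
    have e : ∀ i j : ℤ, (g ^ i).1 * (g ^ j).1 = (g ^ (i + j)).1 := fun i j => by
      rw [zpow_add, Matrix.SpecialLinearGroup.coe_mul]
    have h0 := congrArg (fun A => (g ^ k).1 * A) htr
    simp only [Matrix.mul_add] at h0
    rw [e, e, show g.1 = (g ^ (1 : ℤ)).1 by rw [zpow_one], show (g⁻¹ : SL).1 = (g ^ (-1 : ℤ)).1 by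
      rw [zpow_neg_one], e, e, add_neg_cancel, zpow_zero, Matrix.SpecialLinearGroup.coe_one] at h0
    rw [Matrix.sub_mul, Matrix.mul_sub, Matrix.mul_sub, e, mul_one, one_mul, mul_one,
      show k - 1 + (k + 1) = k + k by ring, show k - 1 = k + -1 by ring]
    calc _ = (g ^ (k + k)).1 + 1 - ((g ^ (k + 1)).1 + (g ^ (k + -1)).1) := by abel
      _ = 0 := by rw [h0, sub_self]
  by_cases h1 : g ^ (k - 1) = 1
  · left
    rw [zpow_sub, zpow_one, mul_inv_eq_one] at h1
    exact h1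
  · right
    obtain ⟨N, hN⟩ := exists_pow_z h2 (n := n) (by
      rw [← zpow_natCast (g ^ (k - 1)), ← zpow_mul, D.zpow_one_iff]
      exact ⟨k - 1, by rw [← hn]; push_cast; ring⟩) h1
    obtain ⟨T, hT⟩ := sub_one_inv h2 hN
    have h3 : (g ^ (k + 1)).1 - 1 = 0 := by
      calc (g ^ (k + 1)).1 - 1 = T * ((g ^ (k - 1)).1 - 1) * ((g ^ (k + 1)).1 - 1) := by rw [hT, one_mul]
        _ = 0 := by rw [mul_assoc, hprod, mul_zero]
    have h4 : g ^ (k + 1) = 1 := Subtype.ext (sub_eq_zero.1 h3)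
    rw [zpow_add, zpow_one, mul_eq_one_iff_eq_inv] at h4
    exact h4

/-- An element of nonsquare determinant moves an outer element by an odd power. -/
theorem act_odd {m : ℕ} {g a : SL} (h2 : (2 : F) ≠ 0) (D : Fac m zS g a) {n : ℕ} (hn : 4 * m = 2 ^ n) {M : GL2}
    (hdet : ¬ IsSquare M.1.det) {k i : ℤ} (hk : cj M g = g ^ k) (hi : cj M a = g ^ i * a) : ¬ 2 ∣ i := by
  rintro ⟨j, rfl⟩
  obtain ⟨y, hyd, hyg, hya⟩ : ∃ y : GL2, y.1.det = M.1.det ∧ cj y g = g ^ k ∧ cj y a = a := by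
    refine ⟨Matrix.SpecialLinearGroup.toGL (g ^ (-j)) * M, ?_, ?_, ?_⟩
    · rw [Units.val_mul, Matrix.det_mul]
      exact (congrArg (· * M.1.det) (g ^ (-j)).2).trans (one_mul _)
    · rw [cj_mul, hk, cj_toGL, ← zpow_neg, ← zpow_add, ← zpow_add]
      ring_nf
    · rw [cj_mul, hi, cj_toGL, ← zpow_neg, ← mul_assoc, ← zpow_add, mul_assoc, D.a_mul, ← mul_assoc,
        ← zpow_add, show -j + 2 * j + - - -j = 0 by ring, zpow_zero, one_mul]
  have hpm : cj y g = g ∨ cj y g = g⁻¹ := hyg ▸ act_pm h2 D hn hk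
  obtain ⟨y', hd', hg', ha'⟩ : ∃ y' : GL2, y'.1.det = M.1.det ∧ cj y' g = g ∧ cj y' a = a := by
    rcases hpm with h | h
    · exact ⟨y, hyd, h, hya⟩
    · refine ⟨y * Matrix.SpecialLinearGroup.toGL a, ?_, ?_, ?_⟩
      · rw [Units.val_mul, Matrix.det_mul]
        exact (congrArg (y.1.det * ·) a.2).trans ((mul_one _).trans hyd)
      · rw [cj_mul, cj_toGL, D.inv, map_inv, h, inv_inv]
      · rw [cj_mul, cj_toGL, mul_inv_cancel_right, hya]
  refine hdet ⟨y'.1 0 0, ?_⟩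
  rw [← hd']
  refine scalar_of_comm (cj_comm hg') (cj_comm ha') fun h => ?_
  have h' : g * a = a * g := Subtype.ext h
  have e := D.inv
  rw [← h', mul_inv_cancel_right] at e
  have := Nat.le_of_dvd two_pos (orderOf_dvd_of_pow_eq_one
    (show g ^ 2 = 1 by rw [pow_two]; exact mul_eq_one_iff_eq_inv.2 e))
  have := D.pos
  have := D.ord
  omega

/-- The action on an outer element, once the cyclic part is invariant. -/
theorem act_outer {m : ℕ} {g a : SL} (h2 : (2 : F) ≠ 0) (D : Fac m zS g a) {n : ℕ} (hn : 4 * m = 2 ^ n) {M : GL2}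
    (hdet : ¬ IsSquare M.1.det) {k : ℤ} (hk : cj M g = g ^ k) (ha : cj M a ∈ D.Q) :
    ∃ k r : ℤ, (k = 1 ∨ k = -1) ∧ ¬ 2 ∣ r ∧ cj M g = g ^ k ∧ cj M a = g ^ r * a := by
  obtain ⟨i, h | h⟩ := D.mem_Q.1 ha
  · exfalso
    have hc : cj M (g * a) = cj M (a * g) := by
      rw [map_mul, map_mul, h, hk, ← zpow_add, ← zpow_add, add_comm]
    have h' := cj_injective M hc
    have e := D.inv
    rw [← h', mul_inv_cancel_right] at e
    have := Nat.le_of_dvd two_pos (orderOf_dvd_of_pow_eq_one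
      (show g ^ 2 = 1 by rw [pow_two]; exact mul_eq_one_iff_eq_inv.2 e))
    have := D.pos
    have := D.ord
    omega
  · rcases act_pm h2 D hn hk with e | e
    · exact ⟨1, i, Or.inl rfl, act_odd h2 D hn hdet hk h, by rw [hk, e, zpow_one], h⟩
    · exact ⟨-1, i, Or.inr rfl, act_odd h2 D hn hdet hk h, by rw [hk, e, zpow_neg_one], h⟩

/-- An invariant cyclic subgroup of the quaternion group of order 8. -/
theorem exists_fixed {g a : SL} (h2 : (2 : F) ≠ 0) (D : Fac 1 zS g a) : ∀ (e : ℕ) (M : GL2),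
    (∀ x ∈ D.Q, cj M x ∈ D.Q) → (∀ x ∈ D.Q, cj (M ^ 2 ^ e) x = x) →
    ∃ x ∈ D.Q, ¬ (x = 1 ∨ x = zS) ∧ (x⁻¹ * cj M x = 1 ∨ x⁻¹ * cj M x = zS) := by
  let Z : SL → Prop := fun x => x = 1 ∨ x = zS
  have hmul : ∀ {x y}, Z x → Z y → Z (x * y) := by
    rintro x y (rfl | rfl) (rfl | rfl)
    exacts [Or.inl (one_mul 1), Or.inr (one_mul _), Or.inr (mul_one _), Or.inl zS_sq]
  have hinv : ∀ {x}, Z x → Z x⁻¹ := by
    rintro x (rfl | rfl)
    exacts [Or.inl inv_one, Or.inr (inv_eq_of_mul_eq_one_right zS_sq)]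
  have hsq : ∀ {x}, x ∈ D.Q → Z (x * x) := by
    intro x hx
    obtain ⟨i, rfl | rfl⟩ := D.mem_Q.1 hx
    · rcases Int.even_or_odd' i with ⟨c, rfl | rfl⟩
      · left; rw [← zpow_add, D.zpow_one_iff]; exact ⟨c, by push_cast; ring⟩
      · right; rw [← zpow_add, ← D.half, D.zpow_eq]; exact ⟨-c, by push_cast; ring⟩
    · exact Or.inr (D.outer_sq i)
  have hcom : ∀ {x y}, x ∈ D.Q → y ∈ D.Q → Z (y * x * y⁻¹ * x⁻¹) := by
    intro x y hx hy
    rw [show y * x * y⁻¹ * x⁻¹ = y * y * (y⁻¹ * x * (y⁻¹ * x)) * (x * x)⁻¹ by group]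
    exact hmul (hmul (hsq hy) (hsq (mul_mem (inv_mem hy) hx))) (hinv (hsq hx))
  intro e
  induction e with
  | zero =>
    intro M _ hM
    refine ⟨g, by simpa using D.g_mem 1, ?_, Or.inl ?_⟩
    · rintro (h | h)
      · exact (D.odd_ne (r := 1) (by norm_num)).1 (by rwa [zpow_one])
      · exact (D.odd_ne (r := 1) (by norm_num)).2 (by rwa [zpow_one])
    · have := hM g (by simpa using D.g_mem 1)
      rw [pow_zero, pow_one] at this
      rw [this, inv_mul_cancel]
  | succ e ih =>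
    intro M hN hM
    obtain ⟨x, hx, hx1, hfix⟩ := ih (M * M) (fun x hx => by rw [cj_mul]; exact hN _ (hN x hx))
      (fun x hx => by rw [← pow_two, ← pow_mul, ← pow_succ', hM x hx])
    set y := cj M x with hy
    have hyQ : y ∈ D.Q := hN x hx
    by_cases h : Z (x⁻¹ * y)
    · exact ⟨x, hx, hx1, h⟩
    refine ⟨x * y, mul_mem hx hyQ, fun hw => h ?_, ?_⟩
    · rw [show x⁻¹ * y = (x * x)⁻¹ * (x * y) by group]
      exact hmul (hinv (hsq hx)) hw
    · have e : (x * y)⁻¹ * cj M (x * y) = y⁻¹ * x⁻¹ * y * x * (x⁻¹ * cj (M * M) x) := by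
        rw [map_mul, cj_mul, ← hy]; group
      rw [e]
      refine hmul ?_ hfix
      have := hcom (inv_mem hx) (inv_mem hyQ)
      rwa [inv_inv, inv_inv] at this

/-- A Sylow 2-subgroup is generalised quaternion. -/
theorem exists_quat [Fintype F] (hF : Odd (Fintype.card F)) (Q : Sylow 2 SL) :
    (2 : F) ≠ 0 ∧ ∃ (m : ℕ) (g a : SL) (D : Fac m zS g a), D.Q = (Q : Subgroup SL) ∧ ∃ s : ℕ, m = 2 ^ s := by
  haveI : Fact (Nat.Prime 2) := ⟨Nat.prime_two⟩
  obtain ⟨p, hpF⟩ := CharP.exists F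
  haveI := hpF
  obtain ⟨f, hp, hcard⟩ := FiniteField.card F p
  haveI : Fact p.Prime := ⟨hp⟩
  have hp2 : p ≠ 2 := by
    rintro rfl
    rw [hcard] at hF
    exact (Nat.not_odd_iff_even.2 (Nat.even_pow.2 ⟨even_two, f.ne_zero⟩)) hF
  have h2 : (2 : F) ≠ 0 := Ring.two_ne_zero (by rwa [ringChar.eq F p])
  have hnc : ∃ x ∈ (Q : Subgroup SL), ∃ y ∈ (Q : Subgroup SL), x * y ≠ y * x := by
    obtain ⟨R, hR, x, hx, y, hy, hxy⟩ := SL2Sylow.exists_noncomm_twoGroup (F := F) p hp2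
    obtain ⟨T, hT⟩ := hR.exists_le_sylow
    obtain ⟨c, hc⟩ := MulAction.exists_smul_eq SL T Q
    refine ⟨c * x * c⁻¹, ?_, c * y * c⁻¹, ?_, fun h => hxy ?_⟩
    · rw [← hc, Sylow.coe_subgroup_smul]; exact ⟨x, hT hx, rfl⟩
    · rw [← hc, Sylow.coe_subgroup_smul]; exact ⟨y, hT hy, rfl⟩
    · rwa [show c * x * c⁻¹ * (c * y * c⁻¹) = c * (x * y) * c⁻¹ by group,
        show c * y * c⁻¹ * (c * x * c⁻¹) = c * (y * x) * c⁻¹ by group, mul_left_inj, mul_right_inj] at h
  obtain ⟨k, hk, ⟨E⟩⟩ := SL2Sylow.quaternion_of_twoGroup p hp2 (Q : Subgroup SL) Q.2 hnc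
  obtain ⟨s, rfl⟩ : ∃ s, k = s + 1 := ⟨k - 1, by omega⟩
  haveI : NeZero (2 ^ (s + 1)) := ⟨by positivity⟩
  set m := 2 ^ s with hm
  have h4 : 2 * 2 ^ (s + 1) = 4 * m := by rw [hm, pow_succ]; ring
  set g₀ : SL := ((E.symm (QuaternionGroup.a 1) : (Q : Subgroup SL)) : SL) with hg₀
  set a₀ : SL := ((E.symm (QuaternionGroup.xa 0) : (Q : Subgroup SL)) : SL) with ha₀
  have ord : orderOf g₀ = 4 * m := by
    rw [hg₀, Subgroup.orderOf_coe, MulEquiv.orderOf_eq, QuaternionGroup.orderOf_a_one, h4]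
  have hm0 : 0 < m := by positivity
  have half : g₀ ^ (2 * (m : ℤ)) = zS := by
    rw [show (2 * (m : ℤ)) = ((2 * m : ℕ) : ℤ) by push_cast; ring, zpow_natCast]
    refine (invol_eq h2 ?_).resolve_left fun h => ?_
    · rw [← pow_add, show 2 * m + 2 * m = 4 * m by ring, ← ord, pow_orderOf_eq_one]
    · have := Nat.le_of_dvd (by omega) (orderOf_dvd_of_pow_eq_one h)
      omega
  have D₀ : Fac m zS g₀ a₀ := by
    refine Fac.mk' hm0 ord half ?_ ?_
    · have e : (QuaternionGroup.xa (0 : ZMod (2 * 2 ^ (s + 1)))) * QuaternionGroup.xa 0 =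
          QuaternionGroup.a 1 ^ (2 * m) := by
        rw [QuaternionGroup.xa_mul_xa, QuaternionGroup.a_one_pow, add_zero, sub_zero, hm]
        exact congrArg QuaternionGroup.a (congrArg Nat.cast (pow_succ' 2 s))
      rw [← half, show (2 * (m : ℤ)) = ((2 * m : ℕ) : ℤ) by push_cast; ring, zpow_natCast, ha₀, hg₀,
        ← Subgroup.coe_mul, ← map_mul, e, map_pow, Subgroup.coe_pow]
    · have e : QuaternionGroup.xa (0 : ZMod (2 * 2 ^ (s + 1))) * QuaternionGroup.a 1 =
          (QuaternionGroup.a 1)⁻¹ * QuaternionGroup.xa 0 := by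
        rw [eq_inv_mul_iff_mul_eq]
        simp
      rw [mul_inv_eq_iff_eq_mul, ha₀, hg₀, ← Subgroup.coe_inv, ← map_inv, ← Subgroup.coe_mul,
        ← Subgroup.coe_mul, ← map_mul, ← map_mul, e]
  have hQ₀ : D₀.Q = (Q : Subgroup SL) := by
    refine Subgroup.eq_of_le_of_card_ge ?_ (le_of_eq ?_)
    · rintro _ ⟨i, rfl | rfl⟩
      · exact zpow_mem (SetLike.coe_mem _) i
      · exact mul_mem (zpow_mem (SetLike.coe_mem _) i) (SetLike.coe_mem _)
    · rw [D₀.card_Q, Nat.card_congr E.toEquiv, Nat.card_eq_fintype_card, QuaternionGroup.card, hm,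
        pow_succ]
      ring
  exact ⟨h2, m, g₀, a₀, D₀, hQ₀, s, hm⟩

/-- A Sylow 2-subgroup with a 2-element of nonsquare determinant normalising it. -/
theorem exists_fac [Fintype F] (hF : Odd (Fintype.card F)) (Q : Sylow 2 SL) {M : GL2}
    (hdet : ¬ IsSquare M.1.det) (hN : ∀ x ∈ (Q : Subgroup SL), cj M x ∈ (Q : Subgroup SL)) {e : ℕ}
    (hM : ∀ x : SL, cj (M ^ 2 ^ e) x = x) :
    ∃ (m : ℕ) (g a : SL) (D : Fac m zS g a), D.Q = (Q : Subgroup SL) ∧
      ∃ k r : ℤ, (k = 1 ∨ k = -1) ∧ ¬ 2 ∣ r ∧ cj M g = g ^ k ∧ cj M a = g ^ r * a := by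
  obtain ⟨h2, m, g₀, a₀, D₀, hQ₀, s, hm⟩ := exists_quat hF Q
  have ord := D₀.ord
  have hn : 4 * m = 2 ^ (s + 2) := by rw [hm, pow_add]; ring
  rcases Nat.eq_zero_or_pos s with hs | hs
  · obtain rfl : m = 1 := by rw [hm, hs, pow_zero]
    obtain ⟨x, hx, hx1, hfix⟩ := exists_fixed h2 D₀ e M
      (fun y hy => by
        have hy' : y ∈ (Q : Subgroup SL) := hQ₀ ▸ hy
        exact hQ₀.symm ▸ hN y hy') (fun y _ => hM y)
    have hxx : x * x = zS := by
      obtain ⟨i, rfl | rfl⟩ := D₀.mem_Q.1 hx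
      · rcases Int.even_or_odd' i with ⟨c, rfl | rfl⟩
        · refine absurd (invol_eq h2 ?_) hx1
          rw [← zpow_add, D₀.zpow_one_iff]; exact ⟨c, by push_cast; ring⟩
        · rw [← zpow_add, ← D₀.half, D₀.zpow_eq]; exact ⟨-c, by push_cast; ring⟩
      · exact D₀.outer_sq i
    have hord : orderOf x = 4 * 1 := by
      refine orderOf_eq_prime_pow (p := 2) (n := 1) ?_ ?_
      · rw [pow_one, pow_two, hxx]; exact D₀.z_ne
      · rw [show 2 ^ (1 + 1) = 2 + 2 from rfl, pow_add, pow_two, hxx, zS_sq]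
    obtain ⟨b, hb, hbx⟩ : ∃ b ∈ D₀.Q, b ∉ Subgroup.zpowers x := by
      by_contra! hall
      obtain ⟨i, hi⟩ := hall g₀ (by simpa using D₀.g_mem 1)
      obtain ⟨j, hj⟩ := hall a₀ D₀.a_mem
      have e := D₀.inv
      simp only [] at hi hj
      rw [← hi, ← hj, ← zpow_neg, ← zpow_add, ← zpow_add, show j + i + -j = i by ring, hi] at e
      have := Nat.le_of_dvd two_pos (orderOf_dvd_of_pow_eq_one
        (show g₀ ^ 2 = 1 by rw [pow_two]; exact mul_eq_one_iff_eq_inv.2 e))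
      have := D₀.ord
      omega
    have hbb : b * b = zS := by
      obtain ⟨i, rfl | rfl⟩ := D₀.mem_Q.1 hb
      · rcases Int.even_or_odd' i with ⟨c, rfl | rfl⟩
        · rcases invol_eq h2 (x := g₀ ^ (2 * c)) (by
            rw [← zpow_add, D₀.zpow_one_iff]; exact ⟨c, by push_cast; ring⟩) with h | h
          · exact absurd (h ▸ one_mem _) hbx
          · exact absurd (h ▸ hxx ▸ mul_mem (Subgroup.mem_zpowers x) (Subgroup.mem_zpowers x)) hbx
        · rw [← zpow_add, ← D₀.half, D₀.zpow_eq]; exact ⟨-c, by push_cast; ring⟩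
      · exact D₀.outer_sq i
    have hxinv : x⁻¹ = x * zS := inv_eq_of_mul_eq_one_right (by rw [← mul_assoc, hxx, zS_sq])
    have hbinv : b * x * b⁻¹ = x⁻¹ := by
      have hw : ∀ w ∈ D₀.Q, w * w = 1 ∨ w * w = zS := fun w hw => by
        obtain ⟨i, rfl | rfl⟩ := D₀.mem_Q.1 hw
        · rcases Int.even_or_odd' i with ⟨c, rfl | rfl⟩
          · left; rw [← zpow_add, D₀.zpow_one_iff]; exact ⟨c, by push_cast; ring⟩
          · right; rw [← zpow_add, ← D₀.half, D₀.zpow_eq]; exact ⟨-c, by push_cast; ring⟩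
        · exact Or.inr (D₀.outer_sq i)
      rcases hw (b * x) (mul_mem hb hx) with h | h
      · exfalso
        refine hbx ?_
        have hbe : b = b * x * x⁻¹ := (mul_inv_cancel_right b x).symm
        rcases invol_eq h2 h with e | e <;> rw [e] at hbe <;> rw [hbe]
        · exact mul_mem (one_mem _) (inv_mem (Subgroup.mem_zpowers x))
        · rw [← hxx]
          exact mul_mem (mul_mem (Subgroup.mem_zpowers x) (Subgroup.mem_zpowers x))
            (inv_mem (Subgroup.mem_zpowers x))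
      · rw [mul_inv_eq_iff_eq_mul, eq_inv_mul_iff_mul_eq]
        calc x * (b * x) = b⁻¹ * (b * x * (b * x)) := by group
          _ = b⁻¹ * (b * b) := by rw [h, hbb]
          _ = b := inv_mul_cancel_left b b
    have D : Fac 1 zS x b := Fac.mk' one_pos hord (by
      rw [Nat.cast_one, mul_one, zpow_two, hxx]) hbb hbinv
    have hQD : D.Q = (Q : Subgroup SL) := by
      rw [← hQ₀]
      refine Subgroup.eq_of_le_of_card_ge ?_ (le_of_eq (by rw [D.card_Q, D₀.card_Q]))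
      rintro _ ⟨i, rfl | rfl⟩
      · exact zpow_mem hx i
      · exact mul_mem (zpow_mem hx i) hb
    obtain ⟨k, hk⟩ : ∃ k : ℤ, cj M x = x ^ k := by
      rcases hfix with h | h
      · exact ⟨1, by rw [zpow_one]; exact (inv_mul_eq_one.1 h).symm⟩
      · exact ⟨-1, by rw [zpow_neg_one, hxinv]; exact inv_mul_eq_iff_eq_mul.1 h⟩
    refine ⟨1, x, b, D, hQD, act_outer h2 D (n := 2) rfl hdet hk ?_⟩
    exact hQD.symm ▸ hN b (hQD ▸ D.a_mem)
  · have hg : cj M g₀ ∈ D₀.Q := hQ₀.symm ▸ hN g₀ (hQ₀ ▸ (by simpa using D₀.g_mem 1 : g₀ ∈ D₀.Q))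
    obtain ⟨i, h | h⟩ := D₀.mem_Q.1 hg
    · refine ⟨m, g₀, a₀, D₀, hQ₀, act_outer h2 D₀ hn hdet h ?_⟩
      exact hQ₀.symm ▸ hN a₀ (hQ₀ ▸ D₀.a_mem)
    · exfalso
      have h1 : orderOf (cj M g₀) = orderOf g₀ := orderOf_injective _ (cj_injective M) g₀
      have h4' : (g₀ ^ i * a₀) ^ 4 = 1 := by
        rw [show (4 : ℕ) = 2 + 2 from rfl, pow_add, pow_two, D₀.outer_sq, zS_sq]
      rw [h, ord] at h1
      have := Nat.le_of_dvd (by norm_num) (orderOf_dvd_of_pow_eq_one h4')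
      have : 2 ≤ m := by
        rw [hm]
        calc 2 = 2 ^ 1 := rfl
          _ ≤ 2 ^ s := Nat.pow_le_pow_right two_pos hs
      omega

end Cfsg.Agent.G2Sylow
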