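import Cfsg.Agent.Lib.G2Sylow.CentCore
import Mathlib.GroupTheory.Perm.Cycle.Type
import Mathlib.LinearAlgebra.Matrix.SpecialLinearGroup
import Cfsg.Agent.Lib.SL2Pres.Torus
import Cfsg.Agent.Lib.G2Sylow.SLTwo

/-!
Small facts for the factors of the centraliser.
-/

set_option autoImplicit false
set_option linter.unusedSectionVars false

namespace Cfsg.Agent.G2Sylow

universe u

open Matrix (SpecialLinearGroup)
open SL2Pres (up low)

/-- No element of order 8 on seven points. -/
theorem perm_seven_pow {p : Equiv.Perm (Fin 7)} (h : p ^ 8 = 1) : p ^ 4 = 1 := by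
  have h1 : orderOf p ∣ 420 := by
    rw [← Equiv.Perm.lcm_cycleType, Multiset.lcm_dvd]
    intro n hn
    have h2 := Equiv.Perm.two_le_of_mem_cycleType hn
    have h7 : n ≤ 7 := by
      refine le_trans (Multiset.le_sum_of_mem hn) (le_trans (Equiv.Perm.sum_cycleType_le p) ?_)
      simp
    interval_cases n <;> norm_num
  have h8 := orderOf_dvd_of_pow_eq_one h
  exact orderOf_dvd_iff_pow_eq_one.1 ((Nat.dvd_gcd h1 h8).trans (by norm_num))

variable {F : Type*} [Field F]

local notation "SL" => SpecialLinearGroup (Fin 2) F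

/-- `SL₂` in odd characteristic has only the trivial map into a group of exponent two. -/
theorem sl_hom_trivial (h2 : (2 : F) ≠ 0) {M : Type*} [Group M] (f : SL →* M) (hM : ∀ x : SL, f x * f x = 1)
    (x : SL) : f x = 1 := by
  have hk : f.ker = ⊤ := by
    rw [eq_top_iff, ← SL2Pres.closure_up_low, Subgroup.closure_le]
    rintro y (⟨t, rfl⟩ | ⟨t, rfl⟩) <;> rw [SetLike.mem_coe, MonoidHom.mem_ker]
    · rw [show t = t / 2 + t / 2 by field_simp; ring, ← SL2Pres.up_add, map_mul, hM]
    · rw [show low t = low (t / 2) * low (t / 2) from Subtype.ext (by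
        simp [SL2Pres.low_val, Matrix.mul_fin_two]; field_simp; ring), map_mul, hM]
  have : x ∈ f.ker := hk ▸ Subgroup.mem_top x
  exact this

/-- A pair not commuting has centraliser `±1`. -/
theorem sl_cent_pair {a b e : SL} (ha : e * a = a * e) (hb : e * b = b * e) (hne : a * b ≠ b * a) :
    e * e = 1 := by
  have ha' : e.1 * a.1 = a.1 * e.1 := congrArg Subtype.val ha
  have hb' : e.1 * b.1 = b.1 * e.1 := congrArg Subtype.val hb
  have hne' : a.1 * b.1 ≠ b.1 * a.1 := fun h => hne (Subtype.ext h)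
  have d0 := scalar_of_comm ha' hb' hne'
  have d1 := scalar_of_comm (y := e.1 + 1) (by rw [add_mul, mul_add, one_mul, mul_one, ha'])
    (by rw [add_mul, mul_add, one_mul, mul_one, hb']) hne'
  have he := e.2
  rw [he] at d0
  rw [Matrix.det_fin_two] at he
  simp [Matrix.det_fin_two] at d1
  have hps : e.1 1 1 = e.1 0 0 := by linear_combination d1 - he - d0
  have hqr : e.1 0 1 * e.1 1 0 = 0 := by linear_combination e.1 0 0 * hps - he - d0
  have a0 := congrFun (congrFun ha' 0) 0
  have a1 := congrFun (congrFun ha' 0) 1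
  have a2 := congrFun (congrFun ha' 1) 0
  have b0 := congrFun (congrFun hb' 0) 0
  have b1 := congrFun (congrFun hb' 0) 1
  have b2 := congrFun (congrFun hb' 1) 0
  simp [Matrix.mul_apply, Fin.sum_univ_two, hps] at a0 a1 a2 b0 b1 b2
  have hq : e.1 0 1 = 0 := by
    by_contra hq
    have hr := (mul_eq_zero.1 hqr).resolve_left hq
    have ea : a.1 1 0 = 0 := (mul_eq_zero.1
      (show e.1 0 1 * a.1 1 0 = 0 by rw [hr] at a0; linear_combination a0)).resolve_left hq
    have eb : b.1 1 0 = 0 := (mul_eq_zero.1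
      (show e.1 0 1 * b.1 1 0 = 0 by rw [hr] at b0; linear_combination b0)).resolve_left hq
    have ea' : a.1 1 1 = a.1 0 0 := mul_left_cancel₀ hq (by linear_combination a1)
    have eb' : b.1 1 1 = b.1 0 0 := mul_left_cancel₀ hq (by linear_combination b1)
    refine hne' ?_
    ext i j
    fin_cases i <;> fin_cases j <;> simp [Matrix.mul_apply, Fin.sum_univ_two, ea, eb, ea', eb'] <;> ring
  have hr : e.1 1 0 = 0 := by
    by_contra hr
    have ea : a.1 0 1 = 0 := (mul_eq_zero.1
      (show e.1 1 0 * a.1 0 1 = 0 by rw [hq] at a0; linear_combination -a0)).resolve_left hr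
    have eb : b.1 0 1 = 0 := (mul_eq_zero.1
      (show e.1 1 0 * b.1 0 1 = 0 by rw [hq] at b0; linear_combination -b0)).resolve_left hr
    have ea' : a.1 1 1 = a.1 0 0 := mul_left_cancel₀ hr (by linear_combination -a2)
    have eb' : b.1 1 1 = b.1 0 0 := mul_left_cancel₀ hr (by linear_combination -b2)
    refine hne' ?_
    ext i j
    fin_cases i <;> fin_cases j <;> simp [Matrix.mul_apply, Fin.sum_univ_two, ea, eb, ea', eb'] <;> ring
  refine Subtype.ext ?_
  show e.1 * e.1 = 1
  ext i j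
  fin_cases i <;> fin_cases j <;> simp [Matrix.mul_apply, Fin.sum_univ_two, hq, hr, hps] <;> linear_combination -d0

section

variable {H : Type u} [Group H] [Finite H] {T : Sylow 2 H} {m : ℕ} {z g₁ a₁ g₂ a₂ w : ↥(T : Subgroup H)}
variable {D : Shape ↥(T : Subgroup H) m z g₁ a₁ g₂ a₂ w}

namespace Shape

/-- Equal up to `z`. -/
def Eqz (_D : Shape ↥(T : Subgroup H) m z g₁ a₁ g₂ a₂ w) (x y : H) : Prop := y = x ∨ y = x * z

variable (C : Ctx D)
include C

theorem Ctx.zz : (z : H) * z = 1 := by rw [← Subgroup.coe_mul, D.F₁.z_sq, OneMemClass.coe_one]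

theorem Ctx.z_ne : (z : H) ≠ 1 := fun e => D.F₁.z_ne (Subtype.ext (by rw [e, OneMemClass.coe_one]))

theorem Ctx.eqz_mul {x x' y y' : H} (h : D.Eqz x x') (h' : D.Eqz y y') : D.Eqz (x * y) (x' * y') := by
  rcases h with rfl | rfl <;> rcases h' with rfl | rfl
  · exact Or.inl rfl
  · exact Or.inr (mul_assoc _ _ _).symm
  · exact Or.inr (by rw [mul_assoc, C.hz, ← mul_assoc])
  · exact Or.inl (by rw [mul_assoc x, C.hz, mul_assoc y, C.zz, mul_one])

theorem Ctx.eqz_symm {x y : H} (h : D.Eqz x y) : D.Eqz y x := by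
  rcases h with rfl | rfl
  · exact Or.inl rfl
  · exact Or.inr (by rw [mul_assoc, C.zz, mul_one])

theorem Ctx.eqz_trans {x y v : H} (h : D.Eqz x y) (h' : D.Eqz y v) : D.Eqz x v := by
  rcases h with rfl | rfl <;> rcases h' with rfl | rfl
  · exact Or.inl rfl
  · exact Or.inr rfl
  · exact Or.inr rfl
  · exact Or.inl (by rw [mul_assoc, C.zz, mul_one])

theorem Ctx.eqz_inv {x y : H} (h : D.Eqz x y) : D.Eqz x⁻¹ y⁻¹ := by
  rcases h with rfl | rfl
  · exact Or.inl rfl
  · exact Or.inr (by rw [mul_inv_rev, inv_eq_of_mul_eq_one_right C.zz, C.hz])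

theorem Ctx.eqz_conj (c : H) {x y : H} (h : D.Eqz x y) : D.Eqz (c * x * c⁻¹) (c * y * c⁻¹) :=
  C.eqz_mul (C.eqz_mul (Or.inl rfl) h) (Or.inl rfl)

theorem Ctx.comm_iff {c x : H} :
    (c * x * c⁻¹ * x⁻¹ = 1 ∨ c * x * c⁻¹ * x⁻¹ = (z : H)) ↔ D.Eqz x (c * x * c⁻¹) := by
  rw [Eqz, mul_inv_eq_one, mul_inv_eq_iff_eq_mul (b := x), C.hz]

end Shape

end

end Cfsg.Agent.G2Sylow
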