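import Cfsg.Agent.Lib.ProdFusion.Main
import Cfsg.Agent.Lib.ProdFusion.Final
import Cfsg.Agent.Lib.GW.Main
import Cfsg.Agent.Lib.GW.Consequences
import Cfsg.Agent.Lib.TwoGroups.Lifts
import Mathlib.GroupTheory.Transfer

/-!
A group with trivial odd core whose Sylow 2-subgroup is a product of two dihedral groups of the same order,
all products of two involutions of the factors being conjugate.
-/

set_option autoImplicit false
set_option linter.unusedSectionVars false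
set_option linter.style.haveILetI false

namespace Cfsg.Agent.G2Sylow

open Cfsg Cfsg.Agent.ProdFusion Cfsg.Agent.GW

universe u

variable {X : Type u} [Group X] [Finite X]

/-- `S` is dihedral of order `4m` on `x`, `y`. -/
structure DFac (m : ℕ) (S : Subgroup X) (x y : X) : Prop where
  pos : 0 < m
  ord : orderOf x = 2 * m
  ysq : y * y = 1
  inv : y * x * y⁻¹ = x⁻¹
  out : ∀ i : ℤ, x ^ i ≠ y
  eq : S = Subgroup.closure {x, y}

namespace DFac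

variable {m : ℕ} {S : Subgroup X} {x y : X}

theorem x_mem (d : DFac m S x y) : x ∈ S := d.eq ▸ Subgroup.subset_closure (Set.mem_insert _ _)

theorem y_mem (d : DFac m S x y) : y ∈ S :=
  d.eq ▸ Subgroup.subset_closure (Set.mem_insert_of_mem _ (Set.mem_singleton _))

theorem swap (d : DFac m S x y) (i : ℤ) : y * x ^ i = x ^ (-i) * y := by
  rw [← mul_inv_eq_iff_eq_mul, ← conj_zpow, d.inv, inv_zpow, zpow_neg]

theorem cases (d : DFac m S x y) {s : X} (hs : s ∈ S) : ∃ i : ℤ, s = x ^ i ∨ s = x ^ i * y := by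
  rw [d.eq] at hs
  induction hs using Subgroup.closure_induction with
  | mem s hs =>
    rcases hs with rfl | rfl
    · exact ⟨1, Or.inl (zpow_one s).symm⟩
    · exact ⟨0, Or.inr (by rw [zpow_zero, one_mul])⟩
  | one => exact ⟨0, Or.inl (zpow_zero x).symm⟩
  | mul a b _ _ ha hb =>
    obtain ⟨i, rfl | rfl⟩ := ha <;> obtain ⟨j, rfl | rfl⟩ := hb
    · exact ⟨i + j, Or.inl (zpow_add x i j).symm⟩
    · exact ⟨i + j, Or.inr (by rw [← mul_assoc, ← zpow_add])⟩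
    · exact ⟨i - j, Or.inr (by rw [mul_assoc, d.swap, ← mul_assoc, ← zpow_add, ← sub_eq_add_neg])⟩
    · exact ⟨i - j, Or.inl (by
        rw [mul_assoc, ← mul_assoc y, d.swap, mul_assoc (x ^ (-j)), d.ysq, mul_one, ← zpow_add, ← sub_eq_add_neg])⟩
  | inv a _ ha =>
    obtain ⟨i, rfl | rfl⟩ := ha
    · exact ⟨-i, Or.inl (zpow_neg x i).symm⟩
    · refine ⟨i, Or.inr ?_⟩
      rw [mul_inv_rev, inv_eq_of_mul_eq_one_right d.ysq, ← zpow_neg, d.swap, neg_neg]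

theorem out_sq (d : DFac m S x y) (i : ℤ) : x ^ i * y * (x ^ i * y) = 1 := by
  rw [mul_assoc, ← mul_assoc y, d.swap, mul_assoc (x ^ (-i)), d.ysq, mul_one, ← zpow_add, add_neg_cancel,
    zpow_zero]

theorem out_ne (d : DFac m S x y) (i j : ℤ) : x ^ i * y ≠ x ^ j := fun h =>
  d.out (-i + j) (by rw [zpow_add, ← h, ← mul_assoc, ← zpow_add, neg_add_cancel, zpow_zero, one_mul])

theorem v_ord (d : DFac m S x y) : orderOf (x ^ m) = 2 := by
  rw [orderOf_pow_of_dvd d.pos.ne' (d.ord ▸ dvd_mul_left m 2), d.ord, Nat.mul_div_cancel _ d.pos]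

theorem v_sq (d : DFac m S x y) : x ^ m * x ^ m = 1 := by
  rw [← pow_add, ← two_mul, ← d.ord, pow_orderOf_eq_one]

theorem v_ne (d : DFac m S x y) : x ^ m ≠ 1 := fun e => by
  have := d.v_ord
  rw [e, orderOf_one] at this
  omega

theorem outer (d : DFac m S x y) (i : ℤ) :
    x ^ i * y ∈ S ∧ x ^ i * y * (x ^ i * y) = 1 ∧ x ^ i * y ≠ 1 :=
  ⟨mul_mem (zpow_mem d.x_mem i) d.y_mem, d.out_sq i, fun h => d.out_ne i 0 (by rw [h, zpow_zero])⟩

theorem axis (d : DFac m S x y) : Axis S (Subgroup.zpowers x) (x ^ m) where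
  le := Subgroup.zpowers_le.2 d.x_mem
  cyc := inferInstance
  vC := pow_mem (Subgroup.mem_zpowers x) m
  v2 := d.v_ord
  out_sq s hs hsC := by
    obtain ⟨i, rfl | rfl⟩ := d.cases hs
    · exact absurd (zpow_mem (Subgroup.mem_zpowers x) i) hsC
    · exact d.out_sq i
  out_mul s hs hsC t ht htC := by
    obtain ⟨i, rfl | rfl⟩ := d.cases hs
    · exact absurd (zpow_mem (Subgroup.mem_zpowers x) i) hsC
    obtain ⟨j, rfl | rfl⟩ := d.cases ht
    · exact absurd (zpow_mem (Subgroup.mem_zpowers x) j) htC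
    refine ⟨i - j, ?_⟩
    show x ^ (i - j) = _
    rw [mul_assoc (x ^ i), ← mul_assoc y, d.swap, mul_assoc (x ^ (-j)), d.ysq, mul_one, ← zpow_add,
      ← sub_eq_add_neg]
  out := ⟨y, d.y_mem, fun ⟨i, hi⟩ => d.out i hi⟩

theorem isDih (d : DFac m S x y) : IsDih S :=
  ⟨2 * m, by have := d.pos; omega,
    TwoLift.dihedral_equiv d.ord d.ysq d.inv (fun ⟨i, hi⟩ => d.out i hi) d.eq⟩

theorem gen (d : DFac m S x y) (K : Subgroup X)
    (h : ∀ s ∈ S, s * s = 1 → s ≠ 1 → s ∈ K) : S ≤ K := by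
  rw [d.eq, Subgroup.closure_le]
  obtain ⟨hy1, hy2, hy3⟩ := d.outer 0
  have hy : y ∈ K := by simpa using h _ hy1 hy2 hy3
  rintro s (rfl | rfl)
  · obtain ⟨h1, h2, h3⟩ := d.outer 1
    have := mul_mem (h _ h1 h2 h3) hy
    rwa [zpow_one, mul_assoc, d.ysq, mul_one] at this
  · exact hy

end DFac

/-- The Sylow subgroup and the fusion of its mixed involutions. -/
structure Box (P : Sylow 2 X) (m : ℕ) (D₁ D₂ : Subgroup X) (x₁ y₁ x₂ y₂ : X) : Prop where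
  d₁ : DFac m D₁ x₁ y₁
  d₂ : DFac m D₂ x₂ y₂
  prod : IsInternalDirectProduct D₁ D₂ (P : Subgroup X)
  fus : ∀ p ∈ D₁, p * p = 1 → p ≠ 1 → ∀ q ∈ D₂, q * q = 1 → q ≠ 1 → IsConj (x₁ ^ m * x₂ ^ m) (p * q)
  sep₁ : ∀ p ∈ D₁, ¬ IsConj (x₁ ^ m * x₂ ^ m) p
  sep₂ : ∀ q ∈ D₂, ¬ IsConj (x₁ ^ m * x₂ ^ m) q
  core : Cfsg.oddCore X = ⊥

namespace Box

variable {P : Sylow 2 X} {m : ℕ} {D₁ D₂ : Subgroup X} {x₁ y₁ x₂ y₂ : X}
variable (B : Box P m D₁ D₂ x₁ y₁ x₂ y₂)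
include B

theorem comm {a b : X} (ha : a ∈ D₁) (hb : b ∈ D₂) : a * b = b * a := B.prod.2.2.1 a ha b hb

theorem symm : Box P m D₂ D₁ x₂ y₂ x₁ y₁ where
  d₁ := B.d₂
  d₂ := B.d₁
  prod := ⟨B.prod.2.1, B.prod.1, fun a ha b hb => (B.comm hb ha).symm,
    by rw [inf_comm]; exact B.prod.2.2.2.1, by rw [sup_comm]; exact B.prod.2.2.2.2⟩
  fus p hp hpp hp1 q hq hqq hq1 := by
    rw [← B.comm (pow_mem B.d₁.x_mem m) (pow_mem B.d₂.x_mem m), ← B.comm hq hp]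
    exact B.fus q hq hqq hq1 p hp hpp hp1
  sep₁ p hp := by rw [← B.comm (pow_mem B.d₁.x_mem m) (pow_mem B.d₂.x_mem m)]; exact B.sep₂ p hp
  sep₂ p hp := by rw [← B.comm (pow_mem B.d₁.x_mem m) (pow_mem B.d₂.x_mem m)]; exact B.sep₁ p hp
  core := B.core

theorem disj {a : X} (h₁ : a ∈ D₁) (h₂ : a ∈ D₂) : a = 1 :=
  Subgroup.mem_bot.1 (B.prod.2.2.2.1 ▸ Subgroup.mem_inf.2 ⟨h₁, h₂⟩)

theorem mixed_sq {p q : X} (hp : p ∈ D₁) (hpp : p * p = 1) (hq : q ∈ D₂) (hqq : q * q = 1) (hp1 : p ≠ 1) :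
    p * q * (p * q) = 1 ∧ p * q ≠ 1 := by
  refine ⟨by rw [mul_assoc p, ← mul_assoc q, ← B.comm hp hq, mul_assoc p q q, hqq, mul_one, hpp], fun e => ?_⟩
  exact hp1 (B.disj hp (by rw [eq_inv_of_mul_eq_one_left e]; exact inv_mem hq))

/-- A normal subgroup of index two would avoid `D₁`. -/
theorem le_of_two {N : Subgroup X} (hN : N.index = 2) : D₁ ≤ N := by
  have hc : ∀ p ∈ D₁, p * p = 1 → p ≠ 1 → (p ∈ N ↔ x₁ ^ m ∈ N) := by
    intro p hp hpp hp1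
    haveI := Subgroup.normal_of_index_eq_two hN
    obtain ⟨g, hg⟩ := isConj_iff.1 (B.fus p hp hpp hp1 _ (pow_mem B.d₂.x_mem m) B.d₂.v_sq B.d₂.v_ne)
    have h1 : x₁ ^ m * x₂ ^ m ∈ N ↔ p * x₂ ^ m ∈ N := by
      rw [← hg]
      exact ⟨fun h => ‹N.Normal›.conj_mem _ h g, fun h => by
        have := ‹N.Normal›.conj_mem _ h g⁻¹
        rwa [show g⁻¹ * (g * (x₁ ^ m * x₂ ^ m) * g⁻¹) * g⁻¹⁻¹ = x₁ ^ m * x₂ ^ m by group] at this⟩
    rw [Subgroup.mul_mem_iff_of_index_two hN, Subgroup.mul_mem_iff_of_index_two hN] at h1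
    tauto
  obtain ⟨h1, h2, h3⟩ := B.d₁.outer 0
  obtain ⟨k1, k2, k3⟩ := B.d₁.outer 1
  have e1 := hc _ h1 h2 h3
  rw [zpow_zero, one_mul] at e1
  have e2 := hc _ k1 k2 k3
  rw [zpow_one] at e2
  have hx : x₁ ∈ N := by
    have h := (Subgroup.mul_mem_iff_of_index_two hN (a := x₁ * y₁) (b := y₁)).2 (e2.trans e1.symm)
    rwa [mul_assoc, B.d₁.ysq, mul_one] at h
  refine B.d₁.gen N fun s hs hss hs1 => (hc s hs hss hs1).2 (pow_mem hx m)

theorem no_two : ∀ N : Subgroup X, N.Normal → N.index ≠ 2 := by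
  intro N _ hN
  have hP : (P : Subgroup X) ≤ N := by
    rw [← B.prod.2.2.2.2]
    exact sup_le (B.le_of_two hN) (B.symm.le_of_two hN)
  have h := Subgroup.index_dvd_of_le hP
  rw [hN] at h
  exact P.not_dvd_index h

theorem pair : Pair P D₁ D₂ (Subgroup.zpowers x₁) (Subgroup.zpowers x₂) (x₁ ^ m) (x₂ ^ m) :=
  ⟨B.prod, B.d₁.axis, B.d₂.axis⟩

theorem split {x : X} (hx : x ∈ (P : Subgroup X)) : ∃ a ∈ D₁, ∃ b ∈ D₂, x = a * b := by
  have h : D₁ ≤ Subgroup.normalizer (D₂ : Set X) := fun a ha =>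
    Subgroup.centralizer_le_normalizer _ (Subgroup.mem_centralizer_iff.2 fun b hb => (B.comm ha hb).symm)
  rw [← B.prod.2.2.2.2, ← SetLike.mem_coe, Subgroup.coe_mul_of_left_le_normalizer_right D₁ D₂ h] at hx
  obtain ⟨a, ha, b, hb, rfl⟩ := hx
  exact ⟨a, ha, b, hb, rfl⟩

theorem invol_split {x : X} (hx : x ∈ (P : Subgroup X)) (hxx : x * x = 1) :
    x ∈ D₁ ∨ x ∈ D₂ ∨ ∃ p ∈ D₁, p * p = 1 ∧ p ≠ 1 ∧ ∃ q ∈ D₂, q * q = 1 ∧ q ≠ 1 ∧ x = p * q := by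
  obtain ⟨a, ha, b, hb, rfl⟩ := B.split hx
  rw [mul_assoc a, ← mul_assoc b, ← B.comm ha hb, mul_assoc a b b, ← mul_assoc a a] at hxx
  have h1 : a * a = 1 := B.disj (mul_mem ha ha) (by rw [eq_inv_of_mul_eq_one_left hxx]; exact inv_mem (mul_mem hb hb))
  rw [h1, one_mul] at hxx
  by_cases ha1 : a = 1
  · rw [ha1, one_mul]; exact Or.inr (Or.inl hb)
  by_cases hb1 : b = 1
  · rw [hb1, mul_one]; exact Or.inl ha
  exact Or.inr (Or.inr ⟨a, ha, h1, ha1, b, hb, hxx, hb1, rfl⟩)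

/-- A strongly closed proper factor has only pure involutions. -/
theorem sub_factor {T₁ T₂ : Subgroup X} (hP : Prod2 P T₁ T₂) {C : Subgroup X} {v : X} (A : Axis T₁ C v)
    {C' : Subgroup X} {v' : X} (A' : Axis T₂ C' v') : T₁ ≤ D₁ ∨ T₁ ≤ D₂ := by
  have key : ∀ p ∈ D₁, p * p = 1 → p ≠ 1 → ∀ q ∈ D₂, q * q = 1 → q ≠ 1 → p * q ∉ T₁ := by
    intro p hp hpp hp1 q hq hqq hq1 h
    have hall : ∀ p' ∈ D₁, p' * p' = 1 → p' ≠ 1 → ∀ q' ∈ D₂, q' * q' = 1 → q' ≠ 1 → p' * q' ∈ T₁ := by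
      intro p' hp' hpp' hp1' q' hq' hqq' hq1'
      obtain ⟨g, hg⟩ := isConj_iff.1 ((B.fus p hp hpp hp1 q hq hqq hq1).symm.trans
        (B.fus p' hp' hpp' hp1' q' hq' hqq' hq1'))
      rw [← hg]
      exact hP.cl₁.2 _ h g (hg ▸ mul_mem (B.prod.1 hp') (B.prod.2.1 hq'))
    have hD₁ : D₁ ≤ T₁ := by
      obtain ⟨h1, h2, h3⟩ := B.d₁.outer 0
      obtain ⟨k1, k2, k3⟩ := B.d₁.outer 1
      have hxy := mul_mem (hall _ k1 k2 k3 q hq hqq hq1) (inv_mem (hall _ h1 h2 h3 q hq hqq hq1))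
      rw [mul_inv_rev, mul_assoc, mul_inv_cancel_left, zpow_zero, one_mul, zpow_one,
        inv_eq_of_mul_eq_one_right B.d₁.ysq, mul_assoc, B.d₁.ysq, mul_one] at hxy
      have hv : ∀ s ∈ D₁, s * s = 1 → s ≠ 1 → s * (x₁ ^ m)⁻¹ ∈ T₁ := fun s hs hss hs1 => by
        have := mul_mem (hall s hs hss hs1 q hq hqq hq1)
          (inv_mem (hall _ (pow_mem B.d₁.x_mem m) B.d₁.v_sq B.d₁.v_ne q hq hqq hq1))
        rwa [mul_inv_rev, mul_assoc, mul_inv_cancel_left] at this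
      refine B.d₁.gen T₁ fun s hs hss hs1 => ?_
      have := mul_mem (hv s hs hss hs1) (pow_mem hxy m)
      rwa [inv_mul_cancel_right] at this
    have hq' : ∀ q' ∈ D₂, q' * q' = 1 → q' ≠ 1 → q' ∈ T₁ := fun q' hq'' hqq' hq1' => by
      have := mul_mem (inv_mem (hD₁ hp)) (hall p hp hpp hp1 q' hq'' hqq' hq1')
      rwa [inv_mul_cancel_left] at this
    have hPT : (P : Subgroup X) ≤ T₁ := by
      rw [← B.prod.2.2.2.2]; exact sup_le hD₁ (B.d₂.gen T₁ hq')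
    exact A'.v_ne (Subgroup.mem_bot.1 (hP.prod.2.2.2.1 ▸
      Subgroup.mem_inf.2 ⟨hPT (hP.le₂ A'.vS), A'.vS⟩))
  have hpure : ∀ s ∈ {s | s ∈ T₁ ∧ orderOf s = 2}, s ∈ D₁ ∨ s ∈ D₂ := by
    rintro s ⟨hs, hs2⟩
    rcases B.invol_split (hP.le₁ hs) (by rw [← pow_two, ← hs2, pow_orderOf_eq_one]) with h | h | h
    · exact Or.inl h
    · exact Or.inr h
    · obtain ⟨p, hp, hpp, hp1, q, hq, hqq, hq1, rfl⟩ := h
      exact absurd hs (key p hp hpp hp1 q hq hqq hq1)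
  by_contra hno
  push Not at hno
  obtain ⟨⟨a, ha, ha'⟩, b, hb, hb'⟩ :
      (∃ a ∈ {s | s ∈ T₁ ∧ orderOf s = 2}, a ∉ D₁) ∧ ∃ b ∈ {s | s ∈ T₁ ∧ orderOf s = 2}, b ∉ D₂ := by
    constructor <;> by_contra h <;> push Not at h
    · exact hno.1 (le_trans A.le_closure ((Subgroup.closure_le _).2 h))
    · exact hno.2 (le_trans A.le_closure ((Subgroup.closure_le _).2 h))
  have ha₂ := (hpure a ha).resolve_left ha'
  have hb₁ := (hpure b hb).resolve_right hb'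
  refine key b hb₁ (by rw [← pow_two, ← hb.2, pow_orderOf_eq_one]) (fun e => hb' (e ▸ one_mem _)) a ha₂
    (by rw [← pow_two, ← ha.2, pow_orderOf_eq_one]) (fun e => ha' (e ▸ one_mem _)) (mul_mem hb.1 ha.1)

/-- The factors are strongly closed when the Sylow subgroup is not abelian. -/
theorem prod2_of_not_comm (hm : 1 < m) : Prod2 P D₁ D₂ := by
  have hab : ¬ IsMulCommutative (P : Subgroup X) := by
    intro h
    have e : x₁ * y₁ = y₁ * x₁ := congrArg Subtype.val (h.is_comm.comm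
      (⟨x₁, B.prod.1 B.d₁.x_mem⟩ : (P : Subgroup X)) ⟨y₁, B.prod.1 B.d₁.y_mem⟩)
    have e' := B.d₁.inv
    rw [← e, mul_inv_cancel_right] at e'
    have := Nat.le_of_dvd two_pos (orderOf_dvd_of_pow_eq_one
      (show x₁ ^ 2 = 1 by rw [pow_two]; exact mul_eq_one_iff_eq_inv.2 e'))
    rw [B.d₁.ord] at this
    omega
  obtain ⟨T₁, T₂, X₁, X₂, u₁, u₂, hP, A₁, A₂, -, -⟩ := B.pair.exists_prod2 B.no_two hab B.d₁.isDih B.d₂.isDih
  have hne₁ : ∀ {S : Subgroup X}, ¬ (T₁ ≤ S ∧ T₂ ≤ S ∧ (S = D₁ ∨ S = D₂)) := by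
    rintro S ⟨h1, h2, e | e⟩ <;> subst e
    · refine B.d₂.v_ne (B.disj ?_ (pow_mem B.d₂.x_mem m))
      exact (hP.prod.2.2.2.2 ▸ sup_le h1 h2) (B.prod.2.1 (pow_mem B.d₂.x_mem m))
    · refine B.d₁.v_ne (B.disj (pow_mem B.d₁.x_mem m) ?_)
      exact (hP.prod.2.2.2.2 ▸ sup_le h1 h2) (B.prod.1 (pow_mem B.d₁.x_mem m))
  have fin : ∀ {U₁ U₂ : Subgroup X}, Prod2 P U₁ U₂ → U₁ ≤ D₁ → U₂ ≤ D₂ → Prod2 P D₁ D₂ := by
    intro U₁ U₂ hU h1 h2
    have e1 : U₁ = D₁ := le_antisymm h1 fun d hd => by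
      obtain ⟨a, ha⟩ := hU.exists_split (B.prod.1 hd)
      have : (a : X)⁻¹ * d = 1 := B.disj (mul_mem (inv_mem (h1 a.2)) hd) (h2 ha)
      rw [← inv_mul_eq_one.1 this]
      exact a.2
    have e2 : U₂ = D₂ := le_antisymm h2 fun d hd => by
      obtain ⟨a, ha⟩ := hU.exists_split (B.prod.2.1 hd)
      have h3 : (a : X) = 1 := B.disj (h1 a.2) (by
        have := mul_mem hd (inv_mem (h2 ha))
        rwa [mul_inv_rev, inv_inv, mul_inv_cancel_left] at this)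
      rwa [h3, inv_one, one_mul] at ha
    exact e1 ▸ e2 ▸ hU
  rcases B.sub_factor hP A₁ A₂ with h1 | h1 <;> rcases B.sub_factor hP.symm A₂ A₁ with h2 | h2
  · exact absurd ⟨h1, h2, Or.inl rfl⟩ hne₁
  · exact fin hP h1 h2
  · exact fin hP.symm h2 h1
  · exact absurd ⟨h1, h2, Or.inr rfl⟩ hne₁

/-- An involution of a factor is not conjugate to a mixed one. -/
theorem no_mixed {s t : X} (hs : s ∈ D₁ ∨ s ∈ D₂) {p q : X} (hp : p ∈ D₁) (hpp : p * p = 1) (hp1 : p ≠ 1)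
    (hq : q ∈ D₂) (hqq : q * q = 1) (hq1 : q ≠ 1) (ht : t = p * q) : ¬ IsConj s t := by
  intro h
  have h' := (B.fus p hp hpp hp1 q hq hqq hq1).trans (ht ▸ h).symm
  exact hs.elim (fun e => B.sep₁ s e h') fun e => B.sep₂ s e h'

/-- Four-groups: the normaliser of the Sylow subgroup preserves the factors. -/
theorem normal_fix (hm : m = 1) {n : X} (hn : n ∈ Subgroup.normalizer ((P : Subgroup X) : Set X)) {p : X}
    (hp : p ∈ D₁) : n * p * n⁻¹ ∈ D₁ := by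
  haveI : Fact (Nat.Prime 2) := ⟨Nat.prime_two⟩
  have hsq : ∀ {S : Subgroup X} {x y : X}, DFac m S x y → ∀ s ∈ S, s * s = 1 := by
    intro S x y d s hs
    obtain ⟨i, rfl | rfl⟩ := d.cases hs
    · have hx : x * x = 1 := by
        have := d.v_sq
        rwa [hm, pow_one] at this
      rw [← zpow_add, ← two_mul, zpow_mul, zpow_two, hx, one_zpow]
    · exact d.out_sq i
  have hPc : ∀ z ∈ (P : Subgroup X), ∀ s ∈ (P : Subgroup X), z * s = s * z := by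
    intro z hz s hs
    have hP2 : ∀ t ∈ (P : Subgroup X), t⁻¹ = t := fun t ht => by
      obtain ⟨a, ha, b, hb, rfl⟩ := B.split ht
      refine inv_eq_of_mul_eq_one_right ?_
      rw [mul_assoc a, ← mul_assoc b, ← B.comm ha hb, mul_assoc a b b, hsq B.d₂ b hb, mul_one,
        hsq B.d₁ a ha]
    rw [← hP2 _ (mul_mem hz hs), mul_inv_rev, hP2 z hz, hP2 s hs]
  -- the image of each pure element is pure
  have pure : ∀ k ∈ Subgroup.normalizer ((P : Subgroup X) : Set X), ∀ s, s ∈ D₁ ∨ s ∈ D₂ →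
      k * s * k⁻¹ ∈ D₁ ∨ k * s * k⁻¹ ∈ D₂ := by
    intro k hk s hs
    have hsP : s ∈ (P : Subgroup X) := hs.elim (fun h => B.prod.1 h) (fun h => B.prod.2.1 h)
    have hks := (Subgroup.mem_normalizer_iff.1 hk s).1 hsP
    have hss : s * s = 1 := hs.elim (hsq B.d₁ s) (hsq B.d₂ s)
    rcases B.invol_split hks (by rw [show k * s * k⁻¹ * (k * s * k⁻¹) = k * (s * s) * k⁻¹ by group, hss]; group)
      with h | h | h
    · exact Or.inl h
    · exact Or.inr h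
    · obtain ⟨p, hp, hpp, hp1, q, hq, hqq, hq1, e⟩ := h
      exact absurd (isConj_iff.2 ⟨k, rfl⟩) (B.no_mixed hs hp hpp hp1 hq hqq hq1 e)
  -- each factor goes to a factor
  have whole : ∀ k ∈ Subgroup.normalizer ((P : Subgroup X) : Set X),
      (∀ s ∈ D₁, k * s * k⁻¹ ∈ D₁) ∨ ∀ s ∈ D₁, k * s * k⁻¹ ∈ D₂ := by
    intro k hk
    by_contra hno
    push Not at hno
    obtain ⟨⟨s, hs, hs1⟩, t, ht, ht2⟩ := hno
    have hs2 := (pure k hk s (Or.inl hs)).resolve_left hs1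
    have ht1 := (pure k hk t (Or.inl ht)).resolve_right ht2
    have e : k * (t * s) * k⁻¹ = k * t * k⁻¹ * (k * s * k⁻¹) := by group
    refine B.no_mixed (Or.inl (mul_mem ht hs)) ht1 ?_ (fun e' => ht2 (e' ▸ one_mem _)) hs2 ?_
      (fun e' => hs1 (e' ▸ one_mem _)) e (isConj_iff.2 ⟨k, rfl⟩)
    · rw [show k * t * k⁻¹ * (k * t * k⁻¹) = k * (t * t) * k⁻¹ by group, hsq B.d₁ t ht]; group
    · rw [show k * s * k⁻¹ * (k * s * k⁻¹) = k * (s * s) * k⁻¹ by group, hsq B.d₁ s hs]; group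
  have whole' : ∀ k ∈ Subgroup.normalizer ((P : Subgroup X) : Set X),
      (∀ s ∈ D₁, k * s * k⁻¹ ∈ D₁) ∨ ((∀ s ∈ D₁, k * s * k⁻¹ ∈ D₂) ∧ ∀ s ∈ D₂, k * s * k⁻¹ ∈ D₁) := by
    intro k hk
    rcases whole k hk with h | h
    · exact Or.inl h
    refine Or.inr ⟨h, fun s hs => ?_⟩
    rcases pure k hk s (Or.inr hs) with h' | h'
    · exact h'
    by_cases hs0 : s = 1
    · rw [hs0, mul_one, mul_inv_cancel]; exact one_mem _
    exfalso
    refine B.no_mixed (t := x₁ ^ m * s) (Or.inr (mul_mem (h _ (pow_mem B.d₁.x_mem m)) h'))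
      (pow_mem B.d₁.x_mem m) B.d₁.v_sq B.d₁.v_ne hs (hsq B.d₂ s hs) hs0 rfl
      (isConj_iff.2 ⟨k⁻¹, by group⟩)
  rcases whole' n hn with h | ⟨h, h'⟩
  · exact h p hp
  exfalso
  obtain ⟨e, b, hb, hord⟩ := Nat.exists_eq_two_pow_mul_odd (orderOf_pos n).ne'
  have hnb : n ^ b ∈ (P : Subgroup X) := by
    have hnm : IsPGroup 2 (Subgroup.zpowers (n ^ b)) := SylowSplit.isPGroup_zpowers
      ⟨e, by rw [orderOf_pow_of_dvd hb.pos.ne' (hord ▸ dvd_mul_left b _), hord, Nat.mul_div_cancel _ hb.pos]⟩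
    have hT := IsPGroup.to_sup_of_normal_right' hnm P.2 (Subgroup.zpowers_le.2 (pow_mem hn b))
    exact (P.3 hT le_sup_right).le (Subgroup.mem_sup_left (Subgroup.mem_zpowers _))
  obtain ⟨j, rfl⟩ := hb
  have hpar : ∀ i : ℕ, ∀ s ∈ D₁, n ^ (2 * i) * s * (n ^ (2 * i))⁻¹ ∈ D₁ := by
    intro i
    induction i with
    | zero => intro s hs; simpa using hs
    | succ i ih =>
      intro s hs
      rw [show 2 * (i + 1) = 2 * i + 1 + 1 by ring, pow_succ', pow_succ',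
        show n * (n * n ^ (2 * i)) * s * (n * (n * n ^ (2 * i)))⁻¹ =
          n * (n * (n ^ (2 * i) * s * (n ^ (2 * i))⁻¹) * n⁻¹) * n⁻¹ by group]
      exact h' _ (h _ (ih s hs))
  have hmv : n ^ (2 * j + 1) * x₁ ^ m * (n ^ (2 * j + 1))⁻¹ ∈ D₂ := by
    rw [pow_succ', show n * n ^ (2 * j) * x₁ ^ m * (n * n ^ (2 * j))⁻¹ =
      n * (n ^ (2 * j) * x₁ ^ m * (n ^ (2 * j))⁻¹) * n⁻¹ by group]
    exact h _ (hpar j _ (pow_mem B.d₁.x_mem m))
  rw [hPc _ hnb _ (B.prod.1 (pow_mem B.d₁.x_mem m)), mul_inv_cancel_right] at hmv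
  exact B.d₁.v_ne (B.disj (pow_mem B.d₁.x_mem m) hmv)

theorem closed_of_four (hm : m = 1) : Cfsg.IsStronglyClosed D₁ (P : Subgroup X) := by
  haveI : Fact (Nat.Prime 2) := ⟨Nat.prime_two⟩
  refine ⟨B.prod.1, fun p hp g hg => ?_⟩
  have hc : ∀ t ∈ (P : Subgroup X), ∀ z ∈ (P : Subgroup X), Commute t z := by
    intro t ht z hz
    have hsq : ∀ {S : Subgroup X} {x y : X}, DFac m S x y → ∀ s ∈ S, s * s = 1 := by
      intro S x y d s hs
      obtain ⟨i, rfl | rfl⟩ := d.cases hs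
      · have hx : x * x = 1 := by
          have := d.v_sq
          rwa [hm, pow_one] at this
        rw [← zpow_add, ← two_mul, zpow_mul, zpow_two, hx, one_zpow]
      · exact d.out_sq i
    have hP2 : ∀ s ∈ (P : Subgroup X), s⁻¹ = s := fun s hs => by
      obtain ⟨a, ha, b, hb, rfl⟩ := B.split hs
      refine inv_eq_of_mul_eq_one_right ?_
      rw [mul_assoc a, ← mul_assoc b, ← B.comm ha hb, mul_assoc a b b, hsq B.d₂ b hb, mul_one,
        hsq B.d₁ a ha]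
    show t * z = z * t
    rw [← hP2 _ (mul_mem ht hz), mul_inv_rev, hP2 t ht, hP2 z hz]
  obtain ⟨n, hn, e⟩ := central_conj (P := P) (hc p (B.prod.1 hp)) (hc _ hg) (isConj_iff.2 ⟨g, rfl⟩)
  rw [← e]
  exact B.normal_fix hm hn hp

theorem prod2 : Prod2 P D₁ D₂ := by
  rcases Nat.lt_or_ge 1 m with h | h
  · exact B.prod2_of_not_comm h
  · have hm : m = 1 := le_antisymm h B.d₁.pos
    exact ⟨B.prod, B.closed_of_four hm, B.symm.closed_of_four hm⟩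

end Box

end Cfsg.Agent.G2Sylow
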