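import Cfsg.Agent.Lib.G2Sylow.CentBox

/-!
The two normal factors and their kinds.
-/

set_option autoImplicit false
set_option linter.unusedSectionVars false
set_option linter.style.haveILetI false

namespace Cfsg.Agent.G2Sylow

open Cfsg Cfsg.Agent.ProdFusion Cfsg.Agent.GW

universe u

variable {X : Type u} [Group X] [Finite X]

namespace Box

variable {P : Sylow 2 X} {m : ℕ} {D₁ D₂ : Subgroup X} {x₁ y₁ x₂ y₂ : X}
variable (B : Box P m D₁ D₂ x₁ y₁ x₂ y₂)
include B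

/-- The normal closure of a factor. -/
def M (_B : Box P m D₁ D₂ x₁ y₁ x₂ y₂) : Subgroup X := Subgroup.normalClosure (D₁ : Set X)

theorem M_normal : B.M.Normal := Subgroup.normalClosure_normal

theorem le_M : D₁ ≤ B.M := Subgroup.le_normalClosure

theorem inf_other : D₁ ⊓ B.symm.M = ⊥ :=
  inf_normalClosure B.prod2 B.d₁.axis B.d₂.axis.le_closure

theorem M_comm {a b : X} (ha : a ∈ B.M) (hb : b ∈ B.symm.M) : a * b = b * a := by
  haveI : B.symm.M.Normal := B.symm.M_normal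
  have hc : B.M ≤ Subgroup.centralizer (B.symm.M : Set X) := by
    refine Subgroup.normalClosure_le_normal fun x hx => ?_
    refine (Subgroup.closure_le _).2 (fun s hs => Subgroup.mem_centralizer_iff.2 fun t ht =>
      (commute_of_inf B.prod2 B.core B.inf_other hs.1 hs.2 ht).eq.symm) (B.d₁.axis.le_closure hx)
  exact (Subgroup.mem_centralizer_iff.1 (hc ha) b hb).symm

theorem P_inf : (P : Subgroup X) ⊓ B.M = D₁ := by
  refine le_antisymm (fun x hx => ?_) (le_inf B.prod.1 B.le_M)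
  obtain ⟨hxP, hxM⟩ := Subgroup.mem_inf.1 hx
  obtain ⟨a, ha, b, hb, rfl⟩ := B.split hxP
  have h1 : b ∈ D₂ ⊓ B.M := Subgroup.mem_inf.2 ⟨hb, (B.M.mul_mem_cancel_left (B.le_M ha)).1 hxM⟩
  rw [show D₂ ⊓ B.M = ⊥ from B.symm.inf_other, Subgroup.mem_bot] at h1
  rwa [h1, mul_one]

theorem odd_rel : Odd (D₁.relIndex B.M) := by
  haveI : Fact (Nat.Prime 2) := ⟨Nat.prime_two⟩
  haveI : B.M.Normal := B.M_normal
  obtain ⟨Q, hQ⟩ := Cfsg.Agent.PBasic.exists_sylow_subgroupOf P B.M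
  have h2 := Q.not_dvd_index
  rw [hQ] at h2
  have e := Subgroup.inf_relIndex_right (P : Subgroup X) B.M
  rw [B.P_inf] at e
  rw [e]
  exact Nat.odd_iff.2 (Nat.two_dvd_ne_zero.1 h2)

theorem M_inf : B.M ⊓ B.symm.M = ⊥ := by
  haveI : Fact (Nat.Prime 2) := ⟨Nat.prime_two⟩
  haveI : B.M.Normal := B.M_normal
  haveI : B.symm.M.Normal := B.symm.M_normal
  have hn : (B.M ⊓ B.symm.M).Normal := inferInstance
  have hP : (P : Subgroup X) ⊓ (B.M ⊓ B.symm.M) = ⊥ := by
    rw [eq_bot_iff]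
    intro x hx
    obtain ⟨hxP, hx1, hx2⟩ := hx
    have a : x ∈ D₁ := B.P_inf ▸ Subgroup.mem_inf.2 ⟨hxP, hx1⟩
    have b : x ∈ D₂ := B.symm.P_inf ▸ Subgroup.mem_inf.2 ⟨hxP, hx2⟩
    exact Subgroup.mem_bot.2 (B.disj a b)
  obtain ⟨Q, hQ⟩ := Cfsg.Agent.PBasic.exists_sylow_subgroupOf P (B.M ⊓ B.symm.M)
  have h2 := Q.not_dvd_index
  have h3 := ((P : Subgroup X).subgroupOf (B.M ⊓ B.symm.M)).card_mul_index
  rw [hQ] at h2
  rw [← Subgroup.inf_subgroupOf_right, hP, Subgroup.bot_subgroupOf, Subgroup.index_bot] at h2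
  have h1 := Cfsg.Agent.PBasic.le_pPrimeCore hn
    (Nat.coprime_two_right.2 (Nat.odd_iff.2 (Nat.two_dvd_ne_zero.1 h2)))
  rwa [show Cfsg.pPrimeCore 2 X = ⊥ from B.core, le_bot_iff] at h1

theorem M_core : Cfsg.oddCore B.M = ⊥ := by
  haveI : Fact (Nat.Prime 2) := ⟨Nat.prime_two⟩
  haveI : B.M.Normal := B.M_normal
  haveI := Cfsg.Agent.PBasic.pPrimeCore_characteristic 2 B.M
  have h2 : (pPrimeCore 2 B.M).map B.M.subtype ≤ pPrimeCore 2 X :=
    Cfsg.Agent.PBasic.le_pPrimeCore inferInstance (by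
      rw [Subgroup.card_map_of_injective B.M.subtype_injective]
      exact Cfsg.Agent.FittingCores.pPrimeCore_coprime (G := B.M) 2)
  rw [show Cfsg.pPrimeCore 2 X = ⊥ from B.core, le_bot_iff,
    Subgroup.map_eq_bot_iff_of_injective _ B.M.subtype_injective] at h2
  exact h2

theorem dihSylow : DihSylow B.M := by
  haveI : Fact (Nat.Prime 2) := ⟨Nat.prime_two⟩
  haveI : B.M.Normal := B.M_normal
  obtain ⟨Q, hQ⟩ := Cfsg.Agent.PBasic.exists_sylow_subgroupOf P B.M
  obtain ⟨n, hn, ⟨e⟩⟩ := B.d₁.isDih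
  refine ⟨Q, n, hn, ⟨(MulEquiv.subgroupCongr ?_).trans ((Subgroup.subgroupOfEquivOfLe B.le_M).trans e)⟩⟩
  rw [hQ, ← Subgroup.inf_subgroupOf_right, B.P_inf]

/-- Fusion with the other factor fixed. -/
theorem fuse {p : X} (hp : p ∈ D₁) (hpp : p * p = 1) (hp1 : p ≠ 1) {q : X} (hq : q ∈ D₂) (hqq : q * q = 1)
    (hq1 : q ≠ 1) : ∃ g : X, g * x₁ ^ m * g⁻¹ = p ∧ g * q * g⁻¹ = q := by
  have hM : B.M.Normal := B.M_normal
  have hM' : B.symm.M.Normal := B.symm.M_normal
  obtain ⟨g, hg⟩ := isConj_iff.1 (((B.fus _ (pow_mem B.d₁.x_mem m) B.d₁.v_sq B.d₁.v_ne q hq hqq hq1).symm.trans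
    (B.fus p hp hpp hp1 q hq hqq hq1)))
  have e : p⁻¹ * (g * x₁ ^ m * g⁻¹) = q * (g * q * g⁻¹)⁻¹ := by
    rw [inv_mul_eq_iff_eq_mul, ← mul_assoc, eq_mul_inv_iff_mul_eq,
      show g * x₁ ^ m * g⁻¹ * (g * q * g⁻¹) = g * (x₁ ^ m * q) * g⁻¹ by group, hg]
  have h0 : p⁻¹ * (g * x₁ ^ m * g⁻¹) ∈ B.M ⊓ B.symm.M := Subgroup.mem_inf.2
    ⟨mul_mem (inv_mem (B.le_M hp)) (hM.conj_mem _ (B.le_M (pow_mem B.d₁.x_mem m)) g),
     e ▸ mul_mem (B.symm.le_M hq) (inv_mem (hM'.conj_mem _ (B.symm.le_M hq) g))⟩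
  rw [B.M_inf, Subgroup.mem_bot] at h0
  refine ⟨g, (inv_mul_eq_one.1 h0).symm, ?_⟩
  rw [h0] at e
  exact (mul_inv_eq_one.1 e.symm).symm

/-- A normal subgroup of `X` in `M` of even order contains `D₁`. -/
theorem le_of_even {N : Subgroup X} (hN : N.Normal) (hle : N ≤ B.M) (h2 : 2 ∣ Nat.card N) : D₁ ≤ N := by
  haveI : Fact (Nat.Prime 2) := ⟨Nat.prime_two⟩
  haveI : B.M.Normal := B.M_normal
  obtain ⟨⟨t, htN⟩, ht⟩ := exists_prime_orderOf_dvd_card' 2 h2
  have ht2 : orderOf t = 2 := by rw [← ht, ← Subgroup.orderOf_coe]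
  have htp : IsPGroup 2 (Subgroup.zpowers t) := SylowSplit.isPGroup_zpowers ⟨1, by rw [ht2, pow_one]⟩
  obtain ⟨Q, hQ⟩ := htp.exists_le_sylow
  obtain ⟨c, hc⟩ := MulAction.exists_smul_eq X Q P
  have hs : c * t * c⁻¹ ∈ (P : Subgroup X) := by
    rw [← hc, Sylow.coe_subgroup_smul]
    exact ⟨t, hQ (Subgroup.mem_zpowers t), rfl⟩
  have hsN := hN.conj_mem t htN c
  have hsD : c * t * c⁻¹ ∈ D₁ := B.P_inf ▸ Subgroup.mem_inf.2 ⟨hs, hle hsN⟩
  have hsq : c * t * c⁻¹ * (c * t * c⁻¹) = 1 := by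
    rw [show c * t * c⁻¹ * (c * t * c⁻¹) = c * (t * t) * c⁻¹ by group, ← pow_two, ← ht2, pow_orderOf_eq_one]
    group
  have hs1 : c * t * c⁻¹ ≠ 1 := fun h => by
    rw [conj_eq_one_iff] at h
    rw [h, orderOf_one] at ht2
    omega
  obtain ⟨g, hg, -⟩ := B.fuse hsD hsq hs1 (pow_mem B.d₂.x_mem m) B.d₂.v_sq B.d₂.v_ne
  have hv : x₁ ^ m ∈ N := by
    have := hN.conj_mem _ hsN g⁻¹
    rwa [← hg, show g⁻¹ * (g * x₁ ^ m * g⁻¹) * g⁻¹⁻¹ = x₁ ^ m by group] at this
  refine B.d₁.gen N fun p hp hpp hp1 => ?_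
  obtain ⟨g', hg', -⟩ := B.fuse hp hpp hp1 (pow_mem B.d₂.x_mem m) B.d₂.v_sq B.d₂.v_ne
  exact hg' ▸ hN.conj_mem _ hv g'

/-- A factor is a normal four-group or a simple target. -/
theorem kind : (m = 1 ∧ B.M = D₁) ∨
    (IsSimpleGroup B.M ∧ ¬ IsMulCommutative B.M ∧ GW.IsTarget B.M) := by
  haveI : Fact (Nat.Prime 2) := ⟨Nat.prime_two⟩
  haveI : B.M.Normal := B.M_normal
  have hK := GW.knownBelow_of_simple GW.simpleDihedral.{u} (Nat.card X + 1)
  have hs : GW.Shape B.M := by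
    refine GW.shape B.dihSylow B.M_core fun L _ hL hd => ?_
    haveI := hL
    exact GW.knownBelow_target hK hd (Nat.lt_succ_of_le ((Subgroup.card_le_card_group L).trans
      (Subgroup.card_le_card_group B.M)))
  have two : IsPGroup 2 B.M → m = 1 ∧ B.M = D₁ := fun h2 => by
    obtain ⟨k, hk⟩ := IsPGroup.iff_card.1 h2
    have hMD : B.M = D₁ := by
      have h := (D₁.subgroupOf B.M).card_mul_index
      rw [Nat.card_congr (Subgroup.subgroupOfEquivOfLe B.le_M).toEquiv, hk] at h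
      change _ * D₁.relIndex B.M = _ at h
      obtain ⟨e, -, he⟩ := (Nat.dvd_prime_pow Nat.prime_two).1 (Dvd.intro_left _ h)
      have hodd := B.odd_rel
      rw [he] at hodd
      rcases e with _ | e
      · exact le_antisymm (Subgroup.relIndex_eq_one.1 (he.trans (pow_zero 2))) B.le_M
      · exact absurd hodd (Nat.not_odd_iff_even.2 (Nat.even_pow.2 ⟨even_two, Nat.succ_ne_zero e⟩))
    refine ⟨?_, hMD⟩
    by_contra hm
    obtain ⟨h1, h2', h3⟩ := B.d₁.outer 0
    obtain ⟨g, hg, -⟩ := B.fuse h1 h2' h3 (pow_mem B.d₂.x_mem m) B.d₂.v_sq B.d₂.v_ne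
    have hgx : g * x₁ * g⁻¹ ∈ D₁ := by
      have := B.M_normal.conj_mem _ (B.le_M B.d₁.x_mem) g
      rwa [hMD] at this
    have hgm : (g * x₁ * g⁻¹) ^ m = x₁ ^ (0 : ℤ) * y₁ := by rw [_root_.conj_pow, hg]
    obtain ⟨i, e | e⟩ := B.d₁.cases hgx <;> rw [e] at hgm
    · rw [← zpow_natCast (x₁ ^ i), ← zpow_mul] at hgm
      exact B.d₁.out_ne _ _ hgm.symm
    · have h6 : orderOf (g * x₁ * g⁻¹) ∣ 2 :=
        orderOf_dvd_of_pow_eq_one (by rw [e, pow_two, B.d₁.out_sq])
      rw [BrauerSuzuki.orderOf_conj_eq, B.d₁.ord] at h6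
      have := Nat.le_of_dvd two_pos h6
      have := B.d₁.pos
      omega
  rcases hs with h | ⟨V, hVn, hV, hC, hc⟩ | ⟨L, hLn, hL, hnc, ht, hC⟩
  · exact Or.inl (two h)
  · refine Or.inl (two ?_)
    haveI := hVn
    haveI := hV
    let W := Cfsg.pCore 2 B.M
    have hVW : V ≤ W := le_sSup (show V ∈ {N : Subgroup B.M | N.Normal ∧ IsPGroup 2 N} from
      ⟨hVn, IsPGroup.of_card (n := 2) (by rw [hV.card_four]; norm_num)⟩)
    haveI hWc : W.Characteristic := Cfsg.Agent.PBasic.pCore_characteristic 2 B.M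
    have hW2 : IsPGroup 2 W := Cfsg.Agent.PBasic.pCore_isPGroup 2 B.M
    have hWn : (W.map B.M.subtype).Normal := inferInstance
    have h2W : 2 ∣ Nat.card (W.map B.M.subtype) := by
      rw [Subgroup.card_map_of_injective B.M.subtype_injective]
      exact dvd_trans (by rw [hV.card_four]; norm_num) (Subgroup.card_dvd_of_le hVW)
    have hle := B.le_of_even hWn (Subgroup.map_subtype_le W) h2W
    have hM : B.M ≤ W.map B.M.subtype := Subgroup.normalClosure_le_normal hle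
    exact (hW2.map B.M.subtype).to_le hM
  · refine Or.inr ?_
    haveI := hLn
    haveI := hL
    have hchar : ∀ φ : B.M ≃* B.M, L.map φ.toMonoidHom = L := by
      intro φ
      haveI : (L.map φ.toMonoidHom).Normal := Subgroup.Normal.map hLn _ φ.surjective
      have hne : (L.map φ.toMonoidHom).subgroupOf L ≠ ⊥ := by
        intro hbot
        rw [Subgroup.subgroupOf_eq_bot] at hbot
        have hle : L.map φ.toMonoidHom ≤ Subgroup.centralizer (L : Set B.M) := fun a ha =>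
          Subgroup.mem_centralizer_iff.2 fun b hb =>
            (Subgroup.commute_of_normal_of_disjoint _ _ inferInstance hLn hbot a b ha hb).eq.symm
        rw [hC, le_bot_iff, Subgroup.map_eq_bot_iff_of_injective _ φ.injective] at hle
        exact hnc (hle ▸ ⟨⟨fun a b => Subsingleton.elim _ _⟩⟩)
      rcases IsSimpleGroup.eq_bot_or_eq_top_of_normal _ (inferInstance :
          ((L.map φ.toMonoidHom).subgroupOf L).Normal) with h | h
      · exact absurd h hne
      · rw [Subgroup.subgroupOf_eq_top] at h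
        exact (Subgroup.eq_of_le_of_card_ge h (le_of_eq (Subgroup.card_map_of_injective φ.injective))).symm
    have hLn' : (L.map B.M.subtype).Normal := by
      refine ⟨fun a ha g => ?_⟩
      obtain ⟨l, hl, rfl⟩ := ha
      have hl' : MulAut.conjNormal g l ∈ L := by
        rw [← hchar (MulAut.conjNormal g)]
        exact ⟨l, hl, rfl⟩
      exact ⟨_, hl', rfl⟩
    have hdL : DihSylow L := B.dihSylow.of_normal L hL hnc
    have hle := B.le_of_even hLn' (Subgroup.map_subtype_le L) (by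
      rw [Subgroup.card_map_of_injective B.M.subtype_injective]
      exact hdL.two_dvd)
    have hM : B.M ≤ L.map B.M.subtype := Subgroup.normalClosure_le_normal hle
    have htop : L = ⊤ := by
      rw [eq_top_iff]
      intro a _
      obtain ⟨l, hl, e⟩ := hM a.2
      exact B.M.subtype_injective e ▸ hl
    let e : L ≃* B.M := (MulEquiv.subgroupCongr htop).trans Subgroup.topEquiv
    haveI : Nontrivial B.M := e.toEquiv.symm.nontrivial
    refine ⟨IsSimpleGroup.isSimpleGroup_of_surjective e.toMonoidHom e.surjective, fun hcc => hnc ?_, ?_⟩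
    · exact ⟨⟨fun a b => e.injective (by rw [map_mul, map_mul]; exact hcc.is_comm.comm _ _)⟩⟩
    · rcases ht with ⟨F, i1, i2, ho, h3, ⟨f⟩⟩ | h7
      · exact Or.inl ⟨F, i1, i2, ho, h3, ⟨e.symm.trans f⟩⟩
      · exact Or.inr (h7.elim fun f => ⟨e.symm.trans f⟩)

/-- The centraliser of the two factors lies in their product. -/
theorem cent_le : Subgroup.centralizer (B.M : Set X) ⊓ Subgroup.centralizer (B.symm.M : Set X) ≤
    B.M ⊔ B.symm.M := by
  haveI : Fact (Nat.Prime 2) := ⟨Nat.prime_two⟩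
  haveI : B.M.Normal := B.M_normal
  haveI : B.symm.M.Normal := B.symm.M_normal
  set W := Subgroup.centralizer (B.M : Set X) ⊓ Subgroup.centralizer (B.symm.M : Set X) with hW
  haveI hWn : W.Normal := inferInstance
  obtain ⟨Q, hQ⟩ := Cfsg.Agent.PBasic.exists_sylow_subgroupOf P W
  have hPM : (P : Subgroup X) ≤ B.M ⊔ B.symm.M := by
    rw [← B.prod.2.2.2.2]; exact sup_le_sup B.le_M B.symm.le_M
  have hQM : ∀ q : W, q ∈ (Q : Subgroup W) → (q : X) ∈ B.M ⊔ B.symm.M := fun q hq => by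
    rw [hQ] at hq; exact hPM hq
  have hQc : ∀ q : W, q ∈ (Q : Subgroup W) → ∀ w : W, w * q = q * w := by
    intro q hq w
    refine Subtype.ext ?_
    have hle : B.M ⊔ B.symm.M ≤ Subgroup.centralizer ({(w : X)} : Set X) := by
      refine sup_le ?_ ?_ <;> intro a ha <;> rw [Subgroup.mem_centralizer_singleton_iff]
      · exact Subgroup.mem_centralizer_iff.1 (Subgroup.mem_inf.1 w.2).1 a ha
      · exact Subgroup.mem_centralizer_iff.1 (Subgroup.mem_inf.1 w.2).2 a ha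
    exact (Subgroup.mem_centralizer_singleton_iff.1 (hle (hQM q hq))).symm
  have hNC : Subgroup.normalizer ((Q : Subgroup W) : Set W) ≤ Subgroup.centralizer ((Q : Subgroup W) : Set W) :=
    fun w _ => Subgroup.mem_centralizer_iff.2 fun q hq => (hQc q hq w).symm
  have hK := MonoidHom.ker_transferSylow_isComplement' Q hNC
  set K := (MonoidHom.transferSylow Q hNC).ker
  have hKodd : (Nat.card K).Coprime 2 := by
    rw [Nat.coprime_two_right]
    refine Nat.odd_iff.2 (Nat.two_dvd_ne_zero.1 fun h2 => Q.not_dvd_index ?_)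
    rwa [hK.index_eq_card]
  have hKbot : K = ⊥ := by
    have h1 := Cfsg.Agent.PBasic.le_pPrimeCore (inferInstance : K.Normal) hKodd
    haveI := Cfsg.Agent.PBasic.pPrimeCore_characteristic 2 W
    have h2 : (pPrimeCore 2 W).map W.subtype ≤ pPrimeCore 2 X :=
      Cfsg.Agent.PBasic.le_pPrimeCore inferInstance (by
        rw [Subgroup.card_map_of_injective W.subtype_injective]
        exact Cfsg.Agent.FittingCores.pPrimeCore_coprime (G := W) 2)
    rw [show Cfsg.pPrimeCore 2 X = ⊥ from B.core, le_bot_iff,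
      Subgroup.map_eq_bot_iff_of_injective _ W.subtype_injective] at h2
    exact le_bot_iff.1 (h1.trans h2.le)
  intro w hw
  have htop : (Q : Subgroup W) = ⊤ := by
    rw [hKbot, Subgroup.isComplement'_bot_left] at hK
    exact hK
  exact hQM ⟨w, hw⟩ (htop ▸ Subgroup.mem_top _)

end Box

end Cfsg.Agent.G2Sylow
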