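import Cfsg.Agent.Lib.G2Sylow.Shape
import Mathlib.GroupTheory.IndexNormal
import Mathlib.Algebra.Group.Subgroup.Pointwise

/-!
The classes of involutions of the Sylow shape, their centralisers and two maximal subgroups.
-/

set_option autoImplicit false
set_option linter.unusedSectionVars false

namespace Cfsg.Agent.G2Sylow

open Subgroup
open scoped Pointwise

variable {X : Type*} [Group X] [Finite X] {m : ℕ} {z g₁ a₁ g₂ a₂ w : X}

/-- A proper subgroup has index at least two. -/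
theorem two_mul_le {H K : Subgroup X} (h : H < K) : 2 * Nat.card H ≤ Nat.card K := by
  have h1 := (H.subgroupOf K).card_mul_index
  rw [Nat.card_congr (subgroupOfEquivOfLe h.le).toEquiv] at h1
  have h2 : (H.subgroupOf K).index ≠ 1 := fun e => h.not_ge (subgroupOf_eq_top.1 (index_eq_one.1 e))
  have h3 := Subgroup.index_ne_zero_of_finite (H := H.subgroupOf K)
  rw [← h1, mul_comm 2]
  exact Nat.mul_le_mul_left _ (by omega)

theorem lt_of_mem {H K : Subgroup X} (h : H ≤ K) {x : X} (hx : x ∈ K) (hx' : x ∉ H) : H < K :=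
  lt_of_le_not_ge h fun h' => hx' (h' hx)

namespace Shape

variable (D : Shape X m z g₁ a₁ g₂ a₂ w)
include D

/-- Outer in the first factor, a fourth root in the second. -/
def IsA (_D : Shape X m z g₁ a₁ g₂ a₂ w) (x : X) : Prop :=
  ∃ i : ℤ, x = g₁ ^ i * a₁ * g₂ ^ (m : ℤ) ∨ x = g₁ ^ i * a₁ * (g₂ ^ (m : ℤ) * z)

/-- Outer in both factors. -/
def IsB (_D : Shape X m z g₁ a₁ g₂ a₂ w) (x : X) : Prop :=
  ∃ i j : ℤ, x = g₁ ^ i * a₁ * (g₂ ^ j * a₂)

theorem quarter_of_sq {j : ℤ} (h : g₁ ^ j * g₁ ^ j = z) :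
    g₁ ^ j = g₁ ^ (m : ℤ) ∨ g₁ ^ j = g₁ ^ (m : ℤ) * z := by
  obtain ⟨e, he⟩ := D.F₁.sq_cases (Or.inr h)
  rcases D.g_quarter e with e1 | e1 | e1 | e1 <;> rw [he, e1] at h <;> rw [he, e1]
  · exact absurd ((one_mul (1 : X)).symm.trans h).symm D.F₁.z_ne
  · exact absurd (D.F₁.z_sq.symm.trans h).symm D.F₁.z_ne
  · exact Or.inl rfl
  · exact Or.inr rfl

theorem invol_cases {x : X} (hx : x ∈ D.S₀) (hxx : x * x = 1) (hU : ¬ D.InU x) :
    D.IsA x ∨ D.swap.IsA x ∨ D.IsB x := by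
  obtain ⟨p, hp, q, hq, rfl, hpp, hqq, h⟩ := D.invol_split hx hxx hU
  rcases D.F₁.mem_Q.1 hp with ⟨i, rfl | rfl⟩ <;> rcases D.F₂.mem_Q.1 hq with ⟨j, rfl | rfl⟩
  · rcases h with ⟨k, hk⟩ | ⟨k, hk⟩
    · exact absurd hk (D.F₁.inner_ne_outer _ _)
    · exact absurd hk (D.F₂.inner_ne_outer _ _)
  · refine Or.inr (Or.inl ⟨j, ?_⟩)
    rw [D.comm _ hp _ hq]
    rcases D.quarter_of_sq hpp with e | e <;> rw [e]
    exacts [Or.inl rfl, Or.inr rfl]
  · refine Or.inl ⟨i, ?_⟩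
    rcases D.swap.quarter_of_sq hqq with e | e <;> rw [e]
    exacts [Or.inl rfl, Or.inr rfl]
  · exact Or.inr (Or.inr ⟨i, j, rfl⟩)

theorem u_mem : D.u ∈ D.S₀ := ⟨_, D.F₁.g_mem m, _, D.F₂.g_mem m, rfl⟩

/-- The part with inner second component. -/
def H₃ : Subgroup X where
  carrier := {x | ∃ p ∈ D.F₁.Q, ∃ j : ℤ, x = p * g₂ ^ j}
  one_mem' := ⟨1, one_mem _, 0, by rw [zpow_zero, mul_one]⟩
  mul_mem' := by
    rintro x y ⟨p, hp, i, rfl⟩ ⟨p', hp', j, rfl⟩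
    exact ⟨p * p', mul_mem hp hp', i + j, by
      rw [zpow_add, mul_assoc, ← mul_assoc (g₂ ^ i), ← D.comm p' hp' _ (D.F₂.g_mem i),
        mul_assoc p' (g₂ ^ i), ← mul_assoc p]⟩
  inv_mem' := by
    rintro x ⟨p, hp, i, rfl⟩
    exact ⟨p⁻¹, inv_mem hp, -i, by
      rw [mul_inv_rev, zpow_neg, D.comm p⁻¹ (inv_mem hp) _ (inv_mem (D.F₂.g_mem i))]⟩

theorem H₃_le : D.H₃ ≤ D.S₀ := fun _ ⟨p, hp, i, e⟩ => ⟨p, hp, _, D.F₂.g_mem i, e⟩

theorem outer_not_H₃ {p : X} (hp : p ∈ D.F₁.Q) (i : ℤ) : p * (g₂ ^ i * a₂) ∉ D.H₃ := by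
  rintro ⟨p', hp', j, e⟩
  rcases D.uniq hp hp' (D.F₂.outer_mem i) (D.F₂.g_mem j) e with ⟨-, e'⟩ | ⟨-, e'⟩
  · exact D.F₂.inner_ne_outer j i e'
  · refine D.F₂.inner_ne_outer j (i + 2 * m) (e'.trans ?_)
    rw [mul_assoc, ← D.F₂.z_comm_a, ← mul_assoc, zpow_add, D.F₂.half]

theorem mem_cen {x y : X} (h : y * x = x * y) : y ∈ centralizer ({x} : Set X) :=
  mem_centralizer_singleton_iff.2 h

theorem quarter_anti (i : ℤ) :
    g₁ ^ (m : ℤ) * (g₁ ^ i * a₁) = g₁ ^ i * a₁ * g₁ ^ (m : ℤ) * z := by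
  rw [mul_assoc (g₁ ^ i), D.F₁.a_mul, mul_assoc (g₁ ^ i), mul_assoc (g₁ ^ (-(m : ℤ))), ← D.F₁.z_comm_a,
    ← D.F₁.half]
  simp only [← mul_assoc, ← zpow_add]
  ring_nf

/-- The centraliser of an element of class `A` is large. -/
theorem card_A {x : X} (hx : D.IsA x) : 16 * m ≤ Nat.card (centralizer ({x} : Set X)) := by
  obtain ⟨i, hx⟩ := hx
  set C := centralizer ({x} : Set X) with hC
  set p := g₁ ^ i * a₁ with hpdef
  set q := g₂ ^ (m : ℤ) with hqdef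
  have hp : p ∈ D.F₁.Q := D.F₁.outer_mem i
  have hq : q ∈ D.F₂.Q := D.F₂.g_mem m
  have hz := D.z_central
  have hzC : z ∈ C := mem_cen D (hz x)
  have hxq : ∃ e : X, (e = 1 ∨ e = z) ∧ x = p * q * e := by
    rcases hx with e | e
    · exact ⟨1, Or.inl rfl, by rw [e, mul_one]⟩
    · exact ⟨z, Or.inr rfl, e.trans (mul_assoc p q z).symm⟩
  obtain ⟨e, he, hxe⟩ := hxq
  have hec : ∀ y : X, Commute y e := fun y => by
    rcases he with e' | e' <;> rw [e']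
    exacts [Commute.one_right y, (hz y).symm]
  have hcen : ∀ y : X, Commute y (p * q) → y ∈ C := fun y h =>
    mem_cen D (by rw [hxe]; exact (h.mul_right (hec y)).eq)
  have hg2 : ∀ j : ℤ, g₂ ^ j ∈ C := fun j => hcen _
    ((show Commute (g₂ ^ j) p from (D.comm p hp _ (D.F₂.g_mem j)).symm).mul_right
      (Commute.zpow_zpow_self g₂ j m))
  have hpC : p ∈ C := hcen _ ((Commute.refl p).mul_right (D.comm p hp q hq))
  have hcC : g₁ ^ (m : ℤ) * a₂ ∈ C := by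
    refine hcen _ ?_
    set i₁ := g₁ ^ (m : ℤ)
    have e1 : i₁ * p = p * i₁ * z := D.quarter_anti i
    have e2 : a₂ * q = q * a₂ * z := by
      have h := D.swap.quarter_anti 0
      simp only [zpow_zero, one_mul] at h
      rw [h, mul_assoc (a₂ * q) z z, D.F₁.z_sq, mul_one]
    have e3 : a₂ * p = p * a₂ := (D.comm p hp _ D.F₂.a_mem).symm
    have e4 : i₁ * q = q * i₁ := D.comm _ (D.F₁.g_mem m) q hq
    show i₁ * a₂ * (p * q) = p * q * (i₁ * a₂)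
    calc i₁ * a₂ * (p * q) = (i₁ * p) * (a₂ * q) := by
          rw [mul_assoc i₁, ← mul_assoc a₂, e3, mul_assoc p a₂, ← mul_assoc i₁]
      _ = p * i₁ * (q * a₂) * (z * z) := by
          rw [e1, e2, mul_assoc (p * i₁) z, ← mul_assoc z (q * a₂), hz (q * a₂), mul_assoc (q * a₂) z z,
            ← mul_assoc (p * i₁)]
      _ = p * q * (i₁ * a₂) := by
          rw [D.F₁.z_sq, mul_one, mul_assoc p, ← mul_assoc i₁, e4, mul_assoc q, ← mul_assoc p]
  have h1 : zpowers g₂ < C ⊓ D.H₃ := by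
    refine lt_of_mem ?_ (x := p) ⟨hpC, p, hp, 0, by rw [zpow_zero, mul_one]⟩ fun h => ?_
    · rintro _ ⟨j, rfl⟩
      exact ⟨hg2 j, 1, one_mem _, j, (one_mul _).symm⟩
    · obtain ⟨j, e⟩ := h
      have hp2 : p ∈ D.F₂.Q := e ▸ D.F₂.g_mem j
      rcases D.cap p hp hp2 with e' | e'
      · exact D.F₁.inner_ne_outer 0 i ((zpow_zero g₁).trans e'.symm)
      · exact D.F₁.inner_ne_outer (2 * m) i (D.F₁.half.trans e'.symm)
  have h2 : C ⊓ D.H₃ < C := lt_of_mem inf_le_left (x := g₁ ^ (m : ℤ) * a₂) hcC fun h =>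
    D.outer_not_H₃ (D.F₁.g_mem m) 0 (by rw [zpow_zero, one_mul]; exact h.2)
  have e1 := two_mul_le h1
  have e2 := two_mul_le h2
  rw [Nat.card_zpowers, D.F₂.ord] at e1
  omega

/-- The centraliser of an element of class `B` has order at least 16. -/
theorem card_B_ge {x : X} (hx : D.IsB x) : 16 ≤ Nat.card (centralizer ({x} : Set X)) := by
  haveI : Fact (Nat.Prime 2) := ⟨Nat.prime_two⟩
  obtain ⟨i, j, rfl⟩ := hx
  set p := g₁ ^ i * a₁ with hpdef
  set q := g₂ ^ j * a₂ with hqdef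
  set C := centralizer ({p * q} : Set X) with hC
  have hp : p ∈ D.F₁.Q := D.F₁.outer_mem i
  have hq : q ∈ D.F₂.Q := D.F₂.outer_mem j
  have hpp : p * p = z := D.F₁.outer_sq i
  have hord : orderOf p = 2 ^ (1 + 1) := orderOf_eq_prime_pow
    (by rw [pow_one, pow_two, hpp]; exact D.F₁.z_ne) (by
      rw [show (2 : ℕ) ^ (1 + 1) = 2 * 2 by norm_num, pow_mul, pow_two p, hpp, pow_two, D.F₁.z_sq])
  have hpC : p ∈ C := mem_cen D ((Commute.refl p).mul_right (D.comm p hp q hq)).eq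
  have hu : D.u ∈ C := by
    refine mem_cen D ?_
    set i₁ := g₁ ^ (m : ℤ)
    set i₂ := g₂ ^ (m : ℤ)
    have e1 : i₁ * p = p * i₁ * z := D.quarter_anti i
    have e2 : i₂ * q = q * i₂ * z := D.swap.quarter_anti j
    have e3 : i₂ * p = p * i₂ := (D.comm p hp _ (D.F₂.g_mem m)).symm
    have e4 : i₁ * q = q * i₁ := D.comm _ (D.F₁.g_mem m) q hq
    show i₁ * i₂ * (p * q) = p * q * (i₁ * i₂)
    have hz := D.z_central
    calc i₁ * i₂ * (p * q) = (i₁ * p) * (i₂ * q) := by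
          rw [mul_assoc i₁, ← mul_assoc i₂, e3, mul_assoc p i₂, ← mul_assoc i₁]
      _ = p * i₁ * (q * i₂) * (z * z) := by
          rw [e1, e2, mul_assoc (p * i₁) z, ← mul_assoc z (q * i₂), hz (q * i₂), mul_assoc (q * i₂) z z,
            ← mul_assoc (p * i₁)]
      _ = p * q * (i₁ * i₂) := by
          rw [D.F₁.z_sq, mul_one, mul_assoc p, ← mul_assoc i₁, e4, mul_assoc q, ← mul_assoc p]
  have hH : p ∈ D.H₃ := ⟨p, hp, 0, by rw [zpow_zero, mul_one]⟩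
  have h1 : zpowers p < C ⊓ D.H₃ := by
    refine lt_of_mem (zpowers_le.2 ⟨hpC, hH⟩) (x := D.u) ⟨hu, _, D.F₁.g_mem m, m, rfl⟩ fun h => ?_
    have hu' : g₂ ^ (m : ℤ) ∈ D.F₁.Q := by
      have := mul_mem (inv_mem (D.F₁.g_mem m)) ((zpowers_le.2 hp) h)
      rwa [u, inv_mul_cancel_left] at this
    rcases D.cap _ hu' (D.F₂.g_mem m) with e | e
    · have := D.F₂.quarter_sq; rw [e, one_mul] at this; exact D.F₁.z_ne this.symm
    · have := D.F₂.quarter_sq; rw [e, D.F₁.z_sq] at this; exact D.F₁.z_ne this.symm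
  have h2 : C ⊓ D.H₃ < C := lt_of_mem inf_le_left (x := q)
    (mem_cen D ((show Commute q p from (D.comm p hp q hq).symm).mul_right (Commute.refl q)).eq)
    fun h => D.outer_not_H₃ (one_mem _) j (by rw [one_mul]; exact h.2)
  have e1 := two_mul_le h1
  have e2 := two_mul_le h2
  rw [Nat.card_zpowers, hord] at e1
  omega

/-- Elements outside `S₀` do not centralise elements of class `B`. -/
theorem cen_B_le {x c : X} (hx : D.IsB x) (hc : c * x = x * c) : c ∈ D.S₀ := by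
  by_contra hc0
  obtain ⟨i, j, rfl⟩ := hx
  obtain ⟨k, -, hg, hout⟩ := D.out_conj₁ hc0
  obtain ⟨k', -, -, hout'⟩ := D.swap.out_conj₁ (D.not_mem_swap hc0)
  obtain ⟨t, ht, e⟩ := hout i
  obtain ⟨t', -, e'⟩ := hout' j
  have h1 : c * (g₁ ^ i * a₁ * (g₂ ^ j * a₂)) * c⁻¹ = g₁ ^ i * a₁ * (g₂ ^ j * a₂) := by
    rw [hc, mul_inv_cancel_right]
  rw [D.conj_mul e e'] at h1
  rcases D.uniq (D.F₁.outer_mem i) (D.F₁.outer_mem t) (D.F₂.outer_mem j) (D.F₂.outer_mem t') h1.symm with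
    ⟨e1, -⟩ | ⟨e1, -⟩
  · obtain ⟨c', hc'⟩ := D.F₁.a_zpow_eq.1 e1
    exact ht ⟨-(2 * m * c'), by linear_combination (-1 : ℤ) * hc'⟩
  · rw [mul_assoc _ a₁, ← D.F₁.z_comm_a, ← mul_assoc, ← D.F₁.half, ← zpow_add, D.F₁.a_zpow_eq] at e1
    obtain ⟨c', hc'⟩ := e1
    exact ht ⟨m - 2 * m * c', by linear_combination (-1 : ℤ) * hc'⟩

/-- The centraliser of an element of class `B` has order below 32. -/
theorem card_B_lt {x : X} (hx : D.IsB x) : Nat.card (centralizer ({x} : Set X)) < 32 := by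
  classical
  have hcB := fun c => D.cen_B_le (x := x) (c := c) hx
  obtain ⟨i, j, rfl⟩ := hx
  set p := g₁ ^ i * a₁ with hpdef
  set q := g₂ ^ j * a₂ with hqdef
  set C := centralizer ({p * q} : Set X) with hC
  let P : Fin 4 → X := ![1, g₁ ^ (m : ℤ), p, g₁ ^ (m : ℤ) * p]
  let Q : Fin 4 → X := ![1, g₂ ^ (m : ℤ), q, g₂ ^ (m : ℤ) * q]
  let Z : Fin 2 → X := ![1, z]
  let f : Fin 4 × Fin 4 × Fin 2 → X := fun v => P v.1 * Q v.2.1 * Z v.2.2
  have hz := D.z_central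
  have rep : ∀ {g a : X} (F : Fac m z g a) (i : ℤ) {y : X}, y ∈ F.Q →
      (∀ e : ℤ, g ^ (e * m) = 1 ∨ g ^ (e * m) = z ∨ g ^ (e * m) = g ^ (m : ℤ) ∨
        g ^ (e * m) = g ^ (m : ℤ) * z) →
      (y * (g ^ i * a) * y⁻¹ = g ^ i * a ∨ y * (g ^ i * a) * y⁻¹ = g ^ i * a * z) →
      ∃ k : Fin 4, ∃ l : Fin 2, y = ![1, g ^ (m : ℤ), g ^ i * a, g ^ (m : ℤ) * (g ^ i * a)] k * Z l := by
    intro g a F i y hy hquarter h
    obtain ⟨e, rfl | rfl⟩ := F.cent_outer hy h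
    · rcases hquarter e with e' | e' | e' | e'
      · exact ⟨0, 0, by simp [Z, e']⟩
      · exact ⟨0, 1, by simp [Z, e']⟩
      · exact ⟨1, 0, by simp [Z, e']⟩
      · exact ⟨1, 1, by simp [Z, e']⟩
    · rcases hquarter e with e' | e' | e' | e'
      · exact ⟨2, 0, by simp [Z, e']⟩
      · exact ⟨2, 1, by simp [Z, e', hz]⟩
      · exact ⟨3, 0, by simp [Z, e']⟩
      · exact ⟨3, 1, by simp [Z, e', mul_assoc, hz]⟩
  have hsub : (C : Set X) ⊆ Set.range f \ {g₁ ^ (m : ℤ)} := by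
    intro c hcC
    have hc : c * (p * q) = p * q * c := mem_centralizer_singleton_iff.1 hcC
    refine ⟨?_, fun hci => ?_⟩
    · obtain ⟨p', hp', q', hq', rfl⟩ := hcB c hc
      have h1 : p' * q' * (p * q) * (p' * q')⁻¹ = p * q := by rw [hc, mul_inv_cancel_right]
      have hqp : q' * p * q'⁻¹ = p := by
        rw [← D.comm p (D.F₁.outer_mem i) q' hq', mul_inv_cancel_right]
      have hpq : p' * (q' * q * q'⁻¹) * p'⁻¹ = q' * q * q'⁻¹ := by
        rw [D.comm p' hp' _ (mul_mem (mul_mem hq' (D.F₂.outer_mem j)) (inv_mem hq')), mul_inv_cancel_right]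
      have e : p' * q' * (p * q) * (p' * q')⁻¹ = p' * p * p'⁻¹ * (q' * q * q'⁻¹) := by
        refine D.conj_mul ?_ ?_
        · rw [show p' * q' * p * (p' * q')⁻¹ = p' * (q' * p * q'⁻¹) * p'⁻¹ by group, hqp]
        · rw [show p' * q' * q * (p' * q')⁻¹ = p' * (q' * q * q'⁻¹) * p'⁻¹ by group, hpq]
      rw [e] at h1
      have hu := D.uniq (D.F₁.outer_mem i) (mul_mem (mul_mem hp' (D.F₁.outer_mem i)) (inv_mem hp'))
        (D.F₂.outer_mem j) (mul_mem (mul_mem hq' (D.F₂.outer_mem j)) (inv_mem hq')) h1.symm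
      obtain ⟨k, l, hk⟩ := rep D.F₁ i hp' D.g_quarter (hu.imp (·.1) (·.1))
      obtain ⟨k', l', hk'⟩ := rep D.F₂ j hq' D.swap.g_quarter (hu.imp (·.2) (·.2))
      refine ⟨(k, k', l + l'), ?_⟩
      show P k * Q k' * Z (l + l') = p' * q'
      have hZ : Z (l + l') = Z l * Z l' := by
        fin_cases l <;> fin_cases l' <;> simp [Z, D.F₁.z_sq]
      have hZc : ∀ y : X, Z l * y = y * Z l := fun y => by fin_cases l <;> simp [Z, hz]
      rw [hk, hk', hZ]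
      show P k * Q k' * (Z l * Z l') = P k * Z l * (Q k' * Z l')
      rw [mul_assoc (P k) (Z l), ← mul_assoc (Z l), hZc (Q k')]
      simp only [mul_assoc]
    · -- the fourth root of the first factor moves the element
      rw [Set.mem_singleton_iff.1 hci] at hc
      rw [← mul_assoc, D.quarter_anti i, mul_assoc _ z q, hz q, ← mul_assoc _ q z, mul_assoc p _ q,
        D.comm _ (D.F₁.g_mem m) q (D.F₂.outer_mem j), ← mul_assoc] at hc
      exact D.F₁.z_ne (mul_eq_left.1 hc)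
  have hmem : g₁ ^ (m : ℤ) ∈ Set.range f := ⟨(1, 0, 0), by simp [f, P, Q, Z]⟩
  have hr : (Set.range f).ncard ≤ 32 := by
    rw [← Set.image_univ]
    exact (Set.ncard_image_le).trans (by rw [Set.ncard_univ]; simp [Nat.card_eq_fintype_card])
  have h1 := Set.ncard_sdiff_singleton_lt_of_mem hmem (Set.toFinite _)
  have h2 := Set.ncard_le_ncard hsub
  rw [← Nat.card_coe_set_eq, SetLike.coe_sort_coe] at h2
  omega

/-- The centraliser of an involution outside `S₀` has at most 8 elements. -/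
theorem card_out {x : X} (hx : x ∉ D.S₀) (hxx : x * x = 1) :
    Nat.card (centralizer ({x} : Set X)) ≤ 8 := by
  classical
  let f : Fin 4 × Fin 2 → X := fun v => ![1, z, D.u, D.u * z] v.1 * ![1, x] v.2
  have hU : ∀ c : X, D.InU c → ∃ k : Fin 4, c = ![1, z, D.u, D.u * z] k := by
    rintro c (rfl | rfl | rfl | rfl)
    exacts [⟨0, rfl⟩, ⟨1, rfl⟩, ⟨2, rfl⟩, ⟨3, rfl⟩]
  have hsub : ((centralizer ({x} : Set X) : Subgroup X) : Set X) ⊆ Set.range f := by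
    intro c hc
    have hc' : c * x = x * c := mem_centralizer_singleton_iff.1 hc
    by_cases hc0 : c ∈ D.S₀
    · obtain ⟨k, rfl⟩ := hU c (D.out_cent hx hxx hc0 hc')
      exact ⟨(k, 0), by simp [f]⟩
    · have h0 : c * x ∈ D.S₀ := (mul_mem_iff_of_index_two D.index_two).2 ⟨fun h => absurd h hc0, fun h => absurd h hx⟩
      obtain ⟨k, hk⟩ := hU _ (D.out_cent hx hxx h0 ((show Commute c x from hc').mul_left (Commute.refl x)).eq)
      refine ⟨(k, 1), ?_⟩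
      show ![1, z, D.u, D.u * z] k * x = c
      rw [← hk, mul_assoc, hxx, mul_one]
  have hr : (Set.range f).ncard ≤ 8 := by
    rw [← Set.image_univ]
    exact (Set.ncard_image_le).trans (by rw [Set.ncard_univ]; simp [Nat.card_eq_fintype_card])
  have h2 := Set.ncard_le_ncard hsub
  rw [← Nat.card_coe_set_eq, SetLike.coe_sort_coe] at h2
  omega

/-! ### The two maximal subgroups -/

/-- The part with both components inner or both outer. -/
def H₂ : Subgroup X where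
  carrier := {x | ∃ i j : ℤ, x = g₁ ^ i * g₂ ^ j ∨ x = g₁ ^ i * a₁ * (g₂ ^ j * a₂)}
  one_mem' := ⟨0, 0, Or.inl (by simp)⟩
  mul_mem' := by
    have sw : ∀ p ∈ D.F₁.Q, ∀ q ∈ D.F₂.Q, ∀ p' ∈ D.F₁.Q, ∀ q' : X,
        p * q * (p' * q') = p * p' * (q * q') := fun p _ q hq p' hp' q' => by
      rw [mul_assoc, ← mul_assoc q, ← D.comm p' hp' q hq, mul_assoc p' q q', ← mul_assoc p]
    rintro x y ⟨i, j, rfl | rfl⟩ ⟨k, l, rfl | rfl⟩
    · exact ⟨i + k, j + l, Or.inl (by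
        rw [sw _ (D.F₁.g_mem i) _ (D.F₂.g_mem j) _ (D.F₁.g_mem k), zpow_add, zpow_add])⟩
    · exact ⟨i + k, j + l, Or.inr (by
        rw [sw _ (D.F₁.g_mem i) _ (D.F₂.g_mem j) _ (D.F₁.outer_mem k), zpow_add, zpow_add]
        simp only [mul_assoc])⟩
    · exact ⟨i - k, j - l, Or.inr (by
        rw [sw _ (D.F₁.outer_mem i) _ (D.F₂.outer_mem j) _ (D.F₁.g_mem k),
          show g₁ ^ i * a₁ * g₁ ^ k = g₁ ^ (i - k) * a₁ by
            rw [mul_assoc, D.F₁.a_mul, ← mul_assoc, ← zpow_add, ← sub_eq_add_neg],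
          show g₂ ^ j * a₂ * g₂ ^ l = g₂ ^ (j - l) * a₂ by
            rw [mul_assoc, D.F₂.a_mul, ← mul_assoc, ← zpow_add, ← sub_eq_add_neg]])⟩
    · exact ⟨i - k, j - l, Or.inl (by
        rw [sw _ (D.F₁.outer_mem i) _ (D.F₂.outer_mem j) _ (D.F₁.outer_mem k),
          show g₁ ^ i * a₁ * (g₁ ^ k * a₁) = g₁ ^ (i - k) * z by
            rw [mul_assoc, ← mul_assoc a₁, D.F₁.a_mul, mul_assoc (g₁ ^ (-k)), D.F₁.sq, ← mul_assoc,
              ← zpow_add, ← sub_eq_add_neg],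
          show g₂ ^ j * a₂ * (g₂ ^ l * a₂) = g₂ ^ (j - l) * z by
            rw [mul_assoc, ← mul_assoc a₂, D.F₂.a_mul, mul_assoc (g₂ ^ (-l)), D.F₂.sq, ← mul_assoc,
              ← zpow_add, ← sub_eq_add_neg],
          mul_assoc (g₁ ^ (i - k)), ← mul_assoc z, D.z_central (g₂ ^ (j - l)), mul_assoc (g₂ ^ (j - l)) z z,
          D.F₁.z_sq, mul_one])⟩
  inv_mem' := by
    rintro x ⟨i, j, rfl | rfl⟩
    · exact ⟨-i, -j, Or.inl (by rw [mul_inv_rev, zpow_neg, zpow_neg, D.comm _ (inv_mem (D.F₁.g_mem i)) _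
        (inv_mem (D.F₂.g_mem j))])⟩
    · refine ⟨i, j, Or.inr (inv_eq_of_mul_eq_one_right ?_)⟩
      rw [mul_assoc, ← mul_assoc (g₂ ^ j * a₂), ← D.comm _ (D.F₁.outer_mem i) _ (D.F₂.outer_mem j),
        mul_assoc (g₁ ^ i * a₁) (g₂ ^ j * a₂), D.F₂.outer_sq, ← mul_assoc, D.F₁.outer_sq, D.F₁.z_sq]

theorem H₂_le : D.H₂ ≤ D.S₀ := by
  rintro x ⟨i, j, rfl | rfl⟩
  · exact ⟨_, D.F₁.g_mem i, _, D.F₂.g_mem j, rfl⟩
  · exact ⟨_, D.F₁.outer_mem i, _, D.F₂.outer_mem j, rfl⟩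

/-- A maximal subgroup containing `w`. -/
theorem exists_maximal {H : Subgroup X} (hH : H ≤ D.S₀)
    (hw : ∀ h ∈ H, w * h * w⁻¹ ∈ H) (hC : ∀ i j : ℤ, g₁ ^ i * g₂ ^ j ∈ H) {t : X} (ht : t ∈ D.S₀)
    (htH : t ∉ H) (h2 : ∀ x ∈ D.S₀, x ∈ H ∨ x * t ∈ H) :
    ∃ M : Subgroup X, M.index = 2 ∧ ∀ x ∈ M, x ∈ D.S₀ → x ∈ H := by
  obtain ⟨i, j, hwij⟩ := D.sq_inner D.w_out
  have hww : w * w ∈ H := hwij ▸ hC i j
  have hwn : w ∈ normalizer (H : Set X) := mem_normalizer_fintype hw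
  set M := H ⊔ zpowers w with hM
  have hmem : ∀ x ∈ M, x ∈ D.S₀ → x ∈ H := by
    intro x hx hx0
    have hx' : x ∈ ((H : Set X) * (zpowers w : Set X)) :=
      (coe_mul_of_right_le_normalizer_left H (zpowers w) (zpowers_le.2 hwn)) ▸ (show x ∈ ((H ⊔ zpowers w : Subgroup X) : Set X) from hx)
    obtain ⟨h, hh, v, hv, rfl⟩ := Set.mem_mul.1 hx'
    have hv0 : v ∈ D.S₀ := (D.S₀.mul_mem_cancel_left (hH hh)).1 hx0
    obtain ⟨k, rfl⟩ := mem_zpowers_iff.1 hv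
    rcases Int.even_or_odd' k with ⟨c, rfl | rfl⟩
    · refine mul_mem hh ?_
      rw [zpow_mul, zpow_two]
      exact zpow_mem hww c
    · refine absurd ?_ D.w_out
      rw [zpow_add, zpow_mul, zpow_two, zpow_one] at hv0
      exact (D.S₀.mul_mem_cancel_left (zpow_mem (hH hww) c)).1 hv0
  refine ⟨M, index_eq_two_iff.2 ⟨t, fun b => ?_⟩, hmem⟩
  have htM : t ∉ M := fun h => htH (hmem t h ht)
  by_cases hb : b ∈ M
  · exact Or.inr ⟨hb, fun h => htM ((M.mul_mem_cancel_left hb).1 h)⟩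
  refine Or.inl ⟨?_, hb⟩
  by_cases hb0 : b ∈ D.S₀
  · exact (h2 b hb0).elim (fun h => absurd (le_sup_left (b := zpowers w) h) hb) fun h => le_sup_left (b := zpowers w) h
  · set c := b * w⁻¹ with hc
    have hc0 : c ∈ D.S₀ := (D.mem_or b).resolve_left hb0
    have hwM : w ∈ M := mem_sup_right (mem_zpowers w)
    have hcH : c ∉ H := fun h => hb (by
      rw [show b = c * w by rw [hc, inv_mul_cancel_right]]
      exact mul_mem (mem_sup_left h) hwM)
    have hwt : w * t * w⁻¹ ∈ D.S₀ := (normal_of_index_eq_two D.index_two).conj_mem t ht w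
    have hwtH : w * t * w⁻¹ ∉ H := fun h => htH ((mem_normalizer_iff.1 hwn t).2 h)
    have h3 : c * (w * t * w⁻¹) ∈ H := by
      have e1 := (h2 c hc0).resolve_left hcH
      have e2 := (h2 _ hwt).resolve_left hwtH
      have htt : t * t ∈ H := (h2 (t * t) (mul_mem ht ht)).elim id fun h => by
        exfalso
        rcases h2 (t * t * t) (mul_mem (mul_mem ht ht) ht) with h' | h'
        · exact htH (by
            have := (h2 t ht).resolve_left htH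
            exact (H.mul_mem_cancel_left this).1 h')
        · exact htH (by
            have h'' := (H.mul_mem_cancel_left h).1 h'
            exact h'')
      have : c * (w * t * w⁻¹) = c * t * (t * t)⁻¹ * (t * (w * t * w⁻¹) * t * t⁻¹) := by group
      rw [this]
      refine mul_mem (mul_mem e1 (inv_mem htt)) ?_
      rw [mul_inv_cancel_right, show t * (w * t * w⁻¹) = (t * t) * ((w * t * w⁻¹ * t)⁻¹) *
        (w * (t * t) * w⁻¹) by group]
      exact mul_mem (mul_mem htt (inv_mem e2)) (hw _ htt)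
    have e : b * t = c * (w * t * w⁻¹) * w := by rw [hc]; group
    rw [e]
    exact mul_mem (mem_sup_left h3) hwM

theorem exists_M₃ : ∃ M : Subgroup X, M.index = 2 ∧ ∀ x ∈ M, x ∈ D.S₀ → x ∈ D.H₃ := by
  obtain ⟨k, r, hr, hk, hra⟩ := D.conj₁
  obtain ⟨k', r', hr', hk', hra'⟩ := D.conj₂
  refine D.exists_maximal D.H₃_le ?_ (fun i j => ⟨_, D.F₁.g_mem i, j, rfl⟩) (D.Q₂_le D.F₂.a_mem)
    (fun h => D.outer_not_H₃ (one_mem _) 0 (by rw [one_mul, zpow_zero, one_mul]; exact h)) ?_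
  · rintro x ⟨p, hp, j, rfl⟩
    obtain ⟨i, rfl | rfl⟩ := hp
    · exact ⟨g₁ ^ (k * i), D.F₁.g_mem _, k' * j, D.conj_mul (by rw [← _root_.conj_zpow, hk, ← zpow_mul])
        (by rw [← _root_.conj_zpow, hk', ← zpow_mul])⟩
    · exact ⟨g₁ ^ (k * i) * (g₁ ^ r * a₁), mul_mem (D.F₁.g_mem _) (D.F₁.outer_mem r), k' * j,
        D.conj_mul (D.conj_mul (by rw [← _root_.conj_zpow, hk, ← zpow_mul]) hra)
          (by rw [← _root_.conj_zpow, hk', ← zpow_mul])⟩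
  · rintro x ⟨p, hp, q, hq, rfl⟩
    obtain ⟨j, rfl | rfl⟩ := hq
    · exact Or.inl ⟨p, hp, j, rfl⟩
    · exact Or.inr ⟨p, hp, j + 2 * m, by rw [mul_assoc, mul_assoc, D.F₂.sq, zpow_add, D.F₂.half]⟩

theorem exists_M₂ : ∃ M : Subgroup X, M.index = 2 ∧ ∀ x ∈ M, x ∈ D.S₀ → x ∈ D.H₂ := by
  obtain ⟨k, r, hr, hk, hra⟩ := D.conj₁
  obtain ⟨k', r', hr', hk', hra'⟩ := D.conj₂
  refine D.exists_maximal D.H₂_le ?_ (fun i j => ⟨i, j, Or.inl rfl⟩) (D.Q₂_le D.F₂.a_mem) ?_ ?_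
  · rintro x ⟨i, j, rfl | rfl⟩
    · exact ⟨k * i, k' * j, Or.inl (D.conj_mul (by rw [← _root_.conj_zpow, hk, ← zpow_mul])
        (by rw [← _root_.conj_zpow, hk', ← zpow_mul]))⟩
    · refine ⟨k * i + r, k' * j + r', Or.inr (D.conj_mul ?_ ?_)⟩
      · rw [D.conj_mul (by rw [← _root_.conj_zpow, hk, ← zpow_mul]) hra, ← mul_assoc, ← zpow_add]
      · rw [D.conj_mul (by rw [← _root_.conj_zpow, hk', ← zpow_mul]) hra', ← mul_assoc, ← zpow_add]
  · rintro ⟨i, j, e | e⟩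
    · have h := D.uniq (one_mem _) (D.F₁.g_mem i) D.F₂.a_mem (D.F₂.g_mem j) ((one_mul a₂).trans e)
      rcases h with ⟨-, e'⟩ | ⟨-, e'⟩
      · exact D.F₂.out j e'
      · exact D.F₂.out (j - 2 * m) (by
          rw [zpow_sub, e', D.F₂.half, mul_inv_cancel_right])
    · have h := D.uniq (one_mem _) (D.F₁.outer_mem i) D.F₂.a_mem (D.F₂.outer_mem j) ((one_mul a₂).trans e)
      rcases h with ⟨e', -⟩ | ⟨e', -⟩
      · exact D.F₁.inner_ne_outer 0 i ((zpow_zero g₁).trans e'.symm)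
      · exact D.F₁.inner_ne_outer (2 * m) i (by rw [e', one_mul, D.F₁.half])
  · rintro x ⟨p, hp, q, hq, rfl⟩
    obtain ⟨i, rfl | rfl⟩ := hp <;> obtain ⟨j, rfl | rfl⟩ := hq
    · exact Or.inl ⟨i, j, Or.inl rfl⟩
    · exact Or.inr ⟨i, j + 2 * m, Or.inl (by rw [mul_assoc, mul_assoc, D.F₂.sq, zpow_add, D.F₂.half])⟩
    · exact Or.inr ⟨i, j, Or.inr (mul_assoc _ _ _)⟩
    · exact Or.inl ⟨i, j, Or.inr rfl⟩

/-- The elements of class `A` form one class. -/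
theorem A_conj {x : X} (hx : D.IsA x) : IsConj (a₁ * g₂ ^ (m : ℤ)) x := by
  have hz := D.z_central
  set q := g₂ ^ (m : ℤ) with hqdef
  have hq : q ∈ D.F₂.Q := D.F₂.g_mem m
  have hsign : ∀ p ∈ D.F₁.Q, IsConj (p * q) (p * (q * z)) := fun p hp => by
    refine isConj_iff.2 ⟨a₂, D.conj_mul ?_ ?_⟩
    · rw [← D.comm p hp a₂ D.F₂.a_mem, mul_inv_cancel_right]
    · rw [hqdef, D.F₂.conj_zpow, ← D.F₂.half, ← zpow_add, D.F₂.zpow_eq]
      exact ⟨1, by ring⟩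
  obtain ⟨k, r, hr, hk, hra⟩ := D.conj₁
  obtain ⟨k', r', -, hk', -⟩ := D.conj₂
  -- shift the exponent by an even number
  have hev : ∀ s t : ℤ, IsConj (g₁ ^ t * a₁ * q) (g₁ ^ (t + 2 * s) * a₁ * q) := fun s t => by
    refine isConj_iff.2 ⟨g₁ ^ s, D.conj_mul ?_ ?_⟩
    · rw [← mul_assoc, ← zpow_add, mul_assoc, ← zpow_neg, D.F₁.a_mul, neg_neg, ← mul_assoc, ← zpow_add]
      ring_nf
    · rw [D.comm _ (D.F₁.g_mem s) q hq, mul_inv_cancel_right]
  have hodd : IsConj (a₁ * q) (g₁ ^ r * a₁ * q) := by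
    have h1 : IsConj (a₁ * q) (g₁ ^ r * a₁ * g₂ ^ (k' * m)) :=
      isConj_iff.2 ⟨w, D.conj_mul hra (by rw [hqdef, ← _root_.conj_zpow, hk', ← zpow_mul])⟩
    have hsq : g₂ ^ (k' * m) * g₂ ^ (k' * m) = z := by
      have e1 : w * z * w⁻¹ = z := by rw [← hz w, mul_inv_cancel_right]
      rw [← zpow_add, ← e1]
      conv_rhs => rw [← D.F₂.half]
      rw [← _root_.conj_zpow, hk', ← zpow_mul]
      ring_nf
    rcases D.swap.quarter_of_sq hsq with e | e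
    · rwa [e] at h1
    · rw [e] at h1
      exact h1.trans (hsign _ (D.F₁.outer_mem r)).symm
  have main : ∀ i : ℤ, IsConj (a₁ * q) (g₁ ^ i * a₁ * q) := by
    intro i
    rcases Int.even_or_odd' i with ⟨c, rfl | rfl⟩
    · simpa [zpow_zero] using hev c 0
    · rcases Int.even_or_odd' r with ⟨d, rfl | rfl⟩
      · exact absurd ⟨d, rfl⟩ hr
      · have := hev (c - d) (2 * d + 1)
        rw [show 2 * d + 1 + 2 * (c - d) = 2 * c + 1 by ring] at this
        exact hodd.trans this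
  obtain ⟨i, rfl | rfl⟩ := hx
  · exact main i
  · exact (main i).trans (hsign _ (D.F₁.outer_mem i))

/-- `u` and `u z` are conjugate. -/
theorem u_conj : IsConj D.u (D.u * z) := by
  refine isConj_iff.2 ⟨a₂, ?_⟩
  rw [u, mul_assoc (g₁ ^ (m : ℤ)) (g₂ ^ (m : ℤ)) z]
  refine D.conj_mul ?_ ?_
  · rw [← D.comm _ (D.F₁.g_mem m) a₂ D.F₂.a_mem, mul_inv_cancel_right]
  · rw [D.F₂.conj_zpow, ← D.F₂.half, ← zpow_add, D.F₂.zpow_eq]
    exact ⟨1, by ring⟩

end Shape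

end Cfsg.Agent.G2Sylow
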