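import Cfsg.Agent.Lib.G2Sylow.CentIndex
import Cfsg.Agent.Lib.G2Sylow.Count
import Cfsg.Agent.Lib.G2Sylow.CentSplit
import Cfsg.Agent.Lib.Components.PComponent

/-!
The subgroup of index two of the centraliser and its two factors.
-/

set_option autoImplicit false
set_option linter.unusedSectionVars false
set_option linter.style.haveILetI false

namespace Cfsg.Agent.G2Sylow

universe u

/-- A normal subgroup with central Sylow 2-subgroup of a group without core is its own Sylow subgroup. -/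
theorem sylow_top_of_central {G : Type u} [Group G] [Finite G] (hO : Cfsg.oddCore G = ⊥) (W : Subgroup G) [W.Normal]
    (Q : Sylow 2 W) (hQ : ∀ q : W, q ∈ (Q : Subgroup W) → ∀ w : W, w * q = q * w) : (Q : Subgroup W) = ⊤ := by
  haveI : Fact (Nat.Prime 2) := ⟨Nat.prime_two⟩
  have hNC : Subgroup.normalizer ((Q : Subgroup W) : Set W) ≤ Subgroup.centralizer ((Q : Subgroup W) : Set W) :=
    fun w _ => Subgroup.mem_centralizer_iff.2 fun q hq => (hQ q hq w).symm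
  have hK := MonoidHom.ker_transferSylow_isComplement' Q hNC
  set K := (MonoidHom.transferSylow Q hNC).ker
  have hKodd : (Nat.card K).Coprime 2 := by
    rw [Nat.coprime_two_right]
    refine Nat.odd_iff.2 (Nat.two_dvd_ne_zero.1 fun h2 => Q.not_dvd_index ?_)
    rwa [hK.index_eq_card]
  have hKbot : K = ⊥ := by
    have h1 := Cfsg.Agent.PBasic.le_pPrimeCore (inferInstance : K.Normal) hKodd
    haveI := Cfsg.Agent.PBasic.pPrimeCore_characteristic 2 W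
    have h2 : (Cfsg.pPrimeCore 2 W).map W.subtype ≤ Cfsg.pPrimeCore 2 G :=
      Cfsg.Agent.PBasic.le_pPrimeCore inferInstance (by
        rw [Subgroup.card_map_of_injective W.subtype_injective]
        exact Cfsg.Agent.FittingCores.pPrimeCore_coprime (G := W) 2)
    rw [show Cfsg.pPrimeCore 2 G = ⊥ from hO, le_bot_iff,
      Subgroup.map_eq_bot_iff_of_injective _ W.subtype_injective] at h2
    exact le_bot_iff.1 (h1.trans h2.le)
  rwa [hKbot, Subgroup.isComplement'_bot_left] at hK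

variable {H : Type u} [Group H] [Finite H] {T : Sylow 2 H} {m : ℕ} {z g₁ a₁ g₂ a₂ w : ↥(T : Subgroup H)}
variable {D : Shape ↥(T : Subgroup H) m z g₁ a₁ g₂ a₂ w} {h : ↥(T : Subgroup H)} {r₁ r₂ i j : ℤ}

namespace Shape

/-- The data of a centraliser modulo core. -/
structure Ctx (D : Shape ↥(T : Subgroup H) m z g₁ a₁ g₂ a₂ w) : Prop where
  hz : ∀ x : H, (z : H) * x = x * z
  hO : Cfsg.oddCore H = ⊥
  hfus : ∀ v ∈ D.S₀, v * v = 1 → v ≠ 1 → v ≠ z → IsConj (D.u : H) (v : H)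

theorem Ctx.symm (C : Ctx D) : Ctx D.swap where
  hz := C.hz
  hO := C.hO
  hfus v hv hvv hv1 hvz := by
    obtain ⟨p, hp, q, hq, e⟩ := hv
    have := C.hfus v ⟨q, hq, p, hp, e.trans (D.comm q hq p hp).symm⟩ hvv hv1 hvz
    rwa [show D.swap.u = D.u from (D.g_comm _ _).symm]

theorem Tw.symm (W : Tw D h r₁ r₂ i j) : Tw D.swap h r₂ r₁ j i where
  out h' := W.out (by
    obtain ⟨p, hp, q, hq, e⟩ := h'
    exact ⟨q, hq, p, hp, e.trans (D.comm q hq p hp).symm⟩)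
  c₁ := W.c₂
  c₂ := W.c₁
  a₁' := W.a₂'
  a₂' := W.a₁'
  sq := W.sq.trans (D.g_comm i j)
  i_odd := W.j_odd
  j_odd := W.i_odd
  i_r := W.j_r
  j_r := W.i_r

/-- The subgroup of index two with Sylow subgroup `S₀`. -/
theorem Ctx.exists_N (C : Ctx D) (W : Tw D h r₁ r₂ i j) :
    ∃ N : Subgroup H, N.Normal ∧ N.index = 2 ∧ ∀ s : ↥(T : Subgroup H), (s : H) ∈ N ↔ s ∈ D.S₀ := by
  obtain ⟨N, hN, h2, hh⟩ := W.exists_index_two C.hz
  refine ⟨N, hN, h2, ?_⟩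
  set N' := N.comap (T : Subgroup H).subtype with hN'
  have hu : (D.u : H) ∈ N := by
    have hp : ((h ^ (2 * m) : ↥(T : Subgroup H)) : H) ∈ N := by
      rw [Subgroup.coe_pow, pow_mul]
      refine pow_mem ?_ m
      rw [pow_two]
      exact Subgroup.mul_self_mem_of_index_two h2 _
    have hpow : h ^ (2 * m) = D.u ∨ h ^ (2 * m) = D.u * z := by
      obtain ⟨hne, hnz⟩ := W.half_ne
      have hU : D.InU (h ^ (2 * m)) := by
        rw [W.half_eq]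
        refine D.inU_of_inner ?_
        rw [← W.half_eq, ← pow_add, show 2 * m + 2 * m = 4 * m by ring, W.pow_four_m]
      exact ((hU.resolve_left hne).resolve_left hnz)
    rcases hpow with e | e <;> rw [e] at hp
    · exact hp
    · obtain ⟨c, hc⟩ := isConj_iff.1 D.u_conj
      have := hN.conj_mem _ hp (c : H)⁻¹
      rw [← hc, Subgroup.coe_mul, Subgroup.coe_mul, Subgroup.coe_inv] at this
      rwa [show (c : H)⁻¹ * ((c : H) * D.u * (c : H)⁻¹) * (c : H)⁻¹⁻¹ = D.u by group] at this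
  have hinv : ∀ v ∈ D.S₀, v * v = 1 → v ≠ 1 → v ≠ z → v ∈ N' := fun v hv hvv hv1 hvz => by
    obtain ⟨c, hc⟩ := isConj_iff.1 (C.hfus v hv hvv hv1 hvz)
    show (v : H) ∈ N
    rw [← hc]
    exact hN.conj_mem _ hu c
  have fac : ∀ {g a g' a' : ↥(T : Subgroup H)} (F : Fac m z g a) (F' : Fac m z g' a'),
      (∀ x ∈ F.Q, ∀ y ∈ F'.Q, x * y = y * x) → (∀ x ∈ F.Q, x ∈ F'.Q → x = 1 ∨ x = z) →
      (∀ x ∈ F.Q, ∀ y ∈ F'.Q, x * y ∈ D.S₀) → ∀ s : ℤ, g ^ s ∈ N' := by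
    intro g a g' a' F F' hc hcap hS s
    have key : ∀ t : ℤ, g ^ t * a * g' ^ (m : ℤ) ∈ N' := by
      intro t
      refine hinv _ (hS _ (F.outer_mem t) _ (F'.g_mem _)) ?_ ?_ ?_
      · rw [mul_assoc, ← mul_assoc (g' ^ (m : ℤ)), ← hc _ (F.outer_mem t) _ (F'.g_mem _),
          mul_assoc (g ^ t * a) (g' ^ (m : ℤ)), ← mul_assoc, F.outer_sq, F'.quarter_sq, F.z_sq]
      · intro e
        rcases hcap _ (F.outer_mem t) (by rw [eq_inv_of_mul_eq_one_left e]; exact inv_mem (F'.g_mem _)) with h' | h'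
        · exact F.inner_ne_outer 0 t (by rw [h', zpow_zero])
        · exact F.inner_ne_outer (2 * m) t (by rw [h', F.half])
      · intro e
        rcases hcap _ (F.outer_mem t) (by
            rw [eq_mul_inv_of_mul_eq e]; exact mul_mem F'.z_mem (inv_mem (F'.g_mem _))) with h' | h'
        · exact F.inner_ne_outer 0 t (by rw [h', zpow_zero])
        · exact F.inner_ne_outer (2 * m) t (by rw [h', F.half])
    have := N'.mul_mem (key s) (N'.inv_mem (key 0))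
    rwa [zpow_zero, one_mul, mul_inv_rev, mul_assoc, mul_inv_cancel_left, mul_inv_cancel_right] at this
  have hg₁ := fac D.F₁ D.F₂ D.comm D.cap fun x hx y hy => ⟨x, hx, y, hy, rfl⟩
  have hg₂ := fac D.F₂ D.F₁ (fun x hx y hy => (D.comm y hy x hx).symm) (fun x hx hx' => D.cap x hx' hx)
    fun x hx y hy => ⟨y, hy, x, hx, (D.comm y hy x hx).symm⟩
  have outer : ∀ {g a g' a' : ↥(T : Subgroup H)} (F : Fac m z g a) (F' : Fac m z g' a'),
      (∀ s : ℤ, g' ^ s ∈ N') → (∀ x ∈ F.Q, x ∈ F'.Q → x = 1 ∨ x = z) →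
      (∀ x ∈ F.Q, ∀ y ∈ F'.Q, x * y = y * x) → (∀ x ∈ F.Q, ∀ y ∈ F'.Q, x * y ∈ D.S₀) → a ∈ N' := by
    intro g a g' a' F F' hg' hcap hc hS
    have h1 : a * g' ^ (m : ℤ) ∈ N' := by
      refine hinv _ (hS _ F.a_mem _ (F'.g_mem _)) ?_ ?_ ?_
      · rw [mul_assoc, ← mul_assoc (g' ^ (m : ℤ)), ← hc _ F.a_mem _ (F'.g_mem _), mul_assoc a (g' ^ (m : ℤ)),
          ← mul_assoc, F.sq, F'.quarter_sq, F.z_sq]
      · intro e
        rcases hcap _ F.a_mem (by rw [eq_inv_of_mul_eq_one_left e]; exact inv_mem (F'.g_mem _)) with h' | h'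
        · exact F.out 0 (by rw [h', zpow_zero])
        · exact F.out (2 * m) (by rw [h', F.half])
      · intro e
        rcases hcap _ F.a_mem (by
            rw [eq_mul_inv_of_mul_eq e]; exact mul_mem F'.z_mem (inv_mem (F'.g_mem _))) with h' | h'
        · exact F.out 0 (by rw [h', zpow_zero])
        · exact F.out (2 * m) (by rw [h', F.half])
    exact (N'.mul_mem_cancel_right (hg' _)).1 h1
  have ha₁ := outer D.F₁ D.F₂ hg₂ D.cap D.comm fun x hx y hy => ⟨x, hx, y, hy, rfl⟩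
  have ha₂ := outer D.F₂ D.F₁ hg₁ (fun x hx hx' => D.cap x hx' hx) (fun x hx y hy => (D.comm y hy x hx).symm)
    fun x hx y hy => ⟨y, hy, x, hx, (D.comm y hy x hx).symm⟩
  have hS : ∀ s ∈ D.S₀, s ∈ N' := by
    rintro _ ⟨p, hp, q, hq, rfl⟩
    refine mul_mem ?_ ?_
    · obtain ⟨t, rfl | rfl⟩ := D.F₁.mem_Q.1 hp
      exacts [hg₁ t, mul_mem (hg₁ t) ha₁]
    · obtain ⟨t, rfl | rfl⟩ := D.F₂.mem_Q.1 hq
      exacts [hg₂ t, mul_mem (hg₂ t) ha₂]
  intro s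
  refine ⟨fun hs => ?_, fun hs => hS s hs⟩
  by_contra h0
  have hmem : s * h ∈ D.S₀ :=
    (Subgroup.mul_mem_iff_of_index_two D.index_two).2 ⟨fun h' => absurd h' h0, fun h' => absurd h' W.out⟩
  have := (N.mul_mem_cancel_left hs).1 (show (s : H) * h ∈ N from hS _ hmem)
  exact hh this

/-- Two factors in the subgroup of index two. -/
structure Parts (D : Shape ↥(T : Subgroup H) m z g₁ a₁ g₂ a₂ w) (N K₁ K₂ : Subgroup H) : Prop where
  Nn : N.Normal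
  N2 : N.index = 2
  Nmem : ∀ s : ↥(T : Subgroup H), (s : H) ∈ N ↔ s ∈ D.S₀
  n₁ : K₁.Normal
  n₂ : K₂.Normal
  le₁ : K₁ ≤ N
  le₂ : K₂ ≤ N
  Q₁ : ∀ s ∈ D.F₁.Q, (s : H) ∈ K₁
  Q₂ : ∀ s ∈ D.F₂.Q, (s : H) ∈ K₂
  inter₁ : ∀ s : ↥(T : Subgroup H), (s : H) ∈ K₁ → s ∈ D.F₁.Q
  inter₂ : ∀ s : ↥(T : Subgroup H), (s : H) ∈ K₂ → s ∈ D.F₂.Q
  comm : ∀ x ∈ K₁, ∀ y ∈ K₂, x * y * x⁻¹ * y⁻¹ = 1 ∨ x * y * x⁻¹ * y⁻¹ = (z : H)
  cent : ∀ c ∈ N, (∀ x ∈ K₁, c * x * c⁻¹ * x⁻¹ = 1 ∨ c * x * c⁻¹ * x⁻¹ = (z : H)) →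
    (∀ x ∈ K₂, c * x * c⁻¹ * x⁻¹ = 1 ∨ c * x * c⁻¹ * x⁻¹ = (z : H)) → c ∈ K₁ ⊔ K₂
  fuse₁ : ∀ p ∈ D.F₁.Q, p * p = z → ∀ q ∈ D.F₂.Q, q * q = z → ∃ g ∈ N,
    (g * (g₁ : H) ^ m * g⁻¹ = p ∨ g * (g₁ : H) ^ m * g⁻¹ = p * z) ∧ (g * q * g⁻¹ = q ∨ g * q * g⁻¹ = q * z)
  fuse₂ : ∀ p ∈ D.F₂.Q, p * p = z → ∀ q ∈ D.F₁.Q, q * q = z → ∃ g ∈ N,
    (g * (g₂ : H) ^ m * g⁻¹ = p ∨ g * (g₂ : H) ^ m * g⁻¹ = p * z) ∧ (g * q * g⁻¹ = q ∨ g * q * g⁻¹ = q * z)
  kind₁ : (m = 1 ∧ ∀ x ∈ K₁, ∃ s ∈ D.F₁.Q, (s : H) = x) ∨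
    (∃ (Y : Type u) (_ : Group Y) (π : K₁ →* Y), IsSimpleGroup Y ∧ ¬ IsMulCommutative Y ∧ GW.IsTarget Y ∧
      Function.Surjective π ∧ ∀ x : K₁, π x = 1 ↔ (x : H) = 1 ∨ (x : H) = z)
  kind₂ : (m = 1 ∧ ∀ x ∈ K₂, ∃ s ∈ D.F₂.Q, (s : H) = x) ∨
    (∃ (Y : Type u) (_ : Group Y) (π : K₂ →* Y), IsSimpleGroup Y ∧ ¬ IsMulCommutative Y ∧ GW.IsTarget Y ∧
      Function.Surjective π ∧ ∀ x : K₂, π x = 1 ↔ (x : H) = 1 ∨ (x : H) = z)

theorem Parts.symm {N K₁ K₂ : Subgroup H} (P : Parts D N K₁ K₂) : Parts D.swap N K₂ K₁ where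
  Nn := P.Nn
  N2 := P.N2
  Nmem s := (P.Nmem s).trans ⟨fun ⟨p, hp, q, hq, e⟩ => ⟨q, hq, p, hp, e.trans (D.comm p hp q hq)⟩,
    fun ⟨q, hq, p, hp, e⟩ => ⟨p, hp, q, hq, e.trans (D.comm p hp q hq).symm⟩⟩
  n₁ := P.n₂
  n₂ := P.n₁
  le₁ := P.le₂
  le₂ := P.le₁
  Q₁ := P.Q₂
  Q₂ := P.Q₁
  inter₁ := P.inter₂
  inter₂ := P.inter₁
  comm x hx y hy := by
    have e : x * y * x⁻¹ * y⁻¹ = (y * x * y⁻¹ * x⁻¹)⁻¹ := by group
    rcases P.comm y hy x hx with h' | h' <;> rw [e, h']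
    · exact Or.inl inv_one
    · exact Or.inr (by rw [← Subgroup.coe_inv, D.F₁.z_inv])
  cent c hc h1 h2 := sup_comm K₁ K₂ ▸ P.cent c hc h2 h1
  fuse₁ := P.fuse₂
  fuse₂ := P.fuse₁
  kind₁ := P.kind₂
  kind₂ := P.kind₁

/-- The factors exist. -/
theorem Ctx.exists_parts (C : Ctx D) (W : Tw D h r₁ r₂ i j) : ∃ N K₁ K₂ : Subgroup H, Parts D N K₁ K₂ := by
  haveI : Fact (Nat.Prime 2) := ⟨Nat.prime_two⟩
  obtain ⟨N, hNn, hN2, hmem⟩ := C.exists_N W
  haveI := hNn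
  have hzN : (z : H) ∈ N := (hmem z).2 (D.Q₁_le D.F₁.z_mem)
  let Z : Subgroup N := Subgroup.zpowers (⟨z, hzN⟩ : N)
  haveI hZn : Z.Normal := ⟨fun a ha g => by
    obtain ⟨k, rfl⟩ := ha
    have hc : Commute g ((⟨z, hzN⟩ : N) ^ k) :=
      (show Commute g ⟨z, hzN⟩ from Subtype.ext (C.hz g).symm).zpow_right k
    show g * (⟨z, hzN⟩ : N) ^ k * g⁻¹ ∈ Z
    rw [hc.eq, mul_inv_cancel_right]
    exact zpow_mem (Subgroup.mem_zpowers (⟨z, hzN⟩ : N)) k⟩
  have hzz : (z : H) * z = 1 := by rw [← Subgroup.coe_mul, D.F₁.z_sq, OneMemClass.coe_one]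
  have hZ : ∀ x : N, x ∈ Z ↔ (x : H) = 1 ∨ (x : H) = z := by
    intro x
    constructor
    · rintro ⟨k, rfl⟩
      rcases Int.even_or_odd' k with ⟨c, rfl | rfl⟩
      · left
        show (((⟨z, hzN⟩ : N) ^ (2 * c) : N) : H) = 1
        rw [Subgroup.coe_zpow]
        show (z : H) ^ (2 * c) = 1
        rw [zpow_mul, zpow_two, hzz, one_zpow]
      · right
        show (((⟨z, hzN⟩ : N) ^ (2 * c + 1) : N) : H) = z
        rw [Subgroup.coe_zpow]
        show (z : H) ^ (2 * c + 1) = z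
        rw [zpow_add, zpow_mul, zpow_two, hzz, one_zpow, one_mul, zpow_one]
    · rintro (e | e)
      · rw [show x = 1 from Subtype.ext e]; exact one_mem _
      · rw [show x = ⟨z, hzN⟩ from Subtype.ext e]; exact Subgroup.mem_zpowers _
  let X := N ⧸ Z
  let π : N →* X := QuotientGroup.mk' Z
  have hπ : ∀ {x y : N}, π x = π y ↔ (y : H) = x ∨ (y : H) = x * z := by
    intro x y
    rw [QuotientGroup.mk'_eq_mk']
    constructor
    · rintro ⟨c, hc, rfl⟩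
      rcases (hZ c).1 hc with e | e
      · exact Or.inl (by rw [Subgroup.coe_mul, e, mul_one])
      · exact Or.inr (by rw [Subgroup.coe_mul, e])
    · rintro (e | e)
      · exact ⟨1, one_mem _, Subtype.ext (by rw [mul_one]; exact e.symm)⟩
      · exact ⟨⟨z, hzN⟩, Subgroup.mem_zpowers _, Subtype.ext e.symm⟩
  -- the image of `S₀`
  let ι : D.S₀ →* N :=
    ((T : Subgroup H).subtype.comp D.S₀.subtype).codRestrict N fun s => (hmem s.1).2 s.2
  let ρ : D.S₀ →* X := π.comp ι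
  have hρ : ∀ {s t : D.S₀}, ρ s = ρ t ↔ (t : ↥(T : Subgroup H)) = s ∨ (t : ↥(T : Subgroup H)) = s * z := by
    intro s t
    show π (ι s) = π (ι t) ↔ _
    rw [hπ]
    constructor <;> rintro (e | e)
    · exact Or.inl (Subtype.ext e)
    · exact Or.inr (Subtype.ext e)
    · exact Or.inl (congrArg Subtype.val e :)
    · exact Or.inr (congrArg Subtype.val e :)
  obtain ⟨PN, hPN⟩ := Cfsg.Agent.PBasic.exists_sylow_subgroupOf T N
  let P : Sylow 2 X := PN.mapSurjective (QuotientGroup.mk'_surjective Z)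
  have hP : (P : Subgroup X) = ρ.range := by
    show (PN : Subgroup N).map π = _
    rw [hPN]
    apply le_antisymm
    · rintro _ ⟨x, hx, rfl⟩
      exact ⟨⟨⟨x, hx⟩, (hmem ⟨x, hx⟩).1 x.2⟩, rfl⟩
    · rintro _ ⟨s, rfl⟩
      exact ⟨ι s, s.1.2, rfl⟩
  let sub : ∀ s : ↥(T : Subgroup H), s ∈ D.S₀ → X := fun s hs => ρ ⟨s, hs⟩
  have hg₁ : g₁ ∈ D.S₀ := D.Q₁_le (by simpa using D.F₁.g_mem 1)
  have hg₂ : g₂ ∈ D.S₀ := D.Q₂_le (by simpa using D.F₂.g_mem 1)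
  have ha₁ : a₁ ∈ D.S₀ := D.Q₁_le D.F₁.a_mem
  have ha₂ : a₂ ∈ D.S₀ := D.Q₂_le D.F₂.a_mem
  -- a factor modulo `z`
  have dfac : ∀ {g a : ↥(T : Subgroup H)} (F : Fac m z g a) (hg : g ∈ D.S₀) (ha : a ∈ D.S₀),
      DFac m (Subgroup.closure {sub g hg, sub a ha}) (sub g hg) (sub a ha) := by
    intro g a F hg ha
    refine ⟨F.pos, ?_, ?_, ?_, ?_, rfl⟩
    · obtain ⟨n, hn⟩ := two_pow_m D
      obtain ⟨n', rfl⟩ : ∃ n', n = n' + 2 := by
        refine ⟨n - 2, ?_⟩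
        have h4 : 4 ≤ 2 ^ n := hn ▸ Nat.le_mul_of_pos_right 4 F.pos
        have : 2 ≤ n := by
          by_contra hlt
          have : 2 ^ n ≤ 2 ^ 1 := Nat.pow_le_pow_right two_pos (by omega)
          omega
        omega
      have h2m : 2 * m = 2 ^ (n' + 1) := by rw [pow_succ] at hn; omega
      rw [h2m]
      refine orderOf_eq_prime_pow ?_ ?_
      · intro e
        rw [← map_pow, ← map_one ρ, hρ] at e
        obtain ⟨k, hk⟩ : ∃ k : ℕ, k = 2 ^ n' := ⟨_, rfl⟩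
        rw [← hk, Subgroup.coe_pow, OneMemClass.coe_one] at e
        have hkm : (k : ℤ) = m := by
          have : 2 ^ (n' + 1) = 2 * k := by rw [pow_succ', hk]
          omega
        rcases e with e | e
        · exact F.z_ne (by rw [← F.quarter_sq, ← hkm, zpow_natCast, e.symm, one_mul])
        · have e' : g ^ k = z := by
            rw [← mul_one (g ^ k), ← F.z_sq, ← mul_assoc, ← e, one_mul]
          exact F.z_ne (by rw [← F.quarter_sq, ← hkm, zpow_natCast, e', F.z_sq])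
      · rw [← map_pow, ← map_one ρ, hρ]
        refine Or.inr ?_
        rw [Subgroup.coe_pow, OneMemClass.coe_one, ← h2m, ← zpow_natCast]
        push_cast
        rw [F.half, F.z_sq]
    · rw [← map_mul, ← map_one ρ, hρ]
      refine Or.inr ?_
      rw [Subgroup.coe_mul, OneMemClass.coe_one, F.sq, F.z_sq]
    · rw [← map_inv, ← map_mul, ← map_mul, ← map_inv, hρ]
      exact Or.inl (by simp [F.inv])
    · intro k e
      rw [← map_zpow, hρ, Subgroup.coe_zpow] at e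
      rcases e with e | e
      · exact F.out k e.symm
      · refine F.out (k + 2 * m) ?_
        rw [zpow_add, F.half]; exact e.symm
  set x₁ := sub g₁ hg₁
  set y₁ := sub a₁ ha₁
  set x₂ := sub g₂ hg₂
  set y₂ := sub a₂ ha₂
  set D₁ := Subgroup.closure {x₁, y₁}
  set D₂ := Subgroup.closure {x₂, y₂}
  have dmem : ∀ {g a : ↥(T : Subgroup H)} (F : Fac m z g a) (hg : g ∈ D.S₀) (ha : a ∈ D.S₀) (x : X),
      x ∈ Subgroup.closure {sub g hg, sub a ha} → ∃ s, ∃ hs : s ∈ D.S₀, s ∈ F.Q ∧ x = sub s hs := by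
    intro g a F hg ha x hx
    obtain ⟨k, rfl | rfl⟩ := (dfac F hg ha).cases hx
    · exact ⟨g ^ k, zpow_mem hg k, F.g_mem k, (map_zpow ρ ⟨g, hg⟩ k).symm⟩
    · exact ⟨g ^ k * a, mul_mem (zpow_mem hg k) ha, F.outer_mem k, by
        rw [← map_zpow, ← map_mul]; exact congrArg ρ (Subtype.ext (by simp))⟩
  have dmem' : ∀ {g a : ↥(T : Subgroup H)} (F : Fac m z g a) (hg : g ∈ D.S₀) (ha : a ∈ D.S₀)
      (s : ↥(T : Subgroup H)) (hs : s ∈ D.S₀), s ∈ F.Q → sub s hs ∈ Subgroup.closure {sub g hg, sub a ha} := by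
    intro g a F hg ha s hs hsQ
    obtain ⟨k, rfl | rfl⟩ := F.mem_Q.1 hsQ
    · rw [show sub (g ^ k) hs = sub g hg ^ k from map_zpow ρ ⟨g, hg⟩ k]
      exact zpow_mem (Subgroup.subset_closure (Set.mem_insert _ _)) k
    · rw [show sub (g ^ k * a) hs = sub g hg ^ k * sub a ha by
        rw [← map_zpow, ← map_mul]; exact congrArg ρ (Subtype.ext (by simp))]
      exact mul_mem (zpow_mem (Subgroup.subset_closure (Set.mem_insert _ _)) k)
        (Subgroup.subset_closure (Set.mem_insert_of_mem _ (Set.mem_singleton _)))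
  have hcore : Cfsg.oddCore X = ⊥ := by
    haveI : (Cfsg.oddCore X).Normal := Cfsg.Agent.FittingCores.pPrimeCore_normal 2
    set R : Subgroup N := (Cfsg.oddCore X).comap π
    have hON : Cfsg.oddCore N = ⊥ := by
      haveI := Cfsg.Agent.PBasic.pPrimeCore_characteristic 2 N
      have h2 : (Cfsg.pPrimeCore 2 N).map N.subtype ≤ Cfsg.pPrimeCore 2 H :=
        Cfsg.Agent.PBasic.le_pPrimeCore inferInstance (by
          rw [Subgroup.card_map_of_injective N.subtype_injective]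
          exact Cfsg.Agent.FittingCores.pPrimeCore_coprime (G := N) 2)
      rw [show Cfsg.pPrimeCore 2 H = ⊥ from C.hO, le_bot_iff,
        Subgroup.map_eq_bot_iff_of_injective _ N.subtype_injective] at h2
      exact h2
    obtain ⟨Q, hQ⟩ := Cfsg.Agent.PBasic.exists_sylow_subgroupOf PN R
    have hQc : ∀ q : R, q ∈ (Q : Subgroup R) → (q : N) ∈ Z := by
      intro q hq
      rw [hQ] at hq
      have h1 : π q ∈ Cfsg.oddCore X := q.2
      have h2 : π (q : N) ∈ (P : Subgroup X) := ⟨q, hq, rfl⟩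
      have h3 : π (q : N) = 1 := by
        obtain ⟨k, hk⟩ := P.2 ⟨_, h2⟩
        have hk' : π (q : N) ^ 2 ^ k = 1 := congrArg Subtype.val hk
        have hd := (Nat.dvd_gcd ((Subgroup.orderOf_dvd_natCard _ h1).trans dvd_rfl)
          (orderOf_dvd_of_pow_eq_one hk'))
        rw [show Nat.gcd (Nat.card (Cfsg.oddCore X)) (2 ^ k) = 1 from
          Nat.Coprime.pow_right k (Cfsg.Agent.FittingCores.pPrimeCore_coprime (G := X) 2)] at hd
        exact orderOf_eq_one_iff.1 (Nat.dvd_one.1 hd)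
      exact (QuotientGroup.eq_one_iff _).1 h3
    have htop := sylow_top_of_central hON R Q fun q hq r => Subtype.ext (Subtype.ext (by
      show (r.1 : H) * (q.1 : H) = (q.1 : H) * (r.1 : H)
      rcases (hZ _).1 (hQc q hq) with e | e <;> rw [e]
      · rw [one_mul, mul_one]
      · rw [C.hz]))
    rw [eq_bot_iff]
    intro x hx
    obtain ⟨r, rfl⟩ := QuotientGroup.mk'_surjective Z x
    exact Subgroup.mem_bot.2 ((QuotientGroup.eq_one_iff _).2 (hQc ⟨r, hx⟩ (htop ▸ Subgroup.mem_top _)))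
  -- mixed elements
  have hsubeq : ∀ {s t : ↥(T : Subgroup H)} (hs : s ∈ D.S₀) (ht : t ∈ D.S₀),
      sub s hs = sub t ht ↔ t = s ∨ t = s * z := fun hs ht => hρ
  have lift_sq : ∀ {g a : ↥(T : Subgroup H)} (F : Fac m z g a) {s : ↥(T : Subgroup H)} (hs : s ∈ D.S₀),
      s ∈ F.Q → sub s hs * sub s hs = 1 → sub s hs ≠ 1 → s * s = z := by
    intro g a F s hs hsQ h1 h2
    rw [← map_mul, ← map_one ρ, hρ, Subgroup.coe_mul, OneMemClass.coe_one] at h1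
    rcases h1 with e | e
    · exfalso
      obtain ⟨k, rfl | rfl⟩ := F.mem_Q.1 hsQ
      · refine h2 ?_
        rw [← map_one ρ, hρ, OneMemClass.coe_one]
        obtain ⟨c, hc⟩ := F.zpow_one_iff.1 (show g ^ (k + k) = 1 by rw [zpow_add]; exact e.symm)
        have hk : k = 2 * m * c := by linarith
        have hzz : g ^ k = z ^ c := by rw [hk, zpow_mul, F.half]
        show 1 = g ^ k ∨ 1 = g ^ k * z
        rcases Int.even_or_odd' c with ⟨d, rfl | rfl⟩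
        · left; rw [hzz, zpow_mul, zpow_two, F.z_sq, one_zpow]
        · right; rw [hzz, zpow_add, zpow_mul, zpow_two, F.z_sq, one_zpow, one_mul, zpow_one, F.z_sq]
      · exact F.z_ne (by rw [← F.outer_sq k]; exact e.symm)
    · calc s * s = s * s * (z * z) := by rw [F.z_sq, mul_one]
        _ = z := by rw [← mul_assoc, ← e, one_mul]
  have hsep : ∀ {g a : ↥(T : Subgroup H)} (F : Fac m z g a) (hg : g ∈ D.S₀) (ha : a ∈ D.S₀),
      ∀ x ∈ Subgroup.closure {sub g hg, sub a ha}, ¬ IsConj (x₁ ^ m * x₂ ^ m) x := by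
    intro g a F hg ha x hx e
    obtain ⟨c, hc⟩ := isConj_iff.1 e
    obtain ⟨c, rfl⟩ := QuotientGroup.mk'_surjective Z c
    rw [← map_pow, ← map_pow, ← map_mul] at hc
    obtain ⟨p, hp', hp, rfl⟩ := dmem F hg ha x hx
    change π c * π (ι (⟨g₁, hg₁⟩ ^ m * ⟨g₂, hg₂⟩ ^ m)) * (π c)⁻¹ = π (ι ⟨p, hp'⟩) at hc
    rw [← map_inv, ← map_mul, ← map_mul, hπ] at hc
    have hu' : ((⟨g₁, hg₁⟩ ^ m * ⟨g₂, hg₂⟩ ^ m : D.S₀) : ↥(T : Subgroup H)) = D.u := by
      simp [u]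
    change (p : H) = c.1 * (((⟨g₁, hg₁⟩ ^ m * ⟨g₂, hg₂⟩ ^ m : D.S₀) : ↥(T : Subgroup H)) : H) * c.1⁻¹ ∨
      (p : H) = c.1 * (((⟨g₁, hg₁⟩ ^ m * ⟨g₂, hg₂⟩ ^ m : D.S₀) : ↥(T : Subgroup H)) : H) * c.1⁻¹ * z at hc
    rw [hu'] at hc
    have huu : (D.u : H) * D.u = 1 := by rw [← Subgroup.coe_mul, D.u_sq, OneMemClass.coe_one]
    have hzz : (z : H) * z = 1 := by rw [← Subgroup.coe_mul, D.F₁.z_sq, OneMemClass.coe_one]
    have hsq : (c.1 * (D.u : H) * c.1⁻¹) * (c.1 * (D.u : H) * c.1⁻¹) = 1 := by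
      rw [show c.1 * (D.u : H) * c.1⁻¹ * (c.1 * (D.u : H) * c.1⁻¹) = c.1 * ((D.u : H) * D.u) * c.1⁻¹ by group,
        huu]
      group
    have hpp : p * p = 1 := by
      refine Subtype.ext ?_
      rw [Subgroup.coe_mul, OneMemClass.coe_one]
      rcases hc with e | e <;> rw [e]
      · exact hsq
      · rw [mul_assoc _ (z : H), C.hz (_ * (z : H)), mul_assoc (_ * _) (z : H), hzz, mul_one, hsq]
    have h1z : p = 1 ∨ p = z := by
      obtain ⟨k, rfl | rfl⟩ := F.mem_Q.1 hp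
      · obtain ⟨d, hd⟩ := F.zpow_one_iff.1 (show g ^ (k + k) = 1 by rw [zpow_add]; exact hpp)
        have hk : k = 2 * m * d := by linarith
        rcases Int.even_or_odd' d with ⟨d', rfl | rfl⟩
        · left; rw [hk, zpow_mul, F.half, zpow_mul, zpow_two, F.z_sq, one_zpow]
        · right; rw [hk, zpow_mul, F.half, zpow_add, zpow_mul, zpow_two, F.z_sq, one_zpow, one_mul, zpow_one]
      · exact absurd ((F.outer_sq k).symm.trans hpp) F.z_ne
    -- hence `u` would lie in `⟨z⟩`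
    have hp1 : (p : H) = 1 ∨ (p : H) = z := h1z.imp (fun e => by rw [e, OneMemClass.coe_one]) (fun e => by rw [e])
    have hu1 : (D.u : H) = 1 ∨ (D.u : H) = z := by
      have back : ∀ r : H, r = 1 ∨ r = z → c.1 * (D.u : H) * c.1⁻¹ = r → (D.u : H) = r := by
        intro r hr e
        rw [show (D.u : H) = c.1⁻¹ * (c.1 * (D.u : H) * c.1⁻¹) * c.1 by group, e]
        rcases hr with rfl | rfl
        · group
        · rw [mul_assoc, C.hz, inv_mul_cancel_left]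
      rcases hc with e | e <;> rcases hp1 with e' | e' <;> rw [e'] at e
      · exact Or.inl (back 1 (Or.inl rfl) e.symm)
      · exact Or.inr (back z (Or.inr rfl) e.symm)
      · exact Or.inr (back z (Or.inr rfl) ((eq_mul_inv_of_mul_eq e.symm).trans (by rw [one_mul, ← Subgroup.coe_inv, D.F₁.z_inv])))
      · exact Or.inl (back 1 (Or.inl rfl) ((eq_mul_inv_of_mul_eq e.symm).trans (mul_inv_cancel _)))
    have hU1 : D.u ≠ 1 ∧ D.u ≠ z := by
      have ho := odd_mul_not D.F₁.pos (show ¬ (2 : ℤ) ∣ 1 by norm_num)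
      rw [one_mul] at ho
      refine ⟨fun e => ho (D.cap_pow (a := (m : ℤ)) (b := m) e),
        fun e => ho (D.cap_pow (a := (m : ℤ)) (b := m + 2 * m) ?_)⟩
      rw [zpow_add g₂, D.F₂.half, ← mul_assoc]
      show D.u * z = 1
      rw [e, D.F₁.z_sq]
    rcases hu1 with e | e
    · exact hU1.1 (Subtype.ext (by rw [e, OneMemClass.coe_one]))
    · exact hU1.2 (Subtype.ext e)
  have B : Box P m D₁ D₂ x₁ y₁ x₂ y₂ := by
    have d₁ := dfac D.F₁ hg₁ ha₁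
    have d₂ := dfac D.F₂ hg₂ ha₂
    have hz2 : (z * z : ↥(T : Subgroup H)) = 1 := D.F₁.z_sq
    refine ⟨d₁, d₂, ⟨?_, ?_, ?_, ?_, ?_⟩, ?_, ?_, ?_, hcore⟩
    · intro x hx
      obtain ⟨s, hs, -, rfl⟩ := dmem D.F₁ hg₁ ha₁ x hx
      exact hP ▸ ⟨_, rfl⟩
    · intro x hx
      obtain ⟨s, hs, -, rfl⟩ := dmem D.F₂ hg₂ ha₂ x hx
      exact hP ▸ ⟨_, rfl⟩
    · intro x hx y hy
      obtain ⟨s, hs, hs', rfl⟩ := dmem D.F₁ hg₁ ha₁ x hx
      obtain ⟨t, ht, ht', rfl⟩ := dmem D.F₂ hg₂ ha₂ y hy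
      rw [← map_mul, ← map_mul]
      exact congrArg ρ (Subtype.ext (D.comm s hs' t ht'))
    · rw [eq_bot_iff]
      rintro x ⟨hx, hx'⟩
      obtain ⟨s, hs, hs', rfl⟩ := dmem D.F₁ hg₁ ha₁ x hx
      obtain ⟨t, ht, ht', e⟩ := dmem D.F₂ hg₂ ha₂ _ hx'
      have hsQ₂ : s ∈ D.F₂.Q := by
        rcases (hsubeq hs ht).1 e with e' | e'
        · exact e' ▸ ht'
        · have := mul_mem ht' D.F₂.z_mem
          rwa [e', mul_assoc, hz2, mul_one] at this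
      rw [Subgroup.mem_bot, ← map_one ρ, hρ, OneMemClass.coe_one]
      rcases D.cap s hs' hsQ₂ with e' | e' <;> subst e'
      · exact Or.inl rfl
      · exact Or.inr hz2.symm
    · refine le_antisymm (sup_le ?_ ?_) ?_
      · intro x hx
        obtain ⟨s, hs, -, rfl⟩ := dmem D.F₁ hg₁ ha₁ x hx
        exact hP ▸ ⟨_, rfl⟩
      · intro x hx
        obtain ⟨s, hs, -, rfl⟩ := dmem D.F₂ hg₂ ha₂ x hx
        exact hP ▸ ⟨_, rfl⟩
      · rw [hP]
        rintro _ ⟨⟨_, p, hp, q, hq, rfl⟩, rfl⟩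
        have e : ∀ h0 : p * q ∈ D.S₀, ρ ⟨p * q, h0⟩ = sub p (D.Q₁_le hp) * sub q (D.Q₂_le hq) := fun h0 =>
          (congrArg ρ (Subtype.ext rfl : (⟨p * q, h0⟩ : D.S₀) = ⟨p, D.Q₁_le hp⟩ * ⟨q, D.Q₂_le hq⟩)).trans (map_mul ρ _ _)
        refine Eq.subst (motive := fun y => y ∈ _) (e _).symm ?_
        exact mul_mem (Subgroup.mem_sup_left (dmem' D.F₁ hg₁ ha₁ p _ hp))
          (Subgroup.mem_sup_right (dmem' D.F₂ hg₂ ha₂ q _ hq))
    · intro x hx hxx hx1 y hy hyy hy1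
      obtain ⟨p, hp', hp, rfl⟩ := dmem D.F₁ hg₁ ha₁ x hx
      obtain ⟨q, hq', hq, rfl⟩ := dmem D.F₂ hg₂ ha₂ y hy
      have hp2 := lift_sq D.F₁ hp' hp hxx hx1
      have hq2 := lift_sq D.F₂ hq' hq hyy hy1
      have hpq : p * q * (p * q) = 1 := by
        rw [mul_assoc p, ← mul_assoc q, ← D.comm p hp q hq, mul_assoc p q q, hq2, ← mul_assoc, hp2, hz2]
      have hne : ∀ v : ↥(T : Subgroup H), v = 1 ∨ v = z → p * q ≠ v := by
        intro v hv e
        have hpQ : p ∈ D.F₂.Q := by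
          rw [eq_mul_inv_of_mul_eq e]
          rcases hv with rfl | rfl
          · exact mul_mem (one_mem _) (inv_mem hq)
          · exact mul_mem D.F₂.z_mem (inv_mem hq)
        rcases D.cap p hp hpQ with h' | h' <;> rw [h'] at hp2
        · exact D.F₁.z_ne (by rw [← hp2, one_mul])
        · exact D.F₁.z_ne (by rw [← hp2, hz2])
      obtain ⟨c, hc⟩ := isConj_iff.1 (C.hfus (p * q) ⟨p, hp, q, hq, rfl⟩ hpq (hne 1 (Or.inl rfl)) (hne z (Or.inr rfl)))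
      have hu0 : D.u ∈ D.S₀ := ⟨_, D.F₁.g_mem _, _, D.F₂.g_mem _, rfl⟩
      -- move the conjugating element into `N`
      obtain ⟨c', hc'N, hc'⟩ : ∃ c' ∈ N, c' * (D.u : H) * c'⁻¹ = ((p * q : ↥(T : Subgroup H)) : H) := by
        by_cases hcN : c ∈ N
        · exact ⟨c, hcN, hc⟩
        refine ⟨c * h, (Subgroup.mul_mem_iff_of_index_two hN2).2
          ⟨fun h' => absurd h' hcN, fun h' => absurd ((hmem h).1 h') W.out⟩, ?_⟩
        rw [show c * (h : H) * (D.u : H) * (c * (h : H))⁻¹ = c * ((h : H) * (D.u : H) * (h : H)⁻¹) * c⁻¹ by group]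
        have e : (h : H) * (D.u : H) * (h : H)⁻¹ = (D.u : H) := by
          have : h * D.u * h⁻¹ = D.u := by
            rw [u, ← mul_assoc h, W.c₁, mul_assoc _ h, W.c₂, ← mul_assoc, mul_inv_cancel_right]
          exact congrArg Subtype.val this
        rw [e, hc]
      refine isConj_iff.2 ⟨π ⟨c', hc'N⟩, ?_⟩
      rw [← map_pow, ← map_pow, ← map_mul, ← map_mul]
      show π _ * π _ * (π _)⁻¹ = π _
      rw [← map_inv, ← map_mul, ← map_mul]
      refine congrArg π (Subtype.ext ?_)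
      have hu' : ((⟨g₁, hg₁⟩ ^ m * ⟨g₂, hg₂⟩ ^ m : D.S₀) : ↥(T : Subgroup H)) = D.u := by
        simp [u]
      show c' * (((⟨g₁, hg₁⟩ ^ m * ⟨g₂, hg₂⟩ ^ m : D.S₀) : ↥(T : Subgroup H)) : H) * c'⁻¹ =
        (((⟨p, hp'⟩ * ⟨q, hq'⟩ : D.S₀) : ↥(T : Subgroup H)) : H)
      rw [hu', hc']
      rfl
    · exact hsep D.F₁ hg₁ ha₁
    · exact hsep D.F₂ hg₂ ha₂
  -- back to `H`
  refine ⟨N, (B.M.comap π).map N.subtype, (B.symm.M.comap π).map N.subtype, ?_⟩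
  have hnorm : ∀ {S : Subgroup X} {g a : ↥(T : Subgroup H)} (F : Fac m z g a) (hg : g ∈ D.S₀) (ha : a ∈ D.S₀),
      S = Subgroup.normalClosure (Subgroup.closure {sub g hg, sub a ha} : Set X) →
      (∀ s ∈ F.Q, h * s * h⁻¹ ∈ F.Q) → ((S.comap π).map N.subtype).Normal := by
    intro S g a F hg ha hS hh
    haveI : S.Normal := hS ▸ Subgroup.normalClosure_normal
    let φ : X →* X := QuotientGroup.map Z Z (MulAut.conjNormal (h : H)).toMonoidHom (by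
      intro x hx
      show MulAut.conjNormal (h : H) x ∈ Z
      rw [hZ, MulAut.conjNormal_apply]
      rcases (hZ x).1 hx with e | e <;> rw [e]
      · left; group
      · right; rw [← C.hz, mul_inv_cancel_right])
    have hφ : S ≤ S.comap φ := by
      conv_lhs => rw [hS]
      haveI : (S.comap φ).Normal := inferInstance
      refine Subgroup.normalClosure_le_normal fun x hx => ?_
      obtain ⟨s, hs, hsQ, rfl⟩ := dmem F hg ha x hx
      have hs' : h * s * h⁻¹ ∈ D.S₀ := (Subgroup.normal_of_index_eq_two D.index_two).conj_mem s hs h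
      have e : φ (sub s hs) = sub _ hs' := by
        show QuotientGroup.mk' Z (MulAut.conjNormal (h : H) (ι ⟨s, hs⟩)) = π (ι ⟨_, hs'⟩)
        refine congrArg π (Subtype.ext ?_)
        rw [MulAut.conjNormal_apply]
        rfl
      rw [SetLike.mem_coe, Subgroup.mem_comap, e, hS]
      exact Subgroup.le_normalClosure (dmem' F hg ha _ hs' (hh s hsQ))
    have hKconj : ∀ x : N, π x ∈ S → ∀ g' : H, g' * (x : H) * g'⁻¹ ∈ (S.comap π).map N.subtype := by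
      intro x hx g'
      by_cases hg' : g' ∈ N
      · exact ⟨⟨g', hg'⟩ * x * ⟨g', hg'⟩⁻¹,
          show π _ ∈ S by rw [map_mul, map_mul, map_inv]; exact (inferInstance : S.Normal).conj_mem _ hx _, rfl⟩
      · have hgh : g' * (h : H)⁻¹ ∈ N := (Subgroup.mul_mem_iff_of_index_two hN2).2
          ⟨fun h' => absurd h' hg', fun h' => absurd ((hmem h).1 (inv_mem_iff.1 h')) W.out⟩
        refine ⟨⟨_, hgh⟩ * MulAut.conjNormal (h : H) x * ⟨_, hgh⟩⁻¹, show π _ ∈ S by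
          rw [map_mul, map_mul, map_inv]
          exact (inferInstance : S.Normal).conj_mem _ (hφ hx) _, ?_⟩
        simp [MulAut.conjNormal_apply, mul_assoc]
    exact ⟨fun y hy g' => by obtain ⟨x, hx, rfl⟩ := hy; exact hKconj x hx g'⟩
  have hhQ : ∀ {g a : ↥(T : Subgroup H)} (F : Fac m z g a) {r : ℤ}, (∀ t : ℤ, h * g ^ t = g ^ t * h) →
      h * a * h⁻¹ = g ^ r * a → ∀ s ∈ F.Q, h * s * h⁻¹ ∈ F.Q := by
    intro g a F r hc ha s hs
    obtain ⟨k, rfl | rfl⟩ := F.mem_Q.1 hs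
    · rw [hc, mul_inv_cancel_right]; exact F.g_mem k
    · refine ⟨k + r, Or.inr ?_⟩
      rw [← mul_assoc h, hc, mul_assoc (g ^ k) h, mul_assoc (g ^ k), ha, ← mul_assoc, ← zpow_add]
  have mk_mem : ∀ {S : Subgroup X} {x : H}, x ∈ (S.comap π).map N.subtype → ∃ hx : x ∈ N, π ⟨x, hx⟩ ∈ S := by
    rintro S _ ⟨y, hy, rfl⟩
    exact ⟨y.2, hy⟩
  have mem_mk : ∀ {S : Subgroup X} {x : H} (hx : x ∈ N), π ⟨x, hx⟩ ∈ S → x ∈ (S.comap π).map N.subtype :=
    fun {S x} hx h' => ⟨⟨x, hx⟩, h', rfl⟩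
  have comm1 : ∀ {a b : H} (ha : a ∈ N) (hb : b ∈ N), π ⟨a, ha⟩ * π ⟨b, hb⟩ = π ⟨b, hb⟩ * π ⟨a, ha⟩ ↔
      (a * b * a⁻¹ * b⁻¹ = 1 ∨ a * b * a⁻¹ * b⁻¹ = (z : H)) := by
    intro a b ha hb
    rw [← map_mul, ← map_mul, eq_comm, hπ]
    show a * b = b * a ∨ a * b = b * a * z ↔ _
    rw [mul_inv_eq_one, mul_inv_eq_iff_eq_mul, show (a * b * a⁻¹ * b⁻¹ = (z : H)) ↔ a * b = b * a * z by
      rw [mul_inv_eq_iff_eq_mul, mul_inv_eq_iff_eq_mul, C.hz, mul_assoc, C.hz, ← mul_assoc]]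
  have hQmem : ∀ {g a : ↥(T : Subgroup H)} (F : Fac m z g a) (hg : g ∈ D.S₀) (ha : a ∈ D.S₀) {S : Subgroup X},
      Subgroup.closure {sub g hg, sub a ha} ≤ S → (∀ s ∈ F.Q, s ∈ D.S₀) →
      ∀ s ∈ F.Q, (s : H) ∈ (S.comap π).map N.subtype := by
    intro g a F hg ha S hS hQ s hs
    exact mem_mk ((hmem s).2 (hQ s hs)) (hS (dmem' F hg ha s (hQ s hs) hs))
  have hinter : ∀ {g a : ↥(T : Subgroup H)} (F : Fac m z g a) (hg : g ∈ D.S₀) (ha : a ∈ D.S₀) {S : Subgroup X},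
      (P : Subgroup X) ⊓ S = Subgroup.closure {sub g hg, sub a ha} →
      ∀ s : ↥(T : Subgroup H), (s : H) ∈ (S.comap π).map N.subtype → s ∈ F.Q := by
    intro g a F hg ha S hS s hs
    obtain ⟨hsN, hπs⟩ := mk_mem hs
    have hs0 := (hmem s).1 hsN
    have hsub : sub s hs0 ∈ (P : Subgroup X) ⊓ S := ⟨hP ▸ ⟨_, rfl⟩, hπs⟩
    rw [hS] at hsub
    obtain ⟨t, ht, htQ, e⟩ := dmem F hg ha _ hsub
    rcases (hsubeq hs0 ht).1 e with e' | e'
    · exact e' ▸ htQ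
    · have := mul_mem htQ F.z_mem
      rwa [e', mul_assoc, F.z_sq, mul_one] at this
  have hkind : ∀ {D' D'' : Subgroup X} {g a g' a' : X} (B' : Box P m D' D'' g a g' a')
      {t b : ↥(T : Subgroup H)} (F : Fac m z t b) (ht : t ∈ D.S₀) (hb : b ∈ D.S₀),
      D' = Subgroup.closure {sub t ht, sub b hb} →
      (m = 1 ∧ ∀ x ∈ (B'.M.comap π).map N.subtype, ∃ s ∈ F.Q, (s : H) = x) ∨
      (∃ (Y : Type u) (_ : Group Y) (π' : ↥((B'.M.comap π).map N.subtype) →* Y),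
        IsSimpleGroup Y ∧ ¬ IsMulCommutative Y ∧ GW.IsTarget Y ∧ Function.Surjective π' ∧
          ∀ x, π' x = 1 ↔ (x : H) = 1 ∨ (x : H) = z) := by
    intro D' D'' g a g' a' B' t b F ht hb hD'
    rcases B'.kind with ⟨hm, hM⟩ | ⟨h1, h2, h3⟩
    · refine Or.inl ⟨hm, fun x hx => ?_⟩
      obtain ⟨hxN, hπx⟩ := mk_mem hx
      rw [hM, hD'] at hπx
      obtain ⟨s, hs, hsQ, e⟩ := dmem F ht hb _ hπx
      change π ⟨x, hxN⟩ = π (ι ⟨s, hs⟩) at e
      rcases hπ.1 e.symm with e' | e'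
      · exact ⟨s, hsQ, e'.symm⟩
      · exact ⟨s * z, mul_mem hsQ F.z_mem, e'.symm⟩
    · refine Or.inr ⟨B'.M, inferInstance,
        (π.comp (Subgroup.inclusion (show (B'.M.comap π).map N.subtype ≤ N from Subgroup.map_subtype_le _))).codRestrict
          B'.M (fun x => (mk_mem x.2).2), h1, h2, h3, ?_, ?_⟩
      · rintro ⟨y, hy⟩
        obtain ⟨n, rfl⟩ := QuotientGroup.mk'_surjective Z y
        exact ⟨⟨n, mem_mk n.2 hy⟩, rfl⟩
      · intro x
        rw [Subtype.ext_iff]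
        show π _ = 1 ↔ _
        rw [QuotientGroup.mk'_apply, QuotientGroup.eq_one_iff, hZ]
        rfl
  have hfuse : ∀ {D' D'' : Subgroup X} {t b t' b' : ↥(T : Subgroup H)} (F : Fac m z t b) (F' : Fac m z t' b')
      (ht : t ∈ D.S₀) (hb : b ∈ D.S₀) (ht' : t' ∈ D.S₀) (hb' : b' ∈ D.S₀),
      D' = Subgroup.closure {sub t ht, sub b hb} → D'' = Subgroup.closure {sub t' ht', sub b' hb'} →
      Box P m D' D'' (sub t ht) (sub b hb) (sub t' ht') (sub b' hb') →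
      (∀ s ∈ F.Q, s ∈ D.S₀) → (∀ s ∈ F'.Q, s ∈ D.S₀) →
      ∀ p ∈ F.Q, p * p = z → ∀ q ∈ F'.Q, q * q = z → ∃ g ∈ N,
        (g * (t : H) ^ m * g⁻¹ = p ∨ g * (t : H) ^ m * g⁻¹ = p * z) ∧ (g * q * g⁻¹ = q ∨ g * q * g⁻¹ = q * z) := by
    intro D' D'' t b t' b' F F' ht hb ht' hb' e1 e2 B' hF hF' p hp hpz q hq hqz
    have inv : ∀ {s : ↥(T : Subgroup H)} (hs : s ∈ D.S₀), s * s = z →
        sub s hs * sub s hs = 1 ∧ sub s hs ≠ 1 := by
      intro s hs hsz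
      refine ⟨?_, fun e => ?_⟩
      · rw [← map_mul, ← map_one ρ, hρ]
        exact Or.inr (by rw [Subgroup.coe_mul, OneMemClass.coe_one, hsz, D.F₁.z_sq])
      · rw [← map_one ρ, hρ, OneMemClass.coe_one] at e
        rcases e with e | e
        · exact D.F₁.z_ne (by rw [← hsz, ← (show (1 : ↥(T : Subgroup H)) = s from e), one_mul])
        · have hs' : s = z := by
            change (1 : ↥(T : Subgroup H)) = s * z at e
            rw [eq_mul_inv_of_mul_eq e.symm, one_mul, D.F₁.z_inv]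
          exact D.F₁.z_ne (by rw [← hsz, hs', D.F₁.z_sq])
    obtain ⟨g, hg1, hg2⟩ := B'.fuse (e1 ▸ dmem' F ht hb p (hF p hp) hp) (inv (hF p hp) hpz).1
      (inv (hF p hp) hpz).2 (e2 ▸ dmem' F' ht' hb' q (hF' q hq) hq) (inv (hF' q hq) hqz).1 (inv (hF' q hq) hqz).2
    obtain ⟨n, rfl⟩ := QuotientGroup.mk'_surjective Z g
    refine ⟨n, n.2, ?_, ?_⟩
    · rw [← map_pow] at hg1
      change π n * π (ι (⟨t, ht⟩ ^ m)) * (π n)⁻¹ = π (ι ⟨p, _⟩) at hg1
      rw [← map_inv, ← map_mul, ← map_mul, eq_comm, hπ] at hg1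
      exact hg1
    · change π n * π (ι ⟨q, _⟩) * (π n)⁻¹ = π (ι ⟨q, _⟩) at hg2
      rw [← map_inv, ← map_mul, ← map_mul, eq_comm, hπ] at hg2
      exact hg2
  exact
  { Nn := hNn
    N2 := hN2
    Nmem := hmem
    n₁ := hnorm D.F₁ hg₁ ha₁ rfl (hhQ D.F₁ W.c₁ W.a₁')
    n₂ := hnorm D.F₂ hg₂ ha₂ rfl (hhQ D.F₂ W.c₂ W.a₂')
    le₁ := Subgroup.map_subtype_le _
    le₂ := Subgroup.map_subtype_le _
    Q₁ := hQmem D.F₁ hg₁ ha₁ B.le_M fun s hs => D.Q₁_le hs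
    Q₂ := hQmem D.F₂ hg₂ ha₂ B.symm.le_M fun s hs => D.Q₂_le hs
    inter₁ := hinter D.F₁ hg₁ ha₁ B.P_inf
    inter₂ := hinter D.F₂ hg₂ ha₂ B.symm.P_inf
    comm := fun x hx y hy => by
      obtain ⟨hxN, hx'⟩ := mk_mem hx
      obtain ⟨hyN, hy'⟩ := mk_mem hy
      exact (comm1 hxN hyN).1 (B.M_comm hx' hy')
    cent := fun c hc h1 h2 => by
      haveI := B.M_normal
      haveI := B.symm.M_normal
      have hπc : π ⟨c, hc⟩ ∈ B.M ⊔ B.symm.M := by
        refine B.cent_le (Subgroup.mem_inf.2 ⟨?_, ?_⟩) <;> rw [Subgroup.mem_centralizer_iff] <;> intro y hy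
        · obtain ⟨n, rfl⟩ := QuotientGroup.mk'_surjective Z y
          exact ((comm1 hc n.2).2 (h1 n (mem_mk n.2 hy))).symm
        · obtain ⟨n, rfl⟩ := QuotientGroup.mk'_surjective Z y
          exact ((comm1 hc n.2).2 (h2 n (mem_mk n.2 hy))).symm
      rw [← Subgroup.map_sup, Subgroup.comap_sup_eq _ _ _ (QuotientGroup.mk'_surjective Z)]
      exact mem_mk hc hπc
    fuse₁ := hfuse D.F₁ D.F₂ hg₁ ha₁ hg₂ ha₂ rfl rfl B (fun s hs => D.Q₁_le hs) fun s hs => D.Q₂_le hs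
    fuse₂ := hfuse D.F₂ D.F₁ hg₂ ha₂ hg₁ ha₁ rfl rfl B.symm (fun s hs => D.Q₂_le hs) fun s hs => D.Q₁_le hs
    kind₁ := hkind B D.F₁ hg₁ ha₁ rfl
    kind₂ := hkind B.symm D.F₂ hg₂ ha₂ rfl }

end Shape

end Cfsg.Agent.G2Sylow
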