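import Cfsg.Agent.Lib.G2Sylow.CentSimple
import Cfsg.Agent.Lib.GW.QGroup
import Mathlib.GroupTheory.Nilpotent
import Mathlib.GroupTheory.Solvable

/-!
A factor which is a quaternion group sits in a normal `SL₂(3)`.
-/

set_option autoImplicit false
set_option linter.unusedSectionVars false
set_option linter.style.haveILetI false

namespace Cfsg.Agent.G2Sylow

universe u

theorem eq_one_of_sq_of_odd {M : Type*} [Group M] {f : M} (h2 : f * f = 1) (ho : Odd (orderOf f)) : f = 1 := by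
  rw [← orderOf_eq_one_iff]
  rcases (Nat.dvd_prime Nat.prime_two).1 (orderOf_dvd_of_pow_eq_one (by rw [pow_two, h2] : f ^ 2 = 1)) with e | e
  · exact e
  · rw [e] at ho
    exact absurd ho (by decide)

variable {H : Type u} [Group H] [Finite H] {T : Sylow 2 H} {m : ℕ} {z g₁ a₁ g₂ a₂ w : ↥(T : Subgroup H)}
variable {D : Shape ↥(T : Subgroup H) m z g₁ a₁ g₂ a₂ w} {h : ↥(T : Subgroup H)} {r₁ r₂ i j : ℤ}
variable {N K₁ K₂ : Subgroup H}

namespace Shape

/-- A quaternion factor modulo `z` with the action of the group. -/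
structure Four (D : Shape ↥(T : Subgroup H) m z g₁ a₁ g₂ a₂ w) {K : Subgroup H} {Y : Type u} [Group Y]
    (E : K →* Y) (A : H →* MulAut Y) (G B : Y) : Prop where
  surj : Function.Surjective E
  ker : ∀ x : K, E x = 1 ↔ (x : H) = 1 ∨ (x : H) = z
  act : ∀ (c : H) (x : K) (y : K), (y : H) = c * x * c⁻¹ → A c (E x) = E y
  kill : ∀ s ∈ D.S₀, A ((s : ↥(T : Subgroup H)) : H) = 1
  eG : ∀ x : K, (x : H) = (g₁ : H) → E x = G
  eB : ∀ x : K, (x : H) = (a₁ : H) → E x = B
  cases' : ∀ y, y = 1 ∨ y = G ∨ y = B ∨ y = G * B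
  gg : G * G = 1
  bb : B * B = 1
  gb : B * G = G * B
  ne₁ : G ≠ 1
  ne₂ : B ≠ 1
  ne₃ : B ≠ G

theorem Parts.exists_four (C : Ctx D) (P : Parts D N K₁ K₂) (hm : m = 1)
    (hQ : ∀ x ∈ K₁, ∃ s ∈ D.F₁.Q, (s : H) = x) :
    ∃ (Y : Type u) (_ : Group Y) (E : K₁ →* Y) (A : H →* MulAut Y) (G B : Y), Four D E A G B := by
  haveI := P.n₁
  let Z₁ : Subgroup K₁ :=
    { carrier := {x | (x : H) = 1 ∨ (x : H) = z}
      one_mem' := Or.inl rfl
      mul_mem' := fun {x y} hx hy => by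
        show ((x * y : K₁) : H) = 1 ∨ ((x * y : K₁) : H) = z
        rw [Subgroup.coe_mul]
        rcases hx with ex | ex <;> rcases hy with ey | ey <;> rw [ex, ey]
        · exact Or.inl (one_mul _)
        · exact Or.inr (one_mul _)
        · exact Or.inr (mul_one _)
        · exact Or.inl C.zz
      inv_mem' := by
        rintro x (ex | ex)
        · left; rw [Subgroup.coe_inv, ex, inv_one]
        · right; rw [Subgroup.coe_inv, ex, inv_eq_of_mul_eq_one_right C.zz] }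
  haveI : Z₁.Normal := ⟨fun x hx c => by
    rcases hx with ex | ex
    · left; simp [ex]
    · right
      rw [Subgroup.coe_mul, Subgroup.coe_mul, ex, Subgroup.coe_inv, ← C.hz, mul_inv_cancel_right]⟩
  let E : K₁ →* K₁ ⧸ Z₁ := QuotientGroup.mk' Z₁
  have hE : Function.Surjective E := QuotientGroup.mk'_surjective Z₁
  have hker : ∀ x : K₁, E x = 1 ↔ (x : H) = 1 ∨ (x : H) = z := fun x => QuotientGroup.eq_one_iff x
  obtain ⟨A, hA, hA₂, hAk⟩ := P.exists_A C E hE hker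
  let kg : K₁ := ⟨g₁, P.Q₁ _ (by simpa using D.F₁.g_mem 1)⟩
  let ka : K₁ := ⟨a₁, P.Q₁ _ D.F₁.a_mem⟩
  have sub : ∀ {x : K₁} {v : ↥(T : Subgroup H)}, (x : H) = (v : H) →
      (E x = 1 ↔ v = 1 ∨ v = z) := by
    intro x v e
    rw [hker, e]
    exact or_congr OneMemClass.coe_eq_one ⟨fun h' => Subtype.ext h', fun h' => h' ▸ rfl⟩
  have gg : E kg * E kg = 1 := by
    rw [← map_mul, sub (v := g₁ * g₁) rfl]
    exact Or.inr (by simpa [hm] using D.F₁.quarter_sq)
  have bb : E ka * E ka = 1 := by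
    rw [← map_mul, sub (v := a₁ * a₁) rfl]
    exact Or.inr D.F₁.sq
  have gb : E ka * E kg = E kg * E ka := by
    have e : E (ka * kg * ka⁻¹ * kg⁻¹) = 1 := by
      rw [sub (v := a₁ * g₁ * a₁⁻¹ * g₁⁻¹) rfl]
      refine Or.inr ?_
      rw [D.F₁.inv, ← mul_inv_rev, show g₁ * g₁ = z by simpa [hm] using D.F₁.quarter_sq, D.F₁.z_inv]
    rw [map_mul, map_mul, map_mul, map_inv, map_inv, mul_inv_eq_one, mul_inv_eq_iff_eq_mul] at e
    exact e
  have cases' : ∀ y : K₁ ⧸ Z₁, y = 1 ∨ y = E kg ∨ y = E ka ∨ y = E kg * E ka := by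
    intro y
    obtain ⟨x, rfl⟩ := hE y
    obtain ⟨s, hs, hsx⟩ := hQ x x.2
    have hpow : ∀ t : ℤ, E kg ^ t = 1 ∨ E kg ^ t = E kg := by
      intro t
      rcases Int.even_or_odd' t with ⟨c, rfl | rfl⟩
      · left; rw [zpow_mul, zpow_two, gg, one_zpow]
      · right; rw [zpow_add, zpow_mul, zpow_two, gg, one_zpow, one_mul, zpow_one]
    obtain ⟨t, rfl | rfl⟩ := D.F₁.mem_Q.1 hs
    · have hx : x = kg ^ t := Subtype.ext (by rw [← hsx, Subgroup.coe_zpow, Subgroup.coe_zpow])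
      rw [hx, map_zpow]
      rcases hpow t with e | e <;> rw [e]
      · exact Or.inl rfl
      · exact Or.inr (Or.inl rfl)
    · have hx : x = kg ^ t * ka := Subtype.ext (by
        rw [← hsx, Subgroup.coe_mul, Subgroup.coe_mul, Subgroup.coe_zpow, Subgroup.coe_zpow])
      rw [hx, map_mul, map_zpow]
      rcases hpow t with e | e <;> rw [e]
      · exact Or.inr (Or.inr (Or.inl (one_mul _)))
      · exact Or.inr (Or.inr (Or.inr rfl))
  have hcomm : ∀ p q : K₁ ⧸ Z₁, p * q = q * p := by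
    intro p q
    have hg : Commute (E kg) (E ka) := gb.symm
    rcases cases' p with rfl | rfl | rfl | rfl <;> rcases cases' q with rfl | rfl | rfl | rfl
    all_goals
      first
        | exact (one_mul _).trans (mul_one _).symm
        | exact (mul_one _).trans (one_mul _).symm
        | exact Commute.refl _
        | exact hg
        | exact hg.symm
        | exact (Commute.refl _).mul_right hg
        | exact hg.symm.mul_right (Commute.refl _)
        | exact ((Commute.refl _).mul_right hg).symm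
        | exact (hg.symm.mul_right (Commute.refl _)).symm
  refine ⟨K₁ ⧸ Z₁, inferInstance, E, A, E kg, E ka,
    ⟨hE, hker, hA, ?_, fun x e => congrArg E (Subtype.ext e), fun x e => congrArg E (Subtype.ext e), cases', gg, bb,
      gb, ?_, ?_, ?_⟩⟩
  · rintro s ⟨p, hp, q, hq, rfl⟩
    rw [Subgroup.coe_mul, map_mul, hA₂ _ (P.Q₂ q hq), mul_one,
      show A (p : H) = MulAut.conj (E ⟨_, P.Q₁ p hp⟩) from hAk ⟨_, P.Q₁ p hp⟩]
    exact MulEquiv.ext fun y => by rw [MulAut.conj_apply, MulAut.one_apply, hcomm _ y, mul_inv_cancel_right]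
  · rw [Ne, sub (v := g₁) rfl]
    have := D.F₁.odd_ne (r := 1) (by norm_num)
    rw [zpow_one] at this
    exact not_or.2 this
  · rw [Ne, sub (v := a₁) rfl]
    exact not_or.2 ⟨fun e => D.F₁.out 0 (by rw [e, zpow_zero]), fun e => D.F₁.out (2 * m) (by rw [e, D.F₁.half])⟩
  · rw [Ne, Parts.ker_eq C E hker]
    rintro (e | e)
    · exact D.F₁.out 1 (by rw [zpow_one]; exact Subtype.ext e)
    · refine D.F₁.out (1 - 2 * m) ?_
      rw [zpow_sub, zpow_one, D.F₁.half, eq_comm, eq_mul_inv_iff_mul_eq]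
      exact Subtype.ext e.symm

variable {Y : Type u} [Group Y] {E : K₁ →* Y} {A : H →* MulAut Y} {G B : Y}

namespace Four

variable (F : Four D E A G B)
include F

theorem ext {c : H} (h1 : A c G = G) (h2 : A c B = B) : A c = 1 :=
  MulEquiv.ext fun y => by
    rw [MulAut.one_apply]
    rcases F.cases' y with rfl | rfl | rfl | rfl
    exacts [map_one _, h1, h2, by rw [map_mul, h1, h2]]

theorem fix_of_G (P : Parts D N K₁ K₂) {c : H} (hc : c ∈ N) (h1 : A c G = G) : A c = 1 := by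
  have ho := P.odd_image A F.kill hc
  rcases F.cases' (A c B) with e | e | e | e
  · exact absurd ((A c).map_eq_one_iff.1 e) F.ne₂
  · exact absurd ((A c).injective (e.trans h1.symm)) F.ne₃
  · exact F.ext h1 e
  · refine eq_one_of_sq_of_odd ?_ ho
    rw [← map_mul]
    refine F.ext ?_ ?_
    · rw [map_mul, MulAut.mul_apply, h1, h1]
    · rw [map_mul, MulAut.mul_apply, e, map_mul, h1, e, ← mul_assoc, F.gg, one_mul]

theorem cyc (P : Parts D N K₁ K₂) {c : H} (hc : c ∈ N) (h1 : A c G = B) :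
    A c B = G * B ∧ A c (G * B) = G := by
  have key : A c B = G * B := by
    rcases F.cases' (A c B) with e | e | e | e
    · exact absurd ((A c).map_eq_one_iff.1 e) F.ne₂
    · have h2 : A (c * c) = 1 := F.fix_of_G P (mul_mem hc hc) (by rw [map_mul, MulAut.mul_apply, h1, e])
      rw [map_mul] at h2
      rw [eq_one_of_sq_of_odd h2 (P.odd_image A F.kill hc), MulAut.one_apply] at h1
      exact absurd h1.symm F.ne₃
    · exact absurd ((A c).injective (e.trans h1.symm)) F.ne₃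
    · exact e
  refine ⟨key, ?_⟩
  rw [map_mul, h1, key, ← mul_assoc, F.gb, mul_assoc, F.bb, mul_one]

theorem three (P : Parts D N K₁ K₂) {c : H} (hc : c ∈ N) (h1 : A c G = B) : A c ^ 3 = 1 := by
  obtain ⟨h2, h3⟩ := F.cyc P hc h1
  rw [← map_pow]
  refine F.fix_of_G P (pow_mem hc 3) ?_
  rw [map_pow, pow_succ', pow_two, MulAut.mul_apply, MulAut.mul_apply, h1, h2, h3]

theorem classify (P : Parts D N K₁ K₂) {σ c : H} (hσ : σ ∈ N) (hσG : A σ G = B) (hc : c ∈ N) :
    A c = 1 ∨ A c = A σ ∨ A c = A σ * A σ := by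
  obtain ⟨h2, -⟩ := F.cyc P hσ hσG
  rcases F.cases' (A c G) with e | e | e | e
  · exact absurd ((A c).map_eq_one_iff.1 e) F.ne₁
  · exact Or.inl (F.fix_of_G P hc e)
  · refine Or.inr (Or.inl ?_)
    have := F.fix_of_G P (mul_mem (inv_mem hσ) hc) (by rw [map_mul, map_inv, MulAut.mul_apply, e, ← hσG,
      ← MulAut.mul_apply, inv_mul_cancel, MulAut.one_apply])
    rwa [map_mul, map_inv, inv_mul_eq_one, eq_comm] at this
  · refine Or.inr (Or.inr ?_)
    have e2 : (A σ * A σ) G = G * B := by rw [MulAut.mul_apply, hσG, h2]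
    have := F.fix_of_G P (mul_mem (inv_mem (mul_mem hσ hσ)) hc) (by
      rw [map_mul, map_inv, map_mul A, MulAut.mul_apply, e, ← e2, ← MulAut.mul_apply, inv_mul_cancel, MulAut.one_apply])
    rwa [map_mul, map_inv, map_mul A, inv_mul_eq_one, eq_comm] at this

/-- The action of the element outside `N`, on a commutator with a rotation. -/
theorem brk (W : Tw D h r₁ r₂ i j) (P : Parts D N K₁ K₂) {c : H} (hc : c ∈ N) (h1 : A c G = B) :
    A ((h : H) * c * (h : H)⁻¹ * c⁻¹) G = B := by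
  have hgK : (g₁ : H) ∈ K₁ := P.Q₁ _ (by simpa using D.F₁.g_mem 1)
  have haK : (a₁ : H) ∈ K₁ := P.Q₁ _ D.F₁.a_mem
  set kg : K₁ := ⟨g₁, hgK⟩
  set ka : K₁ := ⟨a₁, haK⟩
  have eG : E kg = G := F.eG kg rfl
  have eB : E ka = B := F.eB ka rfl
  obtain ⟨h2, h3⟩ := F.cyc P hc h1
  have hhG : A (h : H) G = G := by
    rw [← eG, F.act _ kg kg]
    show (g₁ : H) = (h : H) * g₁ * (h : H)⁻¹
    have := W.c₁ 1
    rw [zpow_one] at this
    rw [← Subgroup.coe_mul, this, Subgroup.coe_mul, mul_inv_cancel_right]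
  have hhB : A (h : H) B = G * B := by
    obtain ⟨c, hc⟩ : (2 : ℤ) ∣ r₁ - 1 := by
      obtain ⟨d, hd⟩ := W.i_r
      rcases Int.even_or_odd' i with ⟨e, rfl | rfl⟩
      · exact absurd ⟨e, rfl⟩ W.i_odd
      · exact ⟨e - d * m, by linear_combination -hd⟩
    have e : A (h : H) B = E (kg ^ r₁ * ka) := by
      rw [← eB, F.act _ ka (kg ^ r₁ * ka)]
      show ((kg ^ r₁ * ka : K₁) : H) = (h : H) * a₁ * (h : H)⁻¹
      have := congrArg Subtype.val W.a₁'
      simp only [Subgroup.coe_mul, Subgroup.coe_inv, Subgroup.coe_zpow] at this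
      rw [Subgroup.coe_mul, Subgroup.coe_zpow]
      exact this.symm
    rw [e, map_mul, map_zpow, eG, eB, show r₁ = 2 * c + 1 by linarith, zpow_add, zpow_mul, zpow_two, F.gg, one_zpow,
      one_mul, zpow_one]
  have i1 : (A c)⁻¹ G = G * B := by
    conv_lhs => rw [← h3]
    rw [← MulAut.mul_apply, inv_mul_cancel, MulAut.one_apply]
  have i2 : (A (h : H))⁻¹ (G * B) = B := by
    conv_lhs => rw [← hhB]
    rw [← MulAut.mul_apply, inv_mul_cancel, MulAut.one_apply]
  rw [map_mul, map_mul, map_mul, map_inv, map_inv, MulAut.mul_apply, MulAut.mul_apply, MulAut.mul_apply, i1, i2, h2,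
    map_mul, hhG, hhB, ← mul_assoc, F.gg, one_mul]

/-- A subgroup with lifts of two classes contains the factor. -/
theorem gen (C : Ctx D) (P : Parts D N K₁ K₂) (hm : m = 1) (M : Subgroup H) {e e' : K₁} (he : (e : H) ∈ M)
    (he' : (e' : H) ∈ M) (hG : E e = G) (hB : E e' = B) : K₁ ≤ M := by
  have hg : (g₁ : H) ∈ K₁ := P.Q₁ _ (by simpa using D.F₁.g_mem 1)
  have hz : (z : H) ∈ M := by
    have hgg : (g₁ : H) * g₁ = z := by
      rw [← Subgroup.coe_mul]
      exact congrArg Subtype.val (by simpa [hm] using D.F₁.quarter_sq)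
    rcases (Parts.ker_eq C E F.ker).1 ((F.eG ⟨_, hg⟩ rfl).trans hG.symm) with e1 | e1
    · change (e : H) = g₁ at e1
      have := mul_mem he he
      rwa [e1, hgg] at this
    · change (e : H) = g₁ * z at e1
      have := mul_mem he he
      rwa [e1, mul_assoc, C.hz, mul_assoc, C.zz, mul_one, hgg] at this
  intro x hx
  have key : ∀ v : K₁, (v : H) ∈ M → E v = E ⟨x, hx⟩ → x ∈ M := by
    intro v hv ev
    rcases (Parts.ker_eq C E F.ker).1 ev with e1 | e1
    · change x = v at e1; rw [e1]; exact hv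
    · change x = v * z at e1; rw [e1]; exact mul_mem hv hz
  rcases F.cases' (E ⟨x, hx⟩) with e1 | e1 | e1 | e1
  · exact key 1 (one_mem _) (by rw [map_one, e1])
  · exact key e he (hG.trans e1.symm)
  · exact key e' he' (hB.trans e1.symm)
  · exact key (e * e') (mul_mem he he') (by rw [map_mul, hG, hB, e1])

end Four

/-- A quaternion factor fixed at `g₁` is fixed. -/
theorem Parts.four_fix (C : Ctx D) (P : Parts D N K₁ K₂) (hm : m = 1)
    (hQ : ∀ x ∈ K₁, ∃ s ∈ D.F₁.Q, (s : H) = x) {c : H} (hc : c ∈ N) (hg : D.Eqz (g₁ : H) (c * g₁ * c⁻¹)) :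
    ∀ x ∈ K₁, D.Eqz x (c * x * c⁻¹) := by
  obtain ⟨Y, _, E, A, G, B, F⟩ := P.exists_four C hm hQ
  have hgK : (g₁ : H) ∈ K₁ := P.Q₁ _ (by simpa using D.F₁.g_mem 1)
  have h1 : A c G = G := by
    rw [← F.eG ⟨_, hgK⟩ rfl, F.act c _ ⟨_, P.n₁.conj_mem _ hgK c⟩ rfl, eq_comm]
    exact (Parts.ker_eq C E F.ker).2 hg
  intro x hx
  have := F.act c ⟨x, hx⟩ ⟨_, P.n₁.conj_mem x hx c⟩ rfl
  rw [F.fix_of_G P hc h1, MulAut.one_apply] at this
  exact (Parts.ker_eq C E F.ker).1 this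

/-- The quaternion case, given a rotation fixing the other factor. -/
theorem Parts.good_four (C : Ctx D) (W : Tw D h r₁ r₂ i j) (P : Parts D N K₁ K₂) (hm : m = 1)
    (hQ : ∀ x ∈ K₁, ∃ s ∈ D.F₁.Q, (s : H) = x) (hcK : ∀ x ∈ K₁, ∀ y ∈ K₂, x * y = y * x)
    (hZ : ∀ k ∈ K₂, (∀ y ∈ K₂, k * y = y * k) → k = 1 ∨ k = (z : H)) {σ₁ : H} (hσ₁ : σ₁ ∈ N)
    (hfix : ∀ y ∈ K₂, D.Eqz y (σ₁ * y * σ₁⁻¹)) (hmove : D.Eqz (a₁ : H) (σ₁ * g₁ * σ₁⁻¹)) :
    ∃ L, Good D K₁ K₂ L := by
  haveI : Fact (Nat.Prime 2) := ⟨Nat.prime_two⟩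
  haveI : Fact (Nat.Prime 3) := ⟨by norm_num⟩
  haveI := P.n₁
  haveI := P.n₂
  obtain ⟨Y, _, E, A, G, B, F⟩ := P.exists_four C hm hQ
  have hgK : (g₁ : H) ∈ K₁ := P.Q₁ _ (by simpa using D.F₁.g_mem 1)
  have haK : (a₁ : H) ∈ K₁ := P.Q₁ _ D.F₁.a_mem
  set kg : K₁ := ⟨g₁, hgK⟩
  set ka : K₁ := ⟨a₁, haK⟩
  have eG : E kg = G := F.eG kg rfl
  have eB : E ka = B := F.eB ka rfl
  set L : Subgroup H := N ⊓ Subgroup.centralizer (K₂ : Set H) with hL
  have hLmem : ∀ {c : H}, c ∈ L ↔ c ∈ N ∧ ∀ y ∈ K₂, c * y = y * c := fun {c} =>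
    Subgroup.mem_inf.trans (and_congr_right fun _ => Subgroup.mem_centralizer_iff.trans
      ⟨fun h' y hy => (h' y hy).symm, fun h' y hy => (h' y hy).symm⟩)
  haveI hLn : L.Normal := ⟨fun c hc g => by
    obtain ⟨h1, h2⟩ := hLmem.1 hc
    refine hLmem.2 ⟨P.Nn.conj_mem c h1 g, fun y hy => ?_⟩
    have := h2 _ (P.n₂.conj_mem y hy g⁻¹)
    calc g * c * g⁻¹ * y = g * (c * (g⁻¹ * y * g⁻¹⁻¹)) * g⁻¹ := by group
      _ = _ := by rw [this]; group⟩
  have hKL : K₁ ≤ L := fun x hx => hLmem.2 ⟨P.le₁ hx, hcK x hx⟩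
  -- squares of elements fixing `K₂` modulo `z` centralise it
  have hexact : ∀ {c : H}, (∀ y ∈ K₂, D.Eqz y (c * y * c⁻¹)) → ∀ y ∈ K₂, c * c * y = y * (c * c) := by
    intro c hc y hy
    rw [← mul_inv_eq_iff_eq_mul, show c * c * y * (c * c)⁻¹ = c * (c * y * c⁻¹) * c⁻¹ by group]
    rcases hc y hy with e | e <;> rw [e]
    · exact e
    · rw [← mul_assoc, mul_assoc (c * y) (z : H), C.hz, ← mul_assoc, e, mul_assoc, C.zz, mul_one]
  have hσ₁G : A σ₁ G = B := by
    rw [← eG, F.act σ₁ kg ⟨_, P.n₁.conj_mem _ hgK σ₁⟩ rfl, ← eB, eq_comm]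
    exact (Parts.ker_eq C E F.ker).2 hmove
  set σ₀ := σ₁ * σ₁ * (σ₁ * σ₁) with hσ₀
  have hσ₀L : σ₀ ∈ L := by
    have : σ₁ * σ₁ ∈ L := hLmem.2 ⟨mul_mem hσ₁ hσ₁, hexact hfix⟩
    exact mul_mem this this
  have hσ₀A : A σ₀ = A σ₁ := by
    have h3 := F.three P hσ₁ hσ₁G
    rw [pow_succ, pow_two] at h3
    rw [hσ₀, map_mul, map_mul, ← mul_assoc, h3, one_mul]
  -- move it into the derived group
  set σ : H := (h : H) * σ₀ * (h : H)⁻¹ * σ₀⁻¹ with hσdef
  have hσc : σ ∈ commutator H := by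
    have := Subgroup.commutator_mem_commutator (Subgroup.mem_top (h : H)) (Subgroup.mem_top σ₀)
    rwa [commutatorElement_def] at this
  have hσL : σ ∈ L := mul_mem (hLn.conj_mem _ hσ₀L _) (inv_mem hσ₀L)
  have hσN : σ ∈ N := (hLmem.1 hσL).1
  have hσ₀G : A σ₀ G = B := by rw [hσ₀A, hσ₁G]
  have hσG : A σ G = B := F.brk W P (hLmem.1 hσ₀L).1 hσ₀G
  obtain ⟨hσB, hσGB⟩ := F.cyc P hσN hσG
  -- commutators of `σ` with `K₁`
  have hbr : ∀ x : K₁, σ * (x : H) * σ⁻¹ * (x : H)⁻¹ ∈ K₁ := fun x =>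
    mul_mem (P.n₁.conj_mem _ x.2 σ) (inv_mem x.2)
  let br : K₁ → K₁ := fun x => ⟨_, hbr x⟩
  have hEbr : ∀ x : K₁, E (br x) = A σ (E x) * (E x)⁻¹ := fun x => by
    rw [F.act σ x ⟨_, P.n₁.conj_mem _ x.2 σ⟩ rfl, ← map_inv, ← map_mul]
    rfl
  have hbrG : E (br ka) = G := by
    rw [hEbr, eB, hσB, mul_inv_cancel_right]
  have hbrB : E (br kg * br ka) = B := by
    rw [map_mul, hEbr, eG, hσG, hbrG, inv_mul_cancel_right]
  have hcomm : ∀ x : K₁, (br x : H) ∈ commutator H := fun x => by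
    have := Subgroup.commutator_mem_commutator (Subgroup.mem_top σ) (Subgroup.mem_top (x : H))
    rwa [commutatorElement_def] at this
  have hK₁c : K₁ ≤ commutator H :=
    F.gen C P hm _ (hcomm ka) (mul_mem (hcomm kg) (hcomm ka)) hbrG hbrB
  -- the kernel of the action on `L`
  have hker : ∀ {c : H}, c ∈ L → A c = 1 → c ∈ K₁ := by
    intro c hc hA
    obtain ⟨hcN, hc₂⟩ := hLmem.1 hc
    have h1 : ∀ x ∈ K₁, c * x * c⁻¹ * x⁻¹ = 1 ∨ c * x * c⁻¹ * x⁻¹ = (z : H) := fun x hx => by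
      rw [C.comm_iff]
      have := F.act c ⟨x, hx⟩ ⟨_, P.n₁.conj_mem x hx c⟩ rfl
      rw [hA, MulAut.one_apply] at this
      exact (Parts.ker_eq C E F.ker).1 this
    have h2 : ∀ y ∈ K₂, c * y * c⁻¹ * y⁻¹ = 1 ∨ c * y * c⁻¹ * y⁻¹ = (z : H) := fun y hy =>
      Or.inl (by rw [hc₂ y hy]; group)
    obtain ⟨a, ha, b, hb, rfl⟩ := Subgroup.mem_sup_of_normal_left.1 (P.cent c hcN h1 h2)
    have hbc : ∀ y ∈ K₂, b * y = y * b := fun y hy => by
      have := hc₂ y hy
      rw [mul_assoc, ← mul_assoc y, ← hcK a ha y hy, mul_assoc] at this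
      exact mul_left_cancel this
    rcases hZ b hb hbc with rfl | rfl
    · rwa [mul_one]
    · exact mul_mem ha P.z_mem
  have hclass : ∀ {c : H}, c ∈ N → A c = 1 ∨ A c = A σ ∨ A c = A σ * A σ := fun hc => F.classify P hσN hσG hc
  have hdec : ∀ {c : H}, c ∈ L → c ∈ K₁ ∨ σ⁻¹ * c ∈ K₁ ∨ (σ * σ)⁻¹ * c ∈ K₁ := by
    intro c hc
    rcases hclass (hLmem.1 hc).1 with e | e | e
    · exact Or.inl (hker hc e)
    · exact Or.inr (Or.inl (hker (mul_mem (inv_mem hσL) hc) (by rw [map_mul, map_inv, e, inv_mul_cancel])))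
    · exact Or.inr (Or.inr (hker (mul_mem (inv_mem (mul_mem hσL hσL)) hc)
        (by rw [map_mul, map_inv, map_mul A σ σ, e, inv_mul_cancel])))
  have hLle : ∀ M : Subgroup H, K₁ ≤ M → σ ∈ M → L ≤ M := by
    intro M hK hσM c hc
    rcases hdec hc with e | e | e
    · exact hK e
    · simpa using mul_mem hσM (hK e)
    · have := mul_mem (mul_mem hσM hσM) (hK e)
      rwa [mul_inv_cancel_left] at this
  refine ⟨L, hLn, hKL, hLle _ hK₁c hσc, fun l hl => (hLmem.1 hl).2, ⟨ZMod 3, inferInstance, inferInstance,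
    by rw [ZMod.card]; decide, ?_⟩, ?_⟩
  · -- `L ≅ SL₂(3)`
    obtain ⟨S, hS⟩ := Cfsg.Agent.PBasic.exists_sylow_subgroupOf T L
    have hQL : ∀ s ∈ D.F₁.Q, (s : H) ∈ L := fun s hs => hKL (P.Q₁ s hs)
    let ι : D.F₁.Q →* (S : Subgroup L) := MonoidHom.mk'
      (fun s => ⟨⟨(s.1 : H), hQL _ s.2⟩, by rw [hS]; exact s.1.2⟩) fun s t => rfl
    have hι : Function.Bijective ι := by
      refine ⟨fun s t e => Subtype.ext (Subtype.ext (congrArg (fun v : (S : Subgroup L) => ((v : L) : H)) e)), ?_⟩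
      rintro ⟨⟨x, hxL⟩, hxS⟩
      have hxT : x ∈ (T : Subgroup H) := by rw [hS] at hxS; exact hxS
      obtain ⟨p, hp, q, hq, e⟩ := (P.Nmem ⟨x, hxT⟩).1 (hLmem.1 hxL).1
      have e' : x = (p : H) * (q : H) := congrArg Subtype.val e
      have hqc : ∀ y ∈ K₂, (q : H) * y = y * (q : H) := fun y hy => by
        have h' := (hLmem.1 hxL).2 y hy
        rw [e', mul_assoc, ← mul_assoc y, ← hcK _ (P.Q₁ p hp) y hy, mul_assoc] at h'
        exact mul_left_cancel h'
      have hxQ : (⟨x, hxT⟩ : ↥(T : Subgroup H)) ∈ D.F₁.Q := by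
        rw [e]
        rcases hZ _ (P.Q₂ q hq) hqc with h' | h'
        · rw [show q = 1 from Subtype.ext h', mul_one]; exact hp
        · rw [show q = z from Subtype.ext h']; exact mul_mem hp D.F₁.z_mem
      exact ⟨⟨_, hxQ⟩, rfl⟩
    obtain ⟨eQ⟩ : Nonempty (D.F₁.Q ≃* QuaternionGroup (2 ^ 1)) := by
      refine SL2Sylow.quaternion_equiv (by norm_num) (a := ⟨g₁, by simpa using D.F₁.g_mem 1⟩)
        (b := ⟨a₁, D.F₁.a_mem⟩) ?_ ?_ ?_ ?_ ?_
      · rw [Subgroup.orderOf_mk, D.F₁.ord, hm]; norm_num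
      · rintro ⟨k, hk⟩
        exact D.F₁.out k (congrArg Subtype.val hk)
      · refine Subtype.ext ?_
        rw [Subgroup.coe_mul, Subgroup.coe_pow, D.F₁.sq]
        have := D.F₁.quarter_sq
        rw [hm] at this
        rw [show (2 : ℕ) ^ 1 = 2 from rfl, pow_two]
        simpa using this.symm
      · refine Subtype.ext ?_
        rw [Subgroup.coe_mul, Subgroup.coe_mul, Subgroup.coe_inv, Subgroup.coe_inv]
        exact D.F₁.inv
      · rw [D.F₁.card_Q, hm]; norm_num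
    refine GW.solvable_case S le_rfl ((MulEquiv.ofBijective ι hι).symm.trans eQ) ?_ ?_ ?_
    · haveI := Cfsg.Agent.PBasic.pPrimeCore_characteristic 2 L
      have h2 : (Cfsg.pPrimeCore 2 L).map L.subtype ≤ Cfsg.pPrimeCore 2 H :=
        Cfsg.Agent.PBasic.le_pPrimeCore inferInstance (by
          rw [Subgroup.card_map_of_injective L.subtype_injective]
          exact Cfsg.Agent.FittingCores.pPrimeCore_coprime (G := L) 2)
      rwa [show Cfsg.pPrimeCore 2 H = ⊥ from C.hO, le_bot_iff,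
        Subgroup.map_eq_bot_iff_of_injective _ L.subtype_injective] at h2
    · intro M hM
      have key : ∀ x y : L, x * y ∈ M ↔ (x ∈ M ↔ y ∈ M) := fun x y => Subgroup.mul_mem_iff_of_index_two hM
      have hbrM : ∀ x : K₁, (br x : H) ∈ M.map L.subtype := fun x =>
        ⟨⟨σ, hσL⟩ * ⟨x, hKL x.2⟩ * ⟨σ, hσL⟩⁻¹ * ⟨x, hKL x.2⟩⁻¹, by
          show _ ∈ M
          rw [key, key, key, inv_mem_iff, inv_mem_iff]
          tauto, rfl⟩
      have hKM : K₁ ≤ M.map L.subtype :=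
        F.gen C P hm _ (hbrM ka) (mul_mem (hbrM kg) (hbrM ka)) hbrG hbrB
      have h2M : σ * σ ∈ M.map L.subtype :=
        ⟨⟨σ, hσL⟩ * ⟨σ, hσL⟩, Subgroup.mul_self_mem_of_index_two hM _, rfl⟩
      have h3M : σ * σ * σ ∈ M.map L.subtype := by
        refine hKM (hker (mul_mem (mul_mem hσL hσL) hσL) ?_)
        have h3 := F.three P hσN hσG
        rwa [pow_succ, pow_two, ← map_mul, ← map_mul] at h3
      have hσM : σ ∈ M.map L.subtype := by
        have := mul_mem (inv_mem h2M) h3M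
        rwa [inv_mul_cancel_left] at this
      have hall : M = ⊤ := by
        rw [eq_top_iff]
        intro x _
        obtain ⟨y, hy, e⟩ := hLle _ hKM hσM x.2
        exact (Subtype.ext e : y = x) ▸ hy
      rw [hall, Subgroup.index_top] at hM
      exact absurd hM (by norm_num)
    · let f := A.comp L.subtype
      haveI : Group.IsSolvable f.ker := by
        have hp : IsPGroup 2 f.ker := by
          have hS₁ : ∀ c : f.ker, ∃ s ∈ D.F₁.Q, ((s : ↥(T : Subgroup H)) : H) = ((c : L) : H) := fun c =>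
            hQ _ (hker c.1.2 c.2)
          intro c
          obtain ⟨s, hs, e⟩ := hS₁ c
          obtain ⟨k, hk⟩ := T.2 s
          refine ⟨k, Subtype.ext (Subtype.ext ?_)⟩
          have e2 := congrArg (fun v : ↥(T : Subgroup H) => (v : H)) hk
          simp only [Subgroup.coe_pow, OneMemClass.coe_one] at e2
          rw [e] at e2
          simpa using e2
        haveI := hp.isNilpotent
        infer_instance
      have hc : ∀ a b : f.range, a * b = b * a := by
        rintro ⟨_, a, rfl⟩ ⟨_, b, rfl⟩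
        refine Subtype.ext ?_
        show A (a : H) * A (b : H) = A (b : H) * A (a : H)
        rcases hclass (hLmem.1 a.2).1 with e1 | e1 | e1 <;> rcases hclass (hLmem.1 b.2).1 with e2 | e2 | e2 <;>
          simp only [e1, e2, one_mul, mul_one, mul_assoc]
      haveI : Group.IsSolvable f.range := Group.isSolvable_of_comm hc
      exact solvable_of_ker_le_range f.ker.subtype f.rangeRestrict (by rw [MonoidHom.ker_rangeRestrict, Subgroup.range_subtype])
  · intro c hc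
    have hcN : c ∈ N := P.two_le hc
    have key : ∀ l ∈ L, A c = A l → ∃ l ∈ L, ∀ x ∈ K₁, D.Eqz (c * x * c⁻¹) (l * x * l⁻¹) := by
      intro l hl e
      refine ⟨l, hl, fun x hx => ?_⟩
      have e1 := F.act c ⟨x, hx⟩ ⟨_, P.n₁.conj_mem x hx c⟩ rfl
      rw [e, F.act l ⟨x, hx⟩ ⟨_, P.n₁.conj_mem x hx l⟩ rfl, eq_comm] at e1
      exact (Parts.ker_eq C E F.ker).1 e1
    rcases hclass hcN with e | e | e
    · exact key 1 (one_mem _) (by rw [e, map_one])
    · exact key σ hσL e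
    · exact key (σ * σ) (mul_mem hσL hσL) (by rw [e, map_mul A σ σ])

end Shape

end Cfsg.Agent.G2Sylow
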