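import Cfsg.Agent.Lib.G2Sylow.Count
import Cfsg.Agent.Lib.TwoXDih.Transfer
import Cfsg.Agent.Lib.NormCyclic.Pair
import Cfsg.Agent.Lib.BrauerSuzuki.ZStar
import Cfsg.Agent.Lib.BrauerSuzuki.Isolated

/-!
Fusion of involutions in a simple group with Sylow 2-subgroup of the shape.
-/

set_option autoImplicit false
set_option linter.unusedSectionVars false

namespace Cfsg.Agent.G2Sylow

open Subgroup

universe u

namespace Shape

section Pure

variable {X : Type*} [Group X] [Finite X] {m : ℕ} {z g₁ a₁ g₂ a₂ w : X}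
variable (D : Shape X m z g₁ a₁ g₂ a₂ w)
include D

/-- Conjugation by a product of the cyclic parts. -/
theorem out_shift {x : X} (hx : x ∉ D.S₀) (hxx : x * x = 1) (i j : ℤ) :
    IsConj x (g₁ ^ (2 * i) * g₂ ^ (2 * j) * x) := by
  refine isConj_iff.2 ⟨g₁ ^ i * g₂ ^ j, ?_⟩
  have h1 := D.out_invol_inv hx hxx (-i)
  have h2 := D.swap.out_invol_inv (D.not_mem_swap hx) hxx (-j)
  rw [neg_neg] at h1 h2
  have e : x * (g₁ ^ i * g₂ ^ j)⁻¹ * x⁻¹ = g₁ ^ i * g₂ ^ j := by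
    rw [mul_inv_rev, ← zpow_neg, ← zpow_neg, ← D.g_comm, D.conj_mul h1 h2]
  calc g₁ ^ i * g₂ ^ j * x * (g₁ ^ i * g₂ ^ j)⁻¹
      = g₁ ^ i * g₂ ^ j * (x * (g₁ ^ i * g₂ ^ j)⁻¹ * x⁻¹) * x := by group
    _ = g₁ ^ (2 * i) * g₂ ^ (2 * j) * x := by
        rw [e, show g₁ ^ i * g₂ ^ j * (g₁ ^ i * g₂ ^ j) = g₁ ^ (2 * i) * g₂ ^ (2 * j) by
          rw [two_mul, two_mul, zpow_add, zpow_add, mul_assoc (g₁ ^ i), ← mul_assoc (g₂ ^ j), ← D.g_comm,
            mul_assoc (g₁ ^ i) (g₂ ^ j) (g₂ ^ j), ← mul_assoc]]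

/-- An involution outside `S₀` is conjugate to an odd shift. -/
theorem out_odd {x : X} (hx : x ∉ D.S₀) (hxx : x * x = 1) :
    ∃ i j : ℤ, ¬ 2 ∣ i ∧ ¬ 2 ∣ j ∧ IsConj x (g₁ ^ i * g₂ ^ j * x) := by
  obtain ⟨k, -, -, hout⟩ := D.out_conj₁ hx
  obtain ⟨k', -, -, hout'⟩ := D.swap.out_conj₁ (D.not_mem_swap hx)
  obtain ⟨t, ht, e⟩ := hout 0
  obtain ⟨t', ht', e'⟩ := hout' 0
  rw [zpow_zero, one_mul] at e e'
  have hxi : x⁻¹ = x := inv_eq_of_mul_eq_one_right hxx
  have h1 : a₁ * x * a₁⁻¹ = g₁ ^ (-t) * x := by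
    calc a₁ * x * a₁⁻¹ = a₁ * (x * a₁ * x⁻¹)⁻¹ * x := by group
      _ = g₁ ^ (-t) * x := by rw [e, mul_inv_rev, mul_inv_cancel_left, zpow_neg]
  have h2 : a₂ * x * a₂⁻¹ = g₂ ^ (-t') * x := by
    calc a₂ * x * a₂⁻¹ = a₂ * (x * a₂ * x⁻¹)⁻¹ * x := by group
      _ = g₂ ^ (-t') * x := by rw [e', mul_inv_rev, mul_inv_cancel_left, zpow_neg]
  refine ⟨-t, -t', fun h => ht (by simpa using h), fun h => ht' (by simpa using h), isConj_iff.2 ⟨a₁ * a₂, ?_⟩⟩
  have hc : a₁ * g₂ ^ (-t') * a₁⁻¹ = g₂ ^ (-t') := by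
    rw [D.comm _ D.F₁.a_mem _ (D.F₂.g_mem _), mul_inv_cancel_right]
  calc a₁ * a₂ * x * (a₁ * a₂)⁻¹ = a₁ * (a₂ * x * a₂⁻¹) * a₁⁻¹ := by group
    _ = a₁ * g₂ ^ (-t') * a₁⁻¹ * (a₁ * x * a₁⁻¹) := by rw [h2]; group
    _ = g₁ ^ (-t) * g₂ ^ (-t') * x := by rw [hc, h1, ← mul_assoc, ← D.g_comm]

/-- The coset of an involution outside `S₀` by `⟨z, u⟩` lies in one class. -/
theorem out_coset {x c : X} (hx : x ∉ D.S₀) (hxx : x * x = 1) (hc : D.InU c) : IsConj x (c * x) := by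
  have step : ∀ {y : X}, y ∉ D.S₀ → y * y = 1 → IsConj y (z * y) := fun {y} hy hyy => by
    have := D.out_shift hy hyy m 0
    rwa [mul_zero, zpow_zero, mul_one, D.F₁.half] at this
  have hconj : ∀ {y : X}, IsConj x y → y ∉ D.S₀ ∧ y * y = 1 := by
    intro y hy
    obtain ⟨g, rfl⟩ := isConj_iff.1 hy
    refine ⟨fun h => hx ?_, by rw [show g * x * g⁻¹ * (g * x * g⁻¹) = g * (x * x) * g⁻¹ by group, hxx]; group⟩
    have := (normal_of_index_eq_two D.index_two).conj_mem _ h g⁻¹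
    rwa [show g⁻¹ * (g * x * g⁻¹) * g⁻¹⁻¹ = x by group] at this
  have hu : IsConj x (D.u * x) := by
    rcases Int.even_or_odd' (m : ℤ) with ⟨c, hc | hc⟩
    · have := D.out_shift hx hxx c c
      rwa [← hc] at this
    · obtain ⟨i, j, hi, hj, h1⟩ := D.out_odd hx hxx
      obtain ⟨i', hi'⟩ : 2 ∣ (m : ℤ) - i := by omega
      obtain ⟨j', hj'⟩ : 2 ∣ (m : ℤ) - j := by omega
      obtain ⟨hy, hyy⟩ := hconj h1
      refine h1.trans ?_
      have := D.out_shift hy hyy i' j'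
      rw [← hi', ← hj'] at this
      have e : g₁ ^ ((m : ℤ) - i) * g₂ ^ ((m : ℤ) - j) * (g₁ ^ i * g₂ ^ j * x) = D.u * x := by
        rw [u, ← mul_assoc, mul_assoc (g₁ ^ ((m : ℤ) - i)), ← mul_assoc (g₂ ^ ((m : ℤ) - j)),
          ← D.g_comm i ((m : ℤ) - j), mul_assoc (g₁ ^ i), ← mul_assoc (g₁ ^ ((m : ℤ) - i)), ← zpow_add,
          ← zpow_add, sub_add_cancel, sub_add_cancel]
      rwa [e] at this
  rcases hc with rfl | rfl | rfl | rfl
  · rw [one_mul]
  · exact step hx hxx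
  · exact hu
  · obtain ⟨hy, hyy⟩ := hconj hu
    refine hu.trans ?_
    rw [← D.z_central, mul_assoc]
    exact step hy hyy

/-- A power of two as order of the centraliser. -/
theorem exists_pow_card (v : X) : ∃ c : ℕ, Nat.card (centralizer ({v} : Set X)) = 2 ^ c := by
  haveI : Fact (Nat.Prime 2) := ⟨Nat.prime_two⟩
  exact IsPGroup.iff_card.1 (D.two.to_subgroup _)

end Pure

variable {G : Type u} [Group G] [Finite G] {S : Sylow 2 G} {m : ℕ} {z g₁ a₁ g₂ a₂ w : ↥(S : Subgroup G)}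
variable (D : Shape ↥(S : Subgroup G) m z g₁ a₁ g₂ a₂ w)
include D

theorem cent_dvd (v : ↥(S : Subgroup G)) :
    Nat.card (centralizer ({v} : Set ↥(S : Subgroup G))) ∣ Nat.card (centralizer ({(v : G)} : Set G)) := by
  rw [← card_map_of_injective (f := (S : Subgroup G).subtype) (S : Subgroup G).subtype_injective]
  refine card_dvd_of_le ?_
  rintro _ ⟨c, hc, rfl⟩
  exact mem_centralizer_singleton_iff.2 (congrArg Subtype.val (mem_centralizer_singleton_iff.1 hc))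

/-- A conjugate in a maximal subgroup with large centraliser. -/
theorem extremal (h2 : ∀ H : Subgroup G, H.index ≠ 2) {M : Subgroup ↥(S : Subgroup G)} (hM : M.index = 2)
    {x : G} (hx : orderOf x = 2) {c : ℕ} (hc : 2 ^ c ∣ Nat.card (centralizer ({x} : Set G))) :
    ∃ v ∈ M, v * v = 1 ∧ v ≠ 1 ∧ IsConj x (v : G) ∧ 2 ^ c ≤ Nat.card (centralizer ({v} : Set ↥(S : Subgroup G))) := by
  have hxx : x * x = 1 := by rw [← pow_two, ← hx, pow_orderOf_eq_one]
  obtain ⟨_, ⟨v, hv, rfl⟩, hconj, hdvd⟩ := TwoXDih.exists_extremal h2 S (M := M.map (S : Subgroup G).subtype)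
    (map_subtype_le M) (by
      rw [card_map_of_injective (S : Subgroup G).subtype_injective, ← M.card_mul_index, hM, mul_comm])
    hxx hc
  have hv2 : orderOf v = 2 := by
    obtain ⟨g, hg⟩ := isConj_iff.1 hconj
    rw [← Subgroup.orderOf_coe, show (v : G) = g * x * g⁻¹ from hg.symm,
      BrauerSuzuki.orderOf_conj_eq, hx]
  refine ⟨v, hv, by have := pow_orderOf_eq_one v; rwa [hv2, pow_two] at this,
    fun e => by rw [e, orderOf_one] at hv2; omega, hconj, ?_⟩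
  refine Nat.le_of_dvd Nat.card_pos (hdvd.trans (dvd_of_eq ?_))
  rw [← card_map_of_injective (f := (S : Subgroup G).subtype) (S : Subgroup G).subtype_injective
    (K := centralizer ({v} : Set ↥(S : Subgroup G)))]
  refine congrArg (fun H : Subgroup G => Nat.card ↥H) (Subgroup.ext fun y => ?_)
  constructor
  · rintro ⟨hyS, hy⟩
    exact ⟨⟨y, hyS⟩, mem_centralizer_singleton_iff.2 (Subtype.ext (mem_centralizer_singleton_iff.1 hy)), rfl⟩
  · rintro ⟨c, hc', rfl⟩
    exact ⟨c.2, mem_centralizer_singleton_iff.2 (congrArg Subtype.val (mem_centralizer_singleton_iff.1 hc'))⟩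

/-- Moving an element to `z`, with its centraliser in `S` into `S`. -/
theorem exists_to_z {x : ↥(S : Subgroup G)} (h : IsConj (z : G) x) :
    ∃ g : G, g * x * g⁻¹ = z ∧ ∀ c : ↥(S : Subgroup G), c * x = x * c → g * c * g⁻¹ ∈ (S : Subgroup G) := by
  haveI : Fact (Nat.Prime 2) := ⟨Nat.prime_two⟩
  obtain ⟨d, hd⟩ := isConj_iff.1 h.symm
  set C := centralizer ({(z : G)} : Set G) with hC
  have hSC : (S : Subgroup G) ≤ C := fun s hs =>
    mem_centralizer_singleton_iff.2 (congrArg Subtype.val (D.z_central ⟨s, hs⟩)).symm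
  set R := (centralizer ({x} : Set ↥(S : Subgroup G))).map
    ((MulAut.conj d).toMonoidHom.comp (S : Subgroup G).subtype) with hR
  have hRC : R ≤ C := by
    rintro _ ⟨c, hc, rfl⟩
    refine mem_centralizer_singleton_iff.2 ?_
    show d * c * d⁻¹ * z = z * (d * c * d⁻¹)
    have hcx : (c : G) * x = x * c := congrArg Subtype.val (mem_centralizer_singleton_iff.1 hc)
    rw [← hd, show d * (c : G) * d⁻¹ * (d * x * d⁻¹) = d * (c * x) * d⁻¹ by group, hcx]
    group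
  have hR2 : IsPGroup 2 R := (S.2.to_subgroup _).map _
  obtain ⟨T, hT⟩ := (hR2.comap_of_injective C.subtype C.subtype_injective :
    IsPGroup 2 (R.subgroupOf C)).exists_le_sylow
  obtain ⟨e, he⟩ := MulAction.exists_smul_eq ↥C T (S.subtype hSC)
  have hez : (e : G) * z = z * e := mem_centralizer_singleton_iff.1 e.2
  refine ⟨(e : G) * d, ?_, fun c hc => ?_⟩
  · rw [show (e : G) * d * x * ((e : G) * d)⁻¹ = e * (d * x * d⁻¹) * (e : G)⁻¹ by group, hd, hez,
      mul_inv_cancel_right]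
  · have hmem : d * (c : G) * d⁻¹ ∈ R := ⟨c, mem_centralizer_singleton_iff.2 hc, rfl⟩
    have : e * ⟨_, hRC hmem⟩ * e⁻¹ ∈ ((S.subtype hSC : Sylow 2 ↥C) : Subgroup ↥C) := by
      rw [← he, Sylow.coe_subgroup_smul]
      exact ⟨_, hT (show (⟨_, hRC hmem⟩ : ↥C) ∈ R.subgroupOf C from hmem), rfl⟩
    rw [Sylow.coe_subtype, mem_subgroupOf] at this
    rw [show (e : G) * d * c * ((e : G) * d)⁻¹ = e * (d * c * d⁻¹) * (e : G)⁻¹ by group]
    exact this

/-- `z` is conjugate to `u`. -/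
theorem z_conj_u [IsSimpleGroup G] (hna : ¬ IsMulCommutative G) : IsConj (z : G) (D.u : G) := by
  by_contra hzu
  have hcoe : ∀ {a b : ↥(S : Subgroup G)}, IsConj a b → IsConj (a : G) b := fun h => by
    obtain ⟨c, hc⟩ := isConj_iff.1 h
    exact isConj_iff.2 ⟨c, congrArg Subtype.val hc⟩
  -- in `⟨z, u⟩`
  have hU : ∀ y : ↥(S : Subgroup G), D.InU y → IsConj (z : G) y → y = z := by
    rintro y (rfl | rfl | rfl | rfl) hy
    · obtain ⟨c, hc⟩ := isConj_iff.1 hy.symm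
      rw [OneMemClass.coe_one, mul_one, mul_inv_cancel] at hc
      exact Subtype.ext (by rw [← hc, OneMemClass.coe_one])
    · rfl
    · exact absurd hy hzu
    · exact absurd (hy.trans (hcoe D.u_conj).symm) hzu
  have hinv : ∀ {y : ↥(S : Subgroup G)}, IsConj (z : G) y → y * y = 1 := fun {y} hy => by
    obtain ⟨c, hc⟩ := isConj_iff.1 hy
    refine Subtype.ext ?_
    rw [Subgroup.coe_mul, ← hc, show c * (z : G) * c⁻¹ * (c * z * c⁻¹) = c * ((z * z : ↥(S : Subgroup G)) : G) * c⁻¹ by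
      rw [Subgroup.coe_mul]; group, D.F₁.z_sq, OneMemClass.coe_one, mul_one, mul_inv_cancel]
  -- in `S₀`
  have hS0 : ∀ x ∈ D.S₀, IsConj (z : G) x → x = z := by
    intro x hx hzx
    by_cases hxU : D.InU x
    · exact hU x hxU hzx
    obtain ⟨p, hp, q, hq, hxe, hpp, -, -⟩ := D.invol_split hx (hinv hzx) hxU
    have hpx : p * x = x * p := by rw [hxe, mul_assoc p q p, ← D.comm p hp q hq]
    obtain ⟨g, hg, hmap⟩ := D.exists_to_z hzx
    set y : ↥(S : Subgroup G) := ⟨_, hmap p hpx⟩ with hy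
    have hyy : ((y * y : ↥(S : Subgroup G)) : G) = g * (z : G) * g⁻¹ := by
      rw [Subgroup.coe_mul, hy, show g * (p : G) * g⁻¹ * (g * p * g⁻¹) = g * ((p : G) * p) * g⁻¹ by group,
        ← Subgroup.coe_mul, hpp]
    have hyz : IsConj (z : G) ((y * y : ↥(S : Subgroup G)) : G) := isConj_iff.2 ⟨g, hyy.symm⟩
    have h1 := hU _ (D.sq_inU (hinv hyz)) hyz
    rw [h1] at hyy
    exact absurd (Or.inr (Or.inl (Subtype.ext (mul_left_cancel (mul_right_cancel (hg.trans hyy)))))) hxU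
  -- some other conjugate
  obtain ⟨x, hzx, hxz⟩ : ∃ x : ↥(S : Subgroup G), IsConj (z : G) x ∧ x ≠ z := by
    by_contra hno
    push Not at hno
    have hz2 : orderOf (z : G) = 2 := by
      rw [Subgroup.orderOf_coe]
      haveI : Fact (Nat.Prime 2) := ⟨Nat.prime_two⟩
      exact orderOf_eq_prime (by rw [pow_two, D.F₁.z_sq]) D.F₁.z_ne
    refine NormCyc.false_of_inZStar hna hz2 (BrauerSuzuki.zStar G (z : G) hz2
      (BrauerSuzuki.isIsolated_of_sylow hz2 z.2 fun g hg => ?_))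
    exact congrArg Subtype.val (hno ⟨_, hg⟩ (isConj_iff.2 ⟨g, rfl⟩))
  have hx0 : x ∉ D.S₀ := fun h => hxz (hS0 x h hzx)
  have hxx := hinv hzx
  obtain ⟨g, hg, hmap⟩ := D.exists_to_z hzx
  have hcU : ∀ c : ↥(S : Subgroup G), D.InU c → c * x = x * c := by
    intro c hc
    obtain ⟨hc0, i, j, rfl⟩ := D.inU_mem hc
    have hcc : g₁ ^ i * g₂ ^ j * (g₁ ^ i * g₂ ^ j) = 1 := by
      rcases hc with e | e | e | e <;> rw [e]
      · rw [one_mul]
      · exact D.F₁.z_sq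
      · exact D.u_sq
      · rw [mul_assoc, ← mul_assoc z, D.z_central D.u, mul_assoc D.u z z, D.F₁.z_sq, mul_one, D.u_sq]
    have h1 := D.out_invol_inv hx0 hxx i
    have h2 := D.swap.out_invol_inv (D.not_mem_swap hx0) hxx j
    have h3 : x * (g₁ ^ i * g₂ ^ j) * x⁻¹ = g₁ ^ i * g₂ ^ j := by
      rw [D.conj_mul h1 h2, zpow_neg, zpow_neg, ← mul_inv_rev, ← D.g_comm,
        inv_eq_of_mul_eq_one_right hcc]
    exact (mul_inv_eq_iff_eq_mul.1 h3).symm
  let im : ∀ c : ↥(S : Subgroup G), D.InU c → ↥(S : Subgroup G) := fun c hc => ⟨_, hmap c (hcU c hc)⟩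
  set z' := im z (Or.inr (Or.inl rfl)) with hz'
  set u₁ := im D.u (Or.inr (Or.inr (Or.inl rfl))) with hu₁
  set u₂ := im (D.u * z) (Or.inr (Or.inr (Or.inr rfl))) with hu₂
  have hz'z : IsConj (z : G) z' := isConj_iff.2 ⟨g, rfl⟩
  have hz'0 : z' ∉ D.S₀ := fun h => hxz (by
    have := congrArg Subtype.val (hS0 z' h hz'z)
    change g * (z : G) * g⁻¹ = z at this
    refine Subtype.ext (mul_left_cancel (a := g) (mul_right_cancel (b := g⁻¹) ?_))
    rw [this, hg])
  have hprod : u₁ * u₂ = z' := Subtype.ext (by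
    show g * (D.u : G) * g⁻¹ * (g * ((D.u * z : ↥(S : Subgroup G)) : G) * g⁻¹) = g * (z : G) * g⁻¹
    rw [Subgroup.coe_mul, show g * (D.u : G) * g⁻¹ * (g * ((D.u : G) * z) * g⁻¹) =
      g * ((D.u : G) * D.u) * z * g⁻¹ by group, ← Subgroup.coe_mul, D.u_sq, OneMemClass.coe_one, mul_one])
  have hcomm : ∀ c, ∀ hc : D.InU c, im c hc * z' = z' * im c hc := fun c hc => Subtype.ext (by
    show g * (c : G) * g⁻¹ * (g * (z : G) * g⁻¹) = g * (z : G) * g⁻¹ * (g * (c : G) * g⁻¹)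
    rw [show g * (c : G) * g⁻¹ * (g * (z : G) * g⁻¹) = g * ((c : G) * z) * g⁻¹ by group,
      show g * (z : G) * g⁻¹ * (g * (c : G) * g⁻¹) = g * ((z : G) * c) * g⁻¹ by group,
      ← Subgroup.coe_mul, ← Subgroup.coe_mul, D.z_central])
  have hz'2 := hinv hz'z
  -- one of the images of `u`, `u z` is outside, hence conjugate to `z`
  have key : ∀ c, ∀ hc : D.InU c, im c hc ∉ D.S₀ → IsConj (z : G) (c : G) := by
    intro c hc hout
    have h0 : im c hc * z' ∈ D.S₀ :=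
      (mul_mem_iff_of_index_two D.index_two).2 ⟨fun h => absurd h hout, fun h => absurd h hz'0⟩
    have hU' := D.out_cent hz'0 hz'2 h0 (by
      rw [← mul_assoc z', ← hcomm c hc])
    have h1 := hcoe (D.out_coset hz'0 hz'2 hU')
    rw [mul_assoc (im c hc), hz'2, mul_one] at h1
    exact (hz'z.trans h1).trans (isConj_iff.2 ⟨g, rfl⟩).symm
  by_cases h1 : u₁ ∈ D.S₀
  · refine hzu (((key (D.u * z) (Or.inr (Or.inr (Or.inr rfl))) fun h2 => hz'0 ?_)).trans (hcoe D.u_conj).symm)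
    rw [← hprod]; exact mul_mem h1 h2
  · exact hzu (key D.u (Or.inr (Or.inr (Or.inl rfl))) h1)

/-- Either one class of involutions, or `m = 1` and two classes. -/
theorem classes [IsSimpleGroup G] (hna : ¬ IsMulCommutative G) :
    (∀ x y : G, orderOf x = 2 → orderOf y = 2 → IsConj x y) ∨
      (Nat.card ↥(S : Subgroup G) = 64 ∧ ∃ x y : G, orderOf x = 2 ∧ orderOf y = 2 ∧ ¬ IsConj x y ∧
        ∀ v : G, orderOf v = 2 → IsConj v x ∨ IsConj v y) := by
  haveI : Fact (Nat.Prime 2) := ⟨Nat.prime_two⟩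
  have h2 : ∀ H : Subgroup G, H.index ≠ 2 := fun H hH => by
    have hn := normal_of_index_eq_two hH
    rcases IsSimpleGroup.eq_bot_or_eq_top_of_normal H hn with e | e
    · have h4 : Nat.card ↥(S : Subgroup G) ∣ Nat.card G := card_subgroup_dvd_card _
      rw [e, index_bot] at hH
      rw [hH, D.card] at h4
      have h5 := Nat.le_of_dvd two_pos h4
      have h6 : 1 ≤ m := D.F₁.pos
      nlinarith
    · rw [e, index_top] at hH; omega
  have hcoe : ∀ {a b : ↥(S : Subgroup G)}, IsConj a b → IsConj (a : G) b := fun h => by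
    obtain ⟨c, hc⟩ := isConj_iff.1 h
    exact isConj_iff.2 ⟨c, congrArg Subtype.val hc⟩
  have hzu := D.z_conj_u hna
  have hUz : ∀ y : ↥(S : Subgroup G), D.InU y → y ≠ 1 → IsConj (z : G) y := by
    rintro y (rfl | rfl | rfl | rfl) hy
    exacts [absurd rfl hy, IsConj.refl _, hzu, hzu.trans (hcoe D.u_conj)]
  -- the other classes meet the class `A`
  have step : ∀ x : G, orderOf x = 2 → ¬ IsConj (z : G) x → ∃ v, D.IsA v ∧ IsConj x (v : G) := by
    intro x hx hxz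
    have nz : ∀ {v : ↥(S : Subgroup G)}, v ≠ 1 → IsConj x (v : G) → ¬ D.InU v := fun hv hc hU =>
      hxz ((hUz _ hU hv).trans hc.symm)
    obtain ⟨v, hv0, hv2, hv1, hxv, -⟩ := D.extremal h2 D.index_two hx (c := 0) (by simp)
    have h16 : 2 ^ 4 ∣ Nat.card (centralizer ({x} : Set G)) := by
      obtain ⟨c, hc⟩ := D.exists_pow_card v
      have hle : 16 ≤ Nat.card (centralizer ({v} : Set ↥(S : Subgroup G))) := by
        have h6 := D.F₁.pos
        rcases D.invol_cases hv0 hv2 (nz hv1 hxv) with h | h | h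
        · have := D.card_A h; omega
        · have := D.swap.card_A h; omega
        · exact D.card_B_ge h
      have hdvd : 2 ^ 4 ∣ Nat.card (centralizer ({(v : G)} : Set G)) := by
        refine dvd_trans ?_ (D.cent_dvd v)
        rw [hc] at hle ⊢
        refine pow_dvd_pow 2 ?_
        by_contra hlt
        have : 2 ^ c ≤ 2 ^ 3 := Nat.pow_le_pow_right two_pos (by omega)
        omega
      obtain ⟨g, hg⟩ := isConj_iff.1 hxv
      refine hdvd.trans (dvd_of_eq ?_)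
      rw [← hg]
      refine Nat.card_congr
        { toFun := fun y => ⟨g⁻¹ * y * g, mem_centralizer_singleton_iff.2 ?_⟩
          invFun := fun y => ⟨g * y * g⁻¹, mem_centralizer_singleton_iff.2 ?_⟩
          left_inv := fun y => Subtype.ext (by simp [mul_assoc])
          right_inv := fun y => Subtype.ext (by simp [mul_assoc]) }
      · have h := mem_centralizer_singleton_iff.1 y.2
        calc g⁻¹ * (y : G) * g * x = g⁻¹ * ((y : G) * (g * x * g⁻¹)) * g := by group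
          _ = _ := by rw [h]; group
      · have h := mem_centralizer_singleton_iff.1 y.2
        calc g * (y : G) * g⁻¹ * (g * x * g⁻¹) = g * ((y : G) * x) * g⁻¹ := by group
          _ = _ := by rw [h]; group
    obtain ⟨M, hM, hMH⟩ := D.exists_M₃
    obtain ⟨v', hv'M, hv'2, hv'1, hxv', hc⟩ := D.extremal h2 hM hx h16
    have hv'0 : v' ∈ D.S₀ := by
      by_contra h
      have := D.card_out h hv'2
      omega
    obtain ⟨p, hp, j, e⟩ := hMH v' hv'M hv'0
    rcases D.invol_cases hv'0 hv'2 (nz hv'1 hxv') with h | h | h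
    · exact ⟨v', h, hxv'⟩
    · exfalso
      obtain ⟨i, h⟩ := h
      have hb : ∃ q ∈ D.F₁.Q, ∃ t : ℤ, v' = q * (g₂ ^ t * a₂) := by
        rcases h with h | h
        · exact ⟨_, D.F₁.g_mem m, i, h.trans (D.comm _ (D.F₁.g_mem m) _ (D.F₂.outer_mem i)).symm⟩
        · exact ⟨_, mul_mem (D.F₁.g_mem m) D.F₁.z_mem, i,
            h.trans (D.comm _ (mul_mem (D.F₁.g_mem m) D.F₁.z_mem) _ (D.F₂.outer_mem i)).symm⟩
      obtain ⟨q, hq, t, hb⟩ := hb
      exact D.outer_not_H₃ hq t (hb ▸ e ▸ ⟨p, hp, j, rfl⟩)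
    · exfalso
      obtain ⟨i, t, h⟩ := h
      exact D.outer_not_H₃ (D.F₁.outer_mem i) t (h ▸ e ▸ ⟨p, hp, j, rfl⟩)
  set A₀ := a₁ * g₂ ^ (m : ℤ) with hA₀
  by_cases hone : ∀ x : G, orderOf x = 2 → IsConj (z : G) x
  · exact Or.inl fun x y hx hy => (hone x hx).symm.trans (hone y hy)
  push Not at hone
  obtain ⟨x, hx, hxz⟩ := hone
  obtain ⟨v, hvA, hxv⟩ := step x hx hxz
  have hxA : IsConj x (A₀ : G) := hxv.trans (hcoe (D.A_conj hvA)).symm
  -- no room for a second class in a large group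
  have hm : m = 1 := by
    by_contra hm
    have hm1 : 2 ≤ m := by have := D.F₁.pos; omega
    obtain ⟨c, hc⟩ := D.exists_pow_card v
    have hA16 := D.card_A hvA
    have hc5 : 5 ≤ c := by
      by_contra hlt
      have : 2 ^ c ≤ 2 ^ 4 := Nat.pow_le_pow_right two_pos (by omega)
      omega
    have hv1 : v ≠ 1 := fun e => by
      obtain ⟨g, hg⟩ := isConj_iff.1 hxv
      rw [e, OneMemClass.coe_one, conj_eq_one_iff] at hg
      rw [hg, orderOf_one] at hx
      omega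
    have hv2 : orderOf (v : G) = 2 := by
      obtain ⟨g, hg⟩ := isConj_iff.1 hxv
      rw [← hg, BrauerSuzuki.orderOf_conj_eq, hx]
    obtain ⟨M, hM, hMH⟩ := D.exists_M₂
    obtain ⟨v', hv'M, hv'2, hv'1, hvv', hc'⟩ := D.extremal h2 hM hv2 (c := c) (hc ▸ D.cent_dvd v)
    have h32 : 32 ≤ Nat.card (centralizer ({v'} : Set ↥(S : Subgroup G))) :=
      le_trans (Nat.pow_le_pow_right two_pos hc5) hc'
    have hv'0 : v' ∈ D.S₀ := by
      by_contra h
      have := D.card_out h hv'2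
      omega
    obtain ⟨i, j, e | e⟩ := hMH v' hv'M hv'0
    · subst e
      exact hxz ((hUz _ (D.inU_of_inner hv'2) hv'1).trans (hxv.trans hvv').symm)
    · have := D.card_B_lt (x := v') ⟨i, j, e⟩
      omega
  refine Or.inr ⟨by rw [D.card, hm]; norm_num, z, A₀, ?_, ?_, fun h => hxz (h.trans hxA.symm), fun y hy => ?_⟩
  · rw [Subgroup.orderOf_coe]
    exact orderOf_eq_prime (by rw [pow_two, D.F₁.z_sq]) D.F₁.z_ne
  · obtain ⟨g, hg⟩ := isConj_iff.1 hxA
    rw [← hg, BrauerSuzuki.orderOf_conj_eq, hx]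
  · by_cases hyz : IsConj (z : G) y
    · exact Or.inl hyz.symm
    · obtain ⟨v', hv'A, hyv⟩ := step y hy hyz
      exact Or.inr (hyv.trans (hcoe (D.A_conj hv'A)).symm)

end Shape

end Cfsg.Agent.G2Sylow
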