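import Cfsg.Agent.Lib.G2Sylow.Shape
import Cfsg.Agent.Lib.G2Sylow.SLTwo
import Cfsg.Agent.Lib.ChevOdd.G2Cent
import Cfsg.Agent.S1059

/-!
The Sylow 2-subgroups of `G₂(q)`, `q` odd, have the shape.
-/

set_option autoImplicit false
set_option maxRecDepth 20000
set_option linter.unusedSectionVars false

namespace Cfsg.Agent.G2Sylow

open Matrix (SpecialLinearGroup)
open SL2Pres (up low diagS)

/-- Image of a factor. -/
theorem Fac.map {X Y : Type*} [Group X] [Group Y] (f : X →* Y) (hf : Function.Injective f) {m : ℕ}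
    {z g a : X} (D : Fac m z g a) : Fac m (f z) (f g) (f a) where
  pos := D.pos
  ord := by rw [orderOf_injective f hf, D.ord]
  half := by rw [← map_zpow, D.half]
  sq := by rw [← map_mul, D.sq]
  inv := by rw [← map_inv, ← map_mul, ← map_mul, D.inv, map_inv]
  out i h := D.out i (hf (by rw [map_zpow, h]))

theorem Fac.mem_map {X Y : Type*} [Group X] [Group Y] (f : X →* Y) (hf : Function.Injective f) {m : ℕ}
    {z g a : X} (D : Fac m z g a) (D' : Fac m (f z) (f g) (f a)) {y : Y} :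
    y ∈ D'.Q ↔ ∃ x ∈ D.Q, f x = y := by
  constructor
  · rintro ⟨i, rfl | rfl⟩
    · exact ⟨_, D.g_mem i, map_zpow f g i⟩
    · exact ⟨_, D.outer_mem i, by rw [map_mul, map_zpow]⟩
  · rintro ⟨x, ⟨i, rfl | rfl⟩, rfl⟩
    · exact ⟨i, Or.inl (map_zpow f g i)⟩
    · exact ⟨i, Or.inr (by rw [map_mul, map_zpow])⟩

/-- Pulled back factor. -/
theorem Fac.comap {X Y : Type*} [Group X] [Group Y] (f : X →* Y) (hf : Function.Injective f) {m : ℕ}
    {z g a : X} (D : Fac m (f z) (f g) (f a)) : Fac m z g a where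
  pos := D.pos
  ord := by rw [← orderOf_injective f hf, D.ord]
  half := hf (by rw [map_zpow, D.half])
  sq := hf (by rw [map_mul, D.sq])
  inv := hf (by rw [map_mul, map_mul, map_inv, map_inv, D.inv])
  out i h := D.out i (by rw [← map_zpow, h])

/-- Transport along an isomorphism. -/
theorem Shape.map {X Y : Type*} [Group X] [Group Y] (e : X ≃* Y) {m : ℕ} {z g₁ a₁ g₂ a₂ w : X}
    (D : Shape X m z g₁ a₁ g₂ a₂ w) : Shape Y m (e z) (e g₁) (e a₁) (e g₂) (e a₂) (e w) := by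
  have F₁ := D.F₁.map e.toMonoidHom e.injective
  have F₂ := D.F₂.map e.toMonoidHom e.injective
  have h₁ : ∀ {y}, y ∈ F₁.Q ↔ ∃ x ∈ D.F₁.Q, e x = y := D.F₁.mem_map e.toMonoidHom e.injective F₁
  have h₂ : ∀ {y}, y ∈ F₂.Q ↔ ∃ x ∈ D.F₂.Q, e x = y := D.F₂.mem_map e.toMonoidHom e.injective F₂
  refine { F₁ := F₁, F₂ := F₂, comm := ?_, cap := ?_, conj₁ := ?_, conj₂ := ?_, str := ?_, decomp := ?_, out := ?_,
           card := ?_, two := D.two.of_equiv e }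
  · intro x hx y hy
    obtain ⟨x, hx', rfl⟩ := h₁.1 hx
    obtain ⟨y, hy', rfl⟩ := h₂.1 hy
    rw [← map_mul, ← map_mul, D.comm x hx' y hy']
  · intro x hx hx'
    obtain ⟨x, hx1, rfl⟩ := h₁.1 hx
    obtain ⟨y, hy, he⟩ := h₂.1 hx'
    rcases D.cap x hx1 (e.injective he ▸ hy) with rfl | rfl
    exacts [Or.inl (map_one e), Or.inr rfl]
  · obtain ⟨k, r, hr, h1, h2⟩ := D.conj₁
    exact ⟨k, r, hr, by rw [← map_inv, ← map_mul, ← map_mul, h1, map_zpow],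
      by rw [← map_inv, ← map_mul, ← map_mul, h2, map_mul, map_zpow]⟩
  · obtain ⟨k, r, hr, h1, h2⟩ := D.conj₂
    exact ⟨k, r, hr, by rw [← map_inv, ← map_mul, ← map_mul, h1, map_zpow],
      by rw [← map_inv, ← map_mul, ← map_mul, h2, map_mul, map_zpow]⟩
  · obtain ⟨⟨k, hk, h1⟩, k', hk', h2⟩ := D.str
    exact ⟨⟨k, hk, by rw [← map_inv, ← map_mul, ← map_mul, h1, map_zpow]⟩,
      k', hk', by rw [← map_inv, ← map_mul, ← map_mul, h2, map_zpow]⟩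
  · intro y
    obtain ⟨x, rfl⟩ := e.surjective y
    obtain ⟨p, hp, q, hq, h | h⟩ := D.decomp x
    · exact ⟨_, h₁.2 ⟨p, hp, rfl⟩, _, h₂.2 ⟨q, hq, rfl⟩, Or.inl (by rw [h, map_mul])⟩
    · exact ⟨_, h₁.2 ⟨p, hp, rfl⟩, _, h₂.2 ⟨q, hq, rfl⟩, Or.inr (by rw [h, map_mul, map_mul])⟩
  · intro p hp q hq h
    obtain ⟨p, hp', rfl⟩ := h₁.1 hp
    obtain ⟨q, hq', rfl⟩ := h₂.1 hq
    exact D.out p hp' q hq' (e.injective (by rw [h, map_mul]))
  · rw [← Nat.card_congr e.toEquiv, D.card]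

variable {F : Type*} [Field F]

local notation "SL" => SpecialLinearGroup (Fin 2) F
local notation "GL2" => Matrix.GeneralLinearGroup (Fin 2) F
local notation "zS" => diagS F (-1)

theorem cj_eq {M : GL2} {x y : SL} (h : M.1 * x.1 = y.1 * M.1) : cj M x = y :=
  Subtype.ext (by rw [cj_val, h, Matrix.mul_assoc, Units.mul_inv, Matrix.mul_one])

theorem not_isSquare_pow {x : F} (hx : ¬ IsSquare x) {n : ℕ} (hn : Odd n) : ¬ IsSquare (x ^ n) := by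
  obtain ⟨c, rfl⟩ := hn
  rintro ⟨y, hy⟩
  have h0 : x ≠ 0 := fun h => hx (h ▸ IsSquare.zero)
  refine hx ⟨y / x ^ c, ?_⟩
  rw [div_mul_div_comm, ← hy, pow_succ, two_mul, pow_add, mul_div_assoc, mul_comm (x ^ c * x ^ c),
    div_mul_cancel₀ _ (mul_ne_zero (pow_ne_zero _ h0) (pow_ne_zero _ h0))]

/-- The data of one factor: an element `w₀` of a group acting on an image of `SL₂` as `M`. -/
theorem exists_act {G : Type*} [Group G] (φ : SL →* G) {h : G} {χ : F} (hχ : χ ≠ 0)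
    (hup : ∀ t, h * φ (up t) * h⁻¹ = φ (up (χ * t)))
    (hlow : ∀ t, h * φ (low t) * h⁻¹ = φ (low (χ⁻¹ * t))) :
    ∃ M : GL2, M.1.det = χ ∧ ∀ x, h * φ x * h⁻¹ = φ (cj M x) := by
  refine ⟨Matrix.GeneralLinearGroup.mkOfDetNeZero !![χ, 0; 0, 1] (by simp [hχ]), ?_, fun x => ?_⟩
  · show Matrix.det !![χ, 0; 0, 1] = χ
    simp
  set M : GL2 := Matrix.GeneralLinearGroup.mkOfDetNeZero !![χ, 0; 0, 1] (by simp [hχ]) with hM
  have hMv : M.1 = !![χ, 0; 0, 1] := rfl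
  suffices ((MulAut.conj h).toMonoidHom.comp φ) = φ.comp (cj M) from DFunLike.congr_fun this x
  refine MonoidHom.eq_of_eqOn_dense SL2Pres.closure_up_low ?_
  rintro y (⟨t, rfl⟩ | ⟨t, rfl⟩)
  · show h * φ (up t) * h⁻¹ = φ (cj M (up t))
    rw [hup, cj_eq (M := M) (y := up (χ * t))
      (by rw [hMv, SL2Pres.up_val, SL2Pres.up_val, Matrix.mul_fin_two, Matrix.mul_fin_two]; simp)]
  · show h * φ (low t) * h⁻¹ = φ (cj M (low t))
    rw [hlow, cj_eq (M := M) (y := low (χ⁻¹ * t))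
      (by
        rw [hMv, SL2Pres.low_val, SL2Pres.low_val, Matrix.mul_fin_two, Matrix.mul_fin_two]
        simp [mul_comm, hχ])]

/-- A Sylow 2-subgroup is carried to itself after correcting by an element of `SL₂`. -/
theorem exists_norm [Fintype F] (Q : Sylow 2 SL) (M : GL2) :
    ∃ l : SL, ∀ x ∈ (Q : Subgroup SL), l * cj M x * l⁻¹ ∈ (Q : Subgroup SL) := by
  haveI : Fact (Nat.Prime 2) := ⟨Nat.prime_two⟩
  obtain ⟨T, hT⟩ := (Q.2.map (cj M)).exists_le_sylow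
  obtain ⟨c, hc⟩ := MulAction.exists_smul_eq SL T Q
  refine ⟨c, fun x hx => ?_⟩
  rw [← hc, Sylow.coe_subgroup_smul]
  exact ⟨cj M x, hT ⟨x, hx, rfl⟩, rfl⟩

variable {G : Type*} [Group G]

theorem act_pow (φ : SL →* G) {w : G} {M : GL2} (h : ∀ x, w * φ x * w⁻¹ = φ (cj M x)) :
    ∀ (n : ℕ) (x : SL), w ^ n * φ x * (w ^ n)⁻¹ = φ (cj (M ^ n) x)
  | 0, x => by simp [cj_one]
  | n + 1, x => by
      rw [pow_succ', pow_succ', cj_mul, ← h, ← act_pow φ h n x]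
      group

/-- The abstract model. -/
theorem shape_of_pair [Fintype F] [Finite G] (hF : Odd (Fintype.card F)) (φ ψ : SL →* G)
    (hφ : Function.Injective φ) (hψ : Function.Injective ψ) (hs : φ zS = ψ zS)
    (hc : ∀ x y, Commute (φ x) (ψ y)) {h : G} {M₁ M₂ : GL2}
    (hd₁ : ¬ IsSquare M₁.1.det) (hd₂ : ¬ IsSquare M₂.1.det)
    (hh₁ : ∀ x, h * φ x * h⁻¹ = φ (cj M₁ x)) (hh₂ : ∀ x, h * ψ x * h⁻¹ = ψ (cj M₂ x))
    (hG : (Nat.card G).factorization 2 = 2 * (Nat.card SL).factorization 2) (P : Sylow 2 G) :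
    ∃ (m : ℕ) (z g₁ a₁ g₂ a₂ w : ↥(P : Subgroup G)), Shape ↥(P : Subgroup G) m z g₁ a₁ g₂ a₂ w := by
  haveI : Fact (Nat.Prime 2) := ⟨Nat.prime_two⟩
  obtain ⟨Q⟩ : Nonempty (Sylow 2 SL) := Sylow.nonempty
  obtain ⟨l₁, hl₁⟩ := exists_norm Q M₁
  obtain ⟨l₂, hl₂⟩ := exists_norm Q M₂
  set N₁ := Matrix.SpecialLinearGroup.toGL l₁ * M₁ with hN₁def
  set N₂ := Matrix.SpecialLinearGroup.toGL l₂ * M₂ with hN₂def
  set w₀ := φ l₁ * ψ l₂ * h with hw₀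
  have ha₁ : ∀ x, w₀ * φ x * w₀⁻¹ = φ (cj N₁ x) := fun x => by
    rw [hw₀, cj_mul, cj_toGL, map_mul, map_mul, map_inv, ← hh₁]
    calc φ l₁ * ψ l₂ * h * φ x * (φ l₁ * ψ l₂ * h)⁻¹
        = φ l₁ * (ψ l₂ * (h * φ x * h⁻¹) * (ψ l₂)⁻¹) * (φ l₁)⁻¹ := by group
      _ = _ := by rw [hh₁, ← (hc _ l₂).eq, mul_inv_cancel_right]
  have ha₂ : ∀ x, w₀ * ψ x * w₀⁻¹ = ψ (cj N₂ x) := fun x => by
    rw [hw₀, cj_mul, cj_toGL, map_mul, map_mul, map_inv, ← hh₂]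
    calc φ l₁ * ψ l₂ * h * ψ x * (φ l₁ * ψ l₂ * h)⁻¹
        = φ l₁ * ψ (l₂ * cj M₂ x * l₂⁻¹) * (φ l₁)⁻¹ := by
          rw [map_mul, map_mul, map_inv, ← hh₂]; group
      _ = ψ (l₂ * cj M₂ x * l₂⁻¹) := by rw [(hc l₁ _).eq, mul_inv_cancel_right]
      _ = _ := by rw [map_mul, map_mul, map_inv, ← hh₂]
  obtain ⟨t, n, hn, hord⟩ := Nat.exists_eq_two_pow_mul_odd (orderOf_pos w₀).ne'
  set w := w₀ ^ n with hw
  have hwt : w ^ 2 ^ t = 1 := by rw [hw, ← pow_mul, mul_comm, ← hord, pow_orderOf_eq_one]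
  set K₁ := N₁ ^ n with hK₁
  set K₂ := N₂ ^ n with hK₂
  have hb₁ : ∀ x, w * φ x * w⁻¹ = φ (cj K₁ x) := act_pow φ ha₁ n
  have hb₂ : ∀ x, w * ψ x * w⁻¹ = ψ (cj K₂ x) := act_pow ψ ha₂ n
  have hnormQ : ∀ {l : SL} {M : GL2}, (∀ x ∈ (Q : Subgroup SL), l * cj M x * l⁻¹ ∈ (Q : Subgroup SL)) →
      ∀ (i : ℕ), ∀ x ∈ (Q : Subgroup SL),
        cj ((Matrix.SpecialLinearGroup.toGL l * M) ^ i) x ∈ (Q : Subgroup SL) := by
    intro l M hl i
    induction i with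
    | zero => intro x hx; rwa [pow_zero, cj_one]
    | succ i ih =>
      intro x hx
      rw [pow_succ', cj_mul, cj_mul, cj_toGL]
      exact hl _ (ih x hx)
  have hdK : ∀ {l : SL} {M : GL2}, ¬ IsSquare M.1.det →
      ¬ IsSquare ((Matrix.SpecialLinearGroup.toGL l * M) ^ n).1.det := by
    intro l M hM
    rw [Units.val_pow_eq_pow_val, Matrix.det_pow, Units.val_mul, Matrix.det_mul]
    refine not_isSquare_pow ?_ hn
    rwa [show (Matrix.SpecialLinearGroup.toGL l : GL2).1.det = 1 from l.2, one_mul]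
  have hfix₁ : ∀ x, cj (K₁ ^ 2 ^ t) x = x := fun x => hφ (by
    rw [← act_pow φ hb₁, hwt]; group)
  have hfix₂ : ∀ x, cj (K₂ ^ 2 ^ t) x = x := fun x => hψ (by
    rw [← act_pow ψ hb₂, hwt]; group)
  obtain ⟨m, g₁, a₁, D₁, hQ₁, k₁, r₁, hk₁, hr₁, hg₁, ha₁'⟩ :=
    exists_fac hF Q (hdK hd₁) (hnormQ hl₁ n) hfix₁
  obtain ⟨m', g₂, a₂, D₂, hQ₂, k₂, r₂, hk₂, hr₂, hg₂, ha₂'⟩ :=
    exists_fac hF Q (hdK hd₂) (hnormQ hl₂ n) hfix₂
  obtain rfl : m' = m := by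
    have h1 := D₁.card_Q
    rw [hQ₁, ← hQ₂, D₂.card_Q] at h1
    omega
  obtain ⟨h2, -⟩ := exists_quat hF Q
  have hQQ : Nat.card (Q : Subgroup SL) = 8 * m' := by rw [← hQ₁, D₁.card_Q]
  have hcap : ∀ {x y : SL}, φ x = ψ y → x = 1 ∨ x = zS := by
    intro x y e
    have : ∀ v, x * v = v * x := fun v => hφ (by rw [map_mul, map_mul, e]; exact (hc v y).symm.eq)
    exact ChevOdd.eq_one_or_neg (this _) (this _)
  -- the product of the factors
  let Ψ : ↥(Q : Subgroup SL) × ↥(Q : Subgroup SL) →* G :=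
    MonoidHom.noncommCoprod (φ.comp (Q : Subgroup SL).subtype) (ψ.comp (Q : Subgroup SL).subtype)
      fun x y => hc x y
  have hΨ : ∀ p, Ψ p = φ p.1 * ψ p.2 := fun p => rfl
  set K := Ψ.range with hK
  have hK2 : IsPGroup 2 K := by
    obtain ⟨e, he⟩ := IsPGroup.iff_card.1 Q.2
    rw [hK, MonoidHom.range_eq_map]
    exact ((IsPGroup.of_card (n := e + e) (by rw [Nat.card_prod, he, pow_add])).to_subgroup ⊤).map Ψ
  have hKlow : (8 * m') ^ 2 ≤ 2 * Nat.card K := by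
    have hker : Nat.card Ψ.ker ≤ 2 := by
      refine le_trans (Nat.card_le_card_of_injective (β := ({1, zS} : Set SL))
        (fun p => ⟨(p.1.1 : SL), ?_⟩) ?_) ?_
      · have e : φ p.1.1 * ψ p.1.2 = 1 := p.2
        have e' : φ p.1.1 = ψ (p.1.2 : SL)⁻¹ := by rw [map_inv]; exact eq_inv_of_mul_eq_one_left e
        rcases hcap e' with h | h <;> simp [h]
      · intro p q hpq
        have h1 : (p.1.1 : SL) = q.1.1 := congrArg (fun v : ({1, zS} : Set SL) => (v : SL)) hpq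
        have ep : φ p.1.1 * ψ p.1.2 = 1 := p.2
        have eq' : φ q.1.1 * ψ q.1.2 = 1 := q.2
        rw [h1, ← eq'] at ep
        exact Subtype.ext (Prod.ext (Subtype.ext h1) (Subtype.ext (hψ (mul_left_cancel ep))))
      · refine le_trans (le_of_eq (Nat.card_coe_set_eq _)) ((Set.ncard_insert_le _ _).trans ?_)
        rw [Set.ncard_singleton]
    have h1 := Ψ.ker.card_mul_index
    rw [Subgroup.index_ker, Nat.card_prod, hQQ, ← hK] at h1
    calc (8 * m') ^ 2 = Nat.card Ψ.ker * Nat.card K := by rw [h1, sq]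
      _ ≤ 2 * Nat.card K := Nat.mul_le_mul_right _ hker
  have hnorm : w ∈ Subgroup.normalizer (K : Set G) := by
    refine Subgroup.mem_normalizer_iff_map_conj_eq.2 (Subgroup.eq_of_le_of_card_ge ?_ (le_of_eq ?_))
    · rintro _ ⟨_, ⟨⟨p, q⟩, rfl⟩, rfl⟩
      refine ⟨(⟨_, hnormQ hl₁ n p p.2⟩, ⟨_, hnormQ hl₂ n q q.2⟩), ?_⟩
      show φ (cj K₁ p) * ψ (cj K₂ q) = w * (φ p * ψ q) * w⁻¹
      rw [← hb₁, ← hb₂]; group
    · exact (Nat.card_congr (K.equivMapOfInjective _ (MulAut.conj w).injective).toEquiv)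
  have hwK : w ∉ K := by
    rintro ⟨⟨p, q⟩, e⟩
    rw [hΨ] at e
    refine hdK (l := l₁) hd₁ ?_
    set y := Matrix.SpecialLinearGroup.toGL (p : SL)⁻¹ * K₁ with hy
    have hfix : ∀ x : SL, cj y x = x := fun x => by
      refine hφ ?_
      rw [hy, cj_mul, cj_toGL, inv_inv, map_mul, map_mul, map_inv, ← hb₁, ← e,
        show (φ (p : SL))⁻¹ * (φ p * ψ q * φ x * (φ p * ψ q)⁻¹) * φ p = ψ q * φ x * (ψ q)⁻¹ by group,
        ← (hc x q).eq, mul_inv_cancel_right]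
    refine ⟨y.1 0 0, ?_⟩
    rw [← scalar_of_comm (cj_comm (hfix (up 1))) (cj_comm (hfix (low 1))) fun e1 => ?_, hy, Units.val_mul,
      Matrix.det_mul]
    · exact ((congrArg (· * _) ((p : SL)⁻¹).2).trans (one_mul _)).symm
    · have e00 := congrFun (congrFun e1 0) 0
      simp [SL2Pres.up_val, SL2Pres.low_val, Matrix.mul_fin_two] at e00
  have hzw : IsPGroup 2 (Subgroup.zpowers w) := by
    obtain ⟨j, -, hj⟩ := (Nat.dvd_prime_pow Nat.prime_two).1 (orderOf_dvd_of_pow_eq_one hwt)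
    exact IsPGroup.of_card (n := j) (by rw [Nat.card_zpowers, hj])
  set P' := Subgroup.zpowers w ⊔ K with hP'
  have hP2 : IsPGroup 2 P' := IsPGroup.to_sup_of_normal_right' hzw hK2 (Subgroup.zpowers_le.2 hnorm)
  have hwP : w ∈ P' := Subgroup.mem_sup_left (Subgroup.mem_zpowers w)
  have hKP : K ≤ P' := le_sup_right
  obtain ⟨T, hT⟩ := hP2.exists_le_sylow
  have hTc : Nat.card (T : Subgroup G) = (8 * m') ^ 2 := by
    rw [T.card_eq_multiplicity, hG, mul_comm, pow_mul, ← Q.card_eq_multiplicity, hQQ]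
  have hidx : (K.subgroupOf P').index = 2 := by
    have h1 := (K.subgroupOf P').card_mul_index
    rw [Nat.card_congr (Subgroup.subgroupOfEquivOfLe hKP).toEquiv] at h1
    have h2' : (K.subgroupOf P').index ≠ 1 := fun e => by
      rw [Subgroup.index_eq_one, Subgroup.subgroupOf_eq_top] at e
      exact hwK (e hwP)
    have h3 : Nat.card P' ≤ (8 * m') ^ 2 := hTc ▸ Subgroup.card_le_of_le hT
    have h4 : (K.subgroupOf P').index ≠ 0 := Subgroup.index_ne_zero_of_finite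
    have h5 : 0 < Nat.card K := Nat.card_pos
    rw [← h1] at h3
    by_contra hne
    have : 3 ≤ (K.subgroupOf P').index := by omega
    nlinarith
  have hPc : Nat.card P' = (8 * m') ^ 2 := by
    refine le_antisymm (hTc ▸ Subgroup.card_le_of_le hT) (hKlow.trans (le_of_eq ?_))
    rw [← (K.subgroupOf P').card_mul_index, hidx, Nat.card_congr (Subgroup.subgroupOfEquivOfLe hKP).toEquiv,
      mul_comm]
  have hTP : (T : Subgroup G) = P' := (Subgroup.eq_of_le_of_card_ge hT (by rw [hTc, hPc])).symm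
  -- the shape
  have mem₁ : ∀ {x : SL}, x ∈ (Q : Subgroup SL) → φ x ∈ P' := fun {x} hx =>
    hKP ⟨(⟨x, hx⟩, 1), by rw [hΨ]; simp⟩
  have mem₂ : ∀ {x : SL}, x ∈ (Q : Subgroup SL) → ψ x ∈ P' := fun {x} hx =>
    hKP ⟨(1, ⟨x, hx⟩), by rw [hΨ]; simp⟩
  have hgm₁ : g₁ ∈ (Q : Subgroup SL) := hQ₁ ▸ (by simpa using D₁.g_mem 1 : g₁ ∈ D₁.Q)
  have hgm₂ : g₂ ∈ (Q : Subgroup SL) := hQ₂ ▸ (by simpa using D₂.g_mem 1 : g₂ ∈ D₂.Q)
  have ham₁ : a₁ ∈ (Q : Subgroup SL) := hQ₁ ▸ D₁.a_mem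
  have ham₂ : a₂ ∈ (Q : Subgroup SL) := hQ₂ ▸ D₂.a_mem
  have hzm : zS ∈ (Q : Subgroup SL) := hQ₁ ▸ D₁.z_mem
  let z' : P' := ⟨φ zS, mem₁ hzm⟩
  have E₁ := D₁.map φ hφ
  have E₂ := D₂.map ψ hψ
  rw [← hs] at E₂
  have F₁ : Fac m' z' (⟨φ g₁, mem₁ hgm₁⟩ : P') ⟨φ a₁, mem₁ ham₁⟩ :=
    Fac.comap P'.subtype P'.subtype_injective E₁
  have F₂ : Fac m' z' (⟨ψ g₂, mem₂ hgm₂⟩ : P') ⟨ψ a₂, mem₂ ham₂⟩ :=
    Fac.comap P'.subtype P'.subtype_injective E₂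
  have hm₁ : ∀ {x : P'}, x ∈ F₁.Q ↔ ∃ p ∈ (Q : Subgroup SL), φ p = x := by
    intro x
    rw [← hQ₁]
    constructor
    · rintro ⟨i, rfl | rfl⟩
      · exact ⟨_, D₁.g_mem i, by simp⟩
      · exact ⟨_, D₁.outer_mem i, by simp⟩
    · rintro ⟨_, ⟨i, rfl | rfl⟩, e⟩
      · exact ⟨i, Or.inl (Subtype.ext (by rw [← e]; simp))⟩
      · exact ⟨i, Or.inr (Subtype.ext (by rw [← e]; simp))⟩
  have hm₂ : ∀ {x : P'}, x ∈ F₂.Q ↔ ∃ p ∈ (Q : Subgroup SL), ψ p = x := by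
    intro x
    rw [← hQ₂]
    constructor
    · rintro ⟨i, rfl | rfl⟩
      · exact ⟨_, D₂.g_mem i, by simp⟩
      · exact ⟨_, D₂.outer_mem i, by simp⟩
    · rintro ⟨_, ⟨i, rfl | rfl⟩, e⟩
      · exact ⟨i, Or.inl (Subtype.ext (by rw [← e]; simp))⟩
      · exact ⟨i, Or.inr (Subtype.ext (by rw [← e]; simp))⟩
  have hS : Shape P' m' z' ⟨φ g₁, mem₁ hgm₁⟩ ⟨φ a₁, mem₁ ham₁⟩ ⟨ψ g₂, mem₂ hgm₂⟩ ⟨ψ a₂, mem₂ ham₂⟩
      ⟨w, hwP⟩ := by
    refine { F₁ := F₁, F₂ := F₂, comm := ?_, cap := ?_, conj₁ := ⟨k₁, r₁, hr₁, ?_, ?_⟩,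
             conj₂ := ⟨k₂, r₂, hr₂, ?_, ?_⟩, str := ⟨⟨k₁, hk₁, ?_⟩, k₂, hk₂, ?_⟩, decomp := ?_, out := ?_, card := hPc, two := hP2 }
    · intro x hx y hy
      obtain ⟨p, -, ep⟩ := hm₁.1 hx
      obtain ⟨q, -, eq⟩ := hm₂.1 hy
      refine Subtype.ext ?_
      rw [Subgroup.coe_mul, Subgroup.coe_mul, ← ep, ← eq, (hc p q).eq]
    · intro x hx hx'
      obtain ⟨p, -, ep⟩ := hm₁.1 hx
      obtain ⟨q, -, eq⟩ := hm₂.1 hx'
      rcases hcap (ep.trans eq.symm) with e | e <;> rw [e] at ep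
      · exact Or.inl (Subtype.ext (by rw [← ep, map_one]; rfl))
      · exact Or.inr (Subtype.ext ep.symm)
    · refine Subtype.ext ?_
      simp only [Subgroup.coe_mul, Subgroup.coe_inv, Subgroup.coe_zpow]
      rw [hb₁, hg₁, map_zpow]
    · refine Subtype.ext ?_
      simp only [Subgroup.coe_mul, Subgroup.coe_inv, Subgroup.coe_zpow]
      rw [hb₁, ha₁', map_mul, map_zpow]
    · refine Subtype.ext ?_
      simp only [Subgroup.coe_mul, Subgroup.coe_inv, Subgroup.coe_zpow]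
      rw [hb₂, hg₂, map_zpow]
    · refine Subtype.ext ?_
      simp only [Subgroup.coe_mul, Subgroup.coe_inv, Subgroup.coe_zpow]
      rw [hb₂, ha₂', map_mul, map_zpow]
    · refine Subtype.ext ?_
      simp only [Subgroup.coe_mul, Subgroup.coe_inv, Subgroup.coe_zpow]
      rw [hb₁, hg₁, map_zpow]
    · refine Subtype.ext ?_
      simp only [Subgroup.coe_mul, Subgroup.coe_inv, Subgroup.coe_zpow]
      rw [hb₂, hg₂, map_zpow]
    · intro x
      have key : ∀ y : P', (y : G) ∈ K → ∃ p ∈ F₁.Q, ∃ q ∈ F₂.Q, y = p * q := by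
        rintro y ⟨⟨p, q⟩, e⟩
        exact ⟨⟨_, mem₁ p.2⟩, hm₁.2 ⟨p, p.2, rfl⟩, ⟨_, mem₂ q.2⟩, hm₂.2 ⟨q, q.2, rfl⟩,
          Subtype.ext (by rw [← e]; rfl)⟩
      by_cases hx : (x : G) ∈ K
      · obtain ⟨p, hp, q, hq, e⟩ := key x hx
        exact ⟨p, hp, q, hq, Or.inl e⟩
      · have hxw : x * (⟨w, hwP⟩ : P')⁻¹ ∈ K.subgroupOf P' :=
          (Subgroup.mul_mem_iff_of_index_two hidx).2
            ⟨fun h' => absurd h' hx, fun h' => absurd (inv_mem_iff.1 h') hwK⟩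
        obtain ⟨p, hp, q, hq, e⟩ := key _ (Subgroup.mem_subgroupOf.1 hxw)
        exact ⟨p, hp, q, hq, Or.inr (by rw [← e, inv_mul_cancel_right])⟩
    · intro p hp q hq e
      obtain ⟨p', hp', ep⟩ := hm₁.1 hp
      obtain ⟨q', hq', eq⟩ := hm₂.1 hq
      exact hwK ⟨(⟨p', hp'⟩, ⟨q', hq'⟩), by rw [hΨ, ep, eq]; exact (congrArg Subtype.val e).symm⟩
  exact ⟨_, _, _, _, _, _, _, hS.map ((MulEquiv.subgroupCongr hTP.symm).trans (Sylow.equiv T P))⟩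

/-- The Sylow 2-subgroups of `G₂(q)`. -/
theorem exists_shape [Fintype F] (hF : Odd (Fintype.card F)) (P : Sylow 2 ↥(Cfsg.Lie.chevG2.group F)) :
    ∃ (m : ℕ) (z g₁ a₁ g₂ a₂ w : ↥(P : Subgroup ↥(Cfsg.Lie.chevG2.group F))),
      Shape ↥(P : Subgroup ↥(Cfsg.Lie.chevG2.group F)) m z g₁ a₁ g₂ a₂ w := by
  revert P
  change ∀ P : Sylow 2 ↥(Chev.G2Data.tab.D.group F), _
  intro P
  open ChevOdd ChevOdd.G2 Chev Chev.Tab Chev.TwG2 in
  obtain ⟨s, hs, os, -⟩ := exists_rep (F := F) oka (by decide) (two_ne hF) card_diag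
  open ChevOdd ChevOdd.G2 Chev Chev.Tab Chev.TwG2 in
  have hcent := (centralizer_structure hF s os).1
  have hn12 : Chev.G2Data.tab.n = 12 := ChevOdd.G2.roots.2.2.2.2.1
  open ChevOdd ChevOdd.G2 Chev Chev.Tab Chev.TwG2 in
  obtain ⟨φ, hφ, hφX, hφY, hφz⟩ := exists_rootHom (F := F) gW (r := 7) (by omega)
    (by rw [roots.2.2.2.2.2]; omega) (by rw [hE_short]; exact hM_ne hF)
  open ChevOdd ChevOdd.G2 Chev Chev.Tab Chev.TwG2 in
  obtain ⟨ψ, hψ, hψX, hψY, hψz⟩ := exists_rootHom (F := F) gW (r := 11) (by omega)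
    (by rw [roots.2.2.2.2.2]; omega) (by rw [hE_long]; exact hM_ne hF)
  have hzz : φ zS = ψ zS := Subtype.ext (by
    rw [hφz, hψz, ChevOdd.G2.hE_short, ChevOdd.G2.hE_long])
  open ChevOdd ChevOdd.G2 Chev Chev.Tab Chev.TwG2 in
  have hx : ∀ r ∈ ([7, G2Data.tab.neg 7] : List ℕ), ∀ u ∈ ([11, G2Data.tab.neg 11] : List ℕ), ∀ a b : F,
      Commute (xg g0 r a) (xg g0 u b) := fun r hr u hu a b => by
    obtain ⟨p, q, h1, h2, h3⟩ := comm_facts r hr u hu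
    exact xg_commute gA (hn12 ▸ p) (hn12 ▸ q) h1 h2 (List.isEmpty_iff.1 h3) a b
  open ChevOdd ChevOdd.G2 Chev Chev.Tab Chev.TwG2 in
  have hcomm : ∀ x y, Commute (φ x) (ψ y) := commute_of_gen φ ψ fun a b =>
    ⟨Subtype.ext (by rw [Subgroup.coe_mul, Subgroup.coe_mul, hφX, hψX]; exact hx _ (by simp) _ (by simp) a b),
     Subtype.ext (by rw [Subgroup.coe_mul, Subgroup.coe_mul, hφX, hψY]; exact hx _ (by simp) _ (by simp) a b),
     Subtype.ext (by rw [Subgroup.coe_mul, Subgroup.coe_mul, hφY, hψX]; exact hx _ (by simp) _ (by simp) a b),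
     Subtype.ext (by rw [Subgroup.coe_mul, Subgroup.coe_mul, hφY, hψY]; exact hx _ (by simp) _ (by simp) a b)⟩
  obtain ⟨δ, hδ⟩ := FiniteField.exists_nonsquare (F := F) (by
    intro h
    haveI := ringChar.of_eq h
    exact ChevOdd.two_ne hF (CharP.cast_eq_zero F 2))
  have hδ0 : δ ≠ 0 := fun h => hδ (h ▸ IsSquare.zero)
  set c : ℕ → Fˣ := Pi.mulSingle 1 (Units.mk0 δ hδ0) with hc
  open Chev Chev.Tab Chev.TwG2 in
  obtain ⟨hh, hhv⟩ : ∃ hh : ↥(G2Data.tab.D.group F), (hh : GL G2Data.tab.D.Idx F) = tor G2Data.tab F c :=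
    ⟨⟨_, tor_mem_group g0 c⟩, rfl⟩
  open ChevOdd ChevOdd.G2 Chev Chev.Tab Chev.TwG2 in
  have hw : (wt G2Data.tab F c 7 : F) = δ⁻¹ ∧ (wt G2Data.tab F c 11 : F) = δ := by
    have hl : 1 < G2Data.tab.l := by rw [roots.2.2.2.1]; omega
    have e1 : G2Data.tab.A 1 7 = -1 ∧ G2Data.tab.A 1 11 = 1 := by decide +kernel
    rw [hc, wt_single g0 hl, wt_single g0 hl, e1.1, e1.2, zpow_neg_one, zpow_one]
    simp
  open ChevOdd ChevOdd.G2 Chev Chev.Tab Chev.TwG2 in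
  obtain ⟨M₁, hd₁, hM₁⟩ := exists_act φ (h := hh) (χ := δ⁻¹) (inv_ne_zero hδ0)
    (fun t => Subtype.ext (by
      simp only [Subgroup.coe_mul, Subgroup.coe_inv]
      rw [hφX, hφX, hhv, tor_xg g0 c (by omega), hw.1]))
    (fun t => Subtype.ext (by
      simp only [Subgroup.coe_mul, Subgroup.coe_inv]
      rw [hφY, hφY, hhv, tor_xg g0 c (neg_lt (by omega)), wt_neg g0 (by omega), Units.val_inv_eq_inv_val,
        hw.1]))
  open ChevOdd ChevOdd.G2 Chev Chev.Tab Chev.TwG2 in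
  obtain ⟨M₂, hd₂, hM₂⟩ := exists_act ψ (h := hh) (χ := δ) hδ0
    (fun t => Subtype.ext (by
      simp only [Subgroup.coe_mul, Subgroup.coe_inv]
      rw [hψX, hψX, hhv, tor_xg g0 c (by omega), hw.2]))
    (fun t => Subtype.ext (by
      simp only [Subgroup.coe_mul, Subgroup.coe_inv]
      rw [hψY, hψY, hhv, tor_xg g0 c (neg_lt (by omega)), wt_neg g0 (by omega), Units.val_inv_eq_inv_val,
        hw.2]))
  refine shape_of_pair hF φ ψ hφ hψ hzz hcomm ?_ ?_ hM₁ hM₂ ?_ P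
  · rw [hd₁]
    rintro ⟨y, hy⟩
    exact hδ ⟨y⁻¹, by rw [← mul_inv, ← hy, inv_inv]⟩
  · rwa [hd₂]
  · have hq : 3 ≤ Fintype.card F := by
      have h1 : 1 < Fintype.card F := Fintype.one_lt_card
      obtain ⟨c, hc⟩ := hF
      omega
    have h59 : Nat.card ↥(Chev.G2Data.tab.D.group F) =
        Fintype.card F ^ 6 * (Fintype.card F ^ 2 - 1) * (Fintype.card F ^ 6 - 1) := S1059.result rfl
    have hsl : Nat.card SL = Fintype.card F * (Fintype.card F ^ 2 - 1) := ChevOdd.card_sl_two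
    set q := Fintype.card F with hqdef
    have h1 : q ^ 6 - 1 = (q ^ 2 - 1) * (q ^ 4 + q ^ 2 + 1) := by
      obtain ⟨j, hj⟩ : ∃ j, q ^ 2 = j + 1 :=
        ⟨q ^ 2 - 1, (Nat.sub_add_cancel (Nat.one_le_pow _ _ (by omega))).symm⟩
      rw [show q ^ 6 = (q ^ 2) ^ 3 by ring, show q ^ 4 = (q ^ 2) ^ 2 by ring, hj, Nat.add_sub_cancel]
      exact Nat.sub_eq_of_eq_add (by ring)
    have hmul : Nat.card ↥(Chev.G2Data.tab.D.group F) = Nat.card SL ^ 2 * (q ^ 4 * (q ^ 4 + q ^ 2 + 1)) := by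
      rw [h59, hsl, h1]
      ring
    have hne : Nat.card SL ^ 2 ≠ 0 := pow_ne_zero _ Nat.card_pos.ne'
    have hodd : ¬ 2 ∣ q ^ 4 * (q ^ 4 + q ^ 2 + 1) := by
      rw [← even_iff_two_dvd, Nat.not_even_iff_odd]
      exact Nat.odd_mul.2 ⟨hF.pow, ((hF.pow.add_odd hF.pow).add_odd odd_one)⟩
    rw [hmul, Nat.factorization_mul hne (by intro h; rw [h] at hodd; simp at hodd), Finsupp.add_apply,
      Nat.factorization_eq_zero_of_not_dvd hodd, Nat.factorization_pow, Finsupp.smul_apply, smul_eq_mul,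
      add_zero]

end Cfsg.Agent.G2Sylow
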