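import Cfsg.Agent.Lib.G2Sylow.Cent
import Cfsg.Agent.Lib.G2Sylow.Fusion
import Cfsg.Agent.Lib.G2Sylow.Model
import Cfsg.Agent.Lib.Transfer.Basic

/-!
With one class of involutions, the centraliser of the central involution modulo core has the data of
`Shape.Ctx`.
-/

set_option autoImplicit false
set_option linter.unusedSectionVars false
set_option linter.style.haveILetI false

namespace Cfsg.Agent.G2Sylow

open Subgroup

universe u

namespace Shape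

/-- The central involution. -/
theorem center_eq {X : Type*} [Group X] [Finite X] {m : ℕ} {z g₁ a₁ g₂ a₂ w : X}
    (D : Shape X m z g₁ a₁ g₂ a₂ w) {t : X} (htt : t * t = 1) (ht1 : t ≠ 1) (hc : ∀ x, x * t = t * x) : t = z := by
  have hm := D.F₁.pos
  have ht0 : t ∈ D.S₀ := by
    by_contra h
    have h1 := D.out_invol_inv h htt 1
    rw [← hc, mul_inv_cancel_right, D.F₁.zpow_eq] at h1
    obtain ⟨c, hc'⟩ := h1
    rcases lt_trichotomy c 0 with h' | h' | h' <;> nlinarith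
  by_contra htz
  have hU : D.InU t := by
    by_contra hU
    obtain ⟨p, hp, q, hq, rfl, -, -, ⟨i, rfl⟩ | ⟨i, rfl⟩⟩ := D.invol_split ht0 htt hU
    · have e : g₁ ^ i * a₁ * g₁ ^ (1 : ℤ) = g₁ ^ (1 : ℤ) * (g₁ ^ i * a₁) := by
        have h1 := hc (g₁ ^ (1 : ℤ))
        have h2 : g₁ ^ i * a₁ * q * g₁ ^ (1 : ℤ) = g₁ ^ i * a₁ * g₁ ^ (1 : ℤ) * q := by
          rw [mul_assoc (g₁ ^ i * a₁) q, ← D.comm _ (D.F₁.g_mem 1) q hq, ← mul_assoc]
        exact mul_right_cancel (b := q) (by rw [← h2, ← h1, ← mul_assoc])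
      rw [mul_assoc, D.F₁.a_mul, ← mul_assoc, ← mul_assoc, ← zpow_add, ← zpow_add, D.F₁.a_zpow_eq] at e
      obtain ⟨c, hc'⟩ := e
      rcases lt_trichotomy c 0 with h' | h' | h' <;> nlinarith
    · have e : g₂ ^ i * a₂ * g₂ ^ (1 : ℤ) = g₂ ^ (1 : ℤ) * (g₂ ^ i * a₂) := by
        have h1 := hc (g₂ ^ (1 : ℤ))
        rw [← mul_assoc, ← D.comm p hp _ (D.F₂.g_mem 1), mul_assoc p, mul_assoc p] at h1
        exact (mul_left_cancel h1).symm
      rw [mul_assoc, D.F₂.a_mul, ← mul_assoc, ← mul_assoc, ← zpow_add, ← zpow_add, D.F₂.a_zpow_eq] at e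
      obtain ⟨c, hc'⟩ := e
      rcases lt_trichotomy c 0 with h' | h' | h' <;> nlinarith
  obtain ⟨c, hc'⟩ := isConj_iff.1 D.u_conj
  rcases hU with rfl | rfl | rfl | rfl
  · exact ht1 rfl
  · exact htz rfl
  · rw [hc, mul_inv_cancel_right] at hc'
    exact D.F₁.z_ne (mul_eq_left.1 hc'.symm)
  · have h2 : c * (D.u * z) * c⁻¹ = D.u := by
      rw [show c * (D.u * z) * c⁻¹ = c * D.u * c⁻¹ * (c * z * c⁻¹) by group, hc', ← D.z_central c,
        mul_inv_cancel_right, mul_assoc, D.F₁.z_sq, mul_one]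
    rw [hc, mul_inv_cancel_right] at h2
    exact D.F₁.z_ne (mul_eq_left.1 h2)

variable {G : Type u} [Group G] [Finite G] {S : Sylow 2 G} {m : ℕ} {z g₁ a₁ g₂ a₂ w : ↥(S : Subgroup G)}
variable (D : Shape ↥(S : Subgroup G) m z g₁ a₁ g₂ a₂ w)
include D

/-- Fusion inside the centraliser of `z`. -/
theorem cent_fus (h1 : ∀ v : ↥(S : Subgroup G), v * v = 1 → v ≠ 1 → IsConj (z : G) v) {v : ↥(S : Subgroup G)}
    (hv : v ∈ D.S₀) (hvv : v * v = 1) (hv1 : v ≠ 1) (hvz : v ≠ z) :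
    ∃ x : G, x * z = z * x ∧ x * (D.u : G) * x⁻¹ = v := by
  have hcoe : ∀ {a b : ↥(S : Subgroup G)}, IsConj a b → ∃ c : ↥(S : Subgroup G), (c : G) * a * (c : G)⁻¹ = b :=
    fun h => by
      obtain ⟨c, hc⟩ := isConj_iff.1 h
      exact ⟨c, congrArg Subtype.val hc⟩
  have hzc : ∀ c : ↥(S : Subgroup G), (c : G) * z = z * c := fun c => (congrArg Subtype.val (D.z_central c)).symm
  have hu : D.u ≠ 1 ∧ D.u ≠ z := by
    have ho := odd_mul_not D.F₁.pos (show ¬ (2 : ℤ) ∣ 1 by norm_num)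
    rw [one_mul] at ho
    refine ⟨fun e => ho (D.cap_pow (a := (m : ℤ)) (b := m) e),
      fun e => ho (D.cap_pow (a := (m : ℤ)) (b := m + 2 * m) ?_)⟩
    rw [zpow_add g₂, D.F₂.half, ← mul_assoc]
    show D.u * z = 1
    rw [e, D.F₁.z_sq]
  -- move a product of two fourth roots to `z`, and `z` to `u`
  have key : ∀ p ∈ D.F₁.Q, ∀ q ∈ D.F₂.Q, p * p = z → ∀ y : ↥(S : Subgroup G), y = p * q → y * y = 1 →
      y ≠ 1 → y ≠ z → ∃ g : G, g * y * g⁻¹ = z ∧ g * z * g⁻¹ = D.u := by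
    intro p hp q hq hpp y hy hyy hy1 hyz
    obtain ⟨g, hg, hmap⟩ := D.exists_to_z (h1 y hyy hy1)
    have hpy : p * y = y * p := by rw [hy, mul_assoc p q p, ← D.comm p hp q hq]
    set p' : ↥(S : Subgroup G) := ⟨_, hmap p hpy⟩ with hp'
    have e : ((p' * p' : ↥(S : Subgroup G)) : G) = g * z * g⁻¹ := by
      rw [Subgroup.coe_mul, hp', show g * (p : G) * g⁻¹ * (g * p * g⁻¹) = g * ((p : G) * p) * g⁻¹ by group,
        ← Subgroup.coe_mul, hpp]
    have h2 : p' * p' * (p' * p') = 1 := by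
      refine Subtype.ext ?_
      rw [Subgroup.coe_mul, e, show g * (z : G) * g⁻¹ * (g * z * g⁻¹) = g * ((z : G) * z) * g⁻¹ by group,
        ← Subgroup.coe_mul, D.F₁.z_sq, OneMemClass.coe_one, mul_one, mul_inv_cancel]
    rcases D.sq_inU h2 with e' | e' | e' | e' <;> rw [e'] at e
    · rw [OneMemClass.coe_one, eq_comm, conj_eq_one_iff] at e
      exact absurd (Subtype.ext (by rw [e, OneMemClass.coe_one]) : z = 1) D.F₁.z_ne
    · exact absurd (Subtype.ext (mul_left_cancel (mul_right_cancel (hg.trans e))) : y = z) hyz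
    · exact ⟨g, hg, e.symm⟩
    · obtain ⟨c, hc⟩ := hcoe D.u_conj
      refine ⟨(c : G)⁻¹ * g, ?_, ?_⟩
      · rw [show (c : G)⁻¹ * g * y * ((c : G)⁻¹ * g)⁻¹ = (c : G)⁻¹ * (g * y * g⁻¹) * c by group, hg, mul_assoc,
          ← hzc, inv_mul_cancel_left]
      · rw [show (c : G)⁻¹ * g * z * ((c : G)⁻¹ * g)⁻¹ = (c : G)⁻¹ * (g * z * g⁻¹) * c by group, ← e, ← hc]
        group
  by_cases hU : D.InU v
  · rcases hU with rfl | rfl | rfl | rfl
    · exact absurd rfl hv1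
    · exact absurd rfl hvz
    · exact ⟨1, by rw [one_mul, mul_one], by rw [one_mul, inv_one, mul_one]⟩
    · obtain ⟨c, hc⟩ := hcoe D.u_conj
      exact ⟨c, hzc c, hc⟩
  obtain ⟨p, hp, q, hq, rfl, hpp, -, -⟩ := D.invol_split hv hvv hU
  obtain ⟨g, hg, hgz⟩ := key p hp q hq hpp _ rfl hvv hv1 hvz
  obtain ⟨g₀, hg₀, hg₀z⟩ :=
    key _ (D.F₁.g_mem m) _ (D.F₂.g_mem m) D.F₁.quarter_sq D.u rfl D.u_sq hu.1 hu.2
  refine ⟨g⁻¹ * g₀, ?_, ?_⟩
  · refine mul_inv_eq_iff_eq_mul.1 ?_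
    rw [show g⁻¹ * g₀ * z * (g⁻¹ * g₀)⁻¹ = g⁻¹ * (g₀ * z * g₀⁻¹) * g by group, hg₀z, ← hgz]
    group
  · rw [show g⁻¹ * g₀ * (D.u : G) * (g⁻¹ * g₀)⁻¹ = g⁻¹ * (g₀ * (D.u : G) * g₀⁻¹) * g by group, hg₀, ← hg]
    group

/-- The theorem on centralisers. -/
theorem centralizer_main (h1 : ∀ v : ↥(S : Subgroup G), v * v = 1 → v ≠ 1 → IsConj (z : G) v) {t : G}
    (ht : t = z) :
    ∃ L₁ L₂ : Subgroup (↥(centralizer ({t} : Set G)) ⧸ Cfsg.oddCore ↥(centralizer ({t} : Set G))),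
      L₁.Normal ∧ L₂.Normal ∧
      (∃ (F₁ : Type) (_ : Field F₁) (_ : Fintype F₁), Odd (Fintype.card F₁) ∧
        Nonempty (↥L₁ ≃* Matrix.SpecialLinearGroup (Fin 2) F₁)) ∧
      (∃ (F₂ : Type) (_ : Field F₂) (_ : Fintype F₂), Odd (Fintype.card F₂) ∧
        Nonempty (↥L₂ ≃* Matrix.SpecialLinearGroup (Fin 2) F₂)) ∧
      ⁅L₁, L₂⁆ = ⊥ ∧ L₁ ⊔ L₂ = commutator _ := by
  haveI : Fact (Nat.Prime 2) := ⟨Nat.prime_two⟩
  subst ht
  set C := centralizer ({(z : G)} : Set G) with hC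
  have hSC : (S : Subgroup G) ≤ C := fun s hs =>
    mem_centralizer_singleton_iff.2 (congrArg Subtype.val (D.z_central ⟨s, hs⟩)).symm
  set O := Cfsg.oddCore ↥C with hO
  let π : ↥C →* ↥C ⧸ O := QuotientGroup.mk' O
  let T : Sylow 2 (↥C ⧸ O) := (S.subtype hSC).mapSurjective (QuotientGroup.mk'_surjective O)
  have hTc : (T : Subgroup (↥C ⧸ O)) = ((S.subtype hSC : Sylow 2 ↥C) : Subgroup ↥C).map π := rfl
  let f : ↥(S : Subgroup G) →* ↥(T : Subgroup (↥C ⧸ O)) :=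
    (π.comp (Subgroup.inclusion hSC)).codRestrict _ fun s => by
      rw [hTc]
      exact ⟨Subgroup.inclusion hSC s, by rw [Sylow.coe_subtype, SetLike.mem_coe, mem_subgroupOf]; exact s.2, rfl⟩
  have hf : Function.Bijective f := by
    refine ⟨(injective_iff_map_eq_one f).2 fun s hs => ?_, ?_⟩
    · have hmem : Subgroup.inclusion hSC s ∈ O := (QuotientGroup.eq_one_iff _).1 (congrArg Subtype.val hs)
      obtain ⟨k, hk⟩ := S.2 s
      have h1 : orderOf (Subgroup.inclusion hSC s) ∣ 2 ^ k := orderOf_dvd_of_pow_eq_one (by rw [← map_pow, hk, map_one])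
      have h2 : orderOf (Subgroup.inclusion hSC s) ∣ Nat.card O := by
        rw [← Subgroup.orderOf_mk _ hmem]
        exact orderOf_dvd_natCard _
      have hco : (Nat.card O).Coprime 2 := Cfsg.Agent.FittingCores.pPrimeCore_coprime (G := ↥C) 2
      have h3 := Nat.dvd_gcd h2 h1
      rw [Nat.Coprime.gcd_eq_one (hco.pow_right k), Nat.dvd_one, orderOf_eq_one_iff] at h3
      exact Subgroup.inclusion_injective hSC (h3.trans (map_one _).symm)
    · rintro ⟨y, hy⟩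
      rw [hTc] at hy
      obtain ⟨c, hc, rfl⟩ := hy
      rw [Sylow.coe_subtype, SetLike.mem_coe, mem_subgroupOf] at hc
      exact ⟨⟨c, hc⟩, rfl⟩
  let e : ↥(S : Subgroup G) ≃* ↥(T : Subgroup (↥C ⧸ O)) := MulEquiv.ofBijective f hf
  have hval : ∀ s, ((e s : ↥(T : Subgroup (↥C ⧸ O))) : ↥C ⧸ O) = π (Subgroup.inclusion hSC s) := fun s => rfl
  have D' := D.map e
  refine Ctx.main (D := D') ⟨?_, ?_, ?_⟩
  · intro x
    obtain ⟨c, rfl⟩ := QuotientGroup.mk'_surjective O x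
    rw [hval, ← map_mul, ← map_mul]
    refine congrArg π (Subtype.ext ?_)
    exact (mem_centralizer_singleton_iff.1 c.2).symm
  · exact Cfsg.Agent.PBasic.pPrimeCore_quotient_pPrimeCore 2 ↥C
  · intro v hv hvv hv1 hvz
    obtain ⟨v, rfl⟩ := e.surjective v
    obtain ⟨p, hp, q, hq, hpq⟩ := hv
    obtain ⟨p', hp', rfl⟩ := (D.F₁.mem_map e.toMonoidHom e.injective D'.F₁).1 hp
    obtain ⟨q', hq', rfl⟩ := (D.F₂.mem_map e.toMonoidHom e.injective D'.F₂).1 hq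
    have hv0 : v ∈ D.S₀ := ⟨p', hp', q', hq', e.injective (hpq.trans (map_mul e p' q').symm)⟩
    obtain ⟨x, hx, hxu⟩ := D.cent_fus h1 hv0 (e.injective (by rw [map_mul, hvv, map_one]))
      (fun h => hv1 (by rw [h, map_one])) fun h => hvz (by rw [h])
    have hu : D'.u = e D.u := by
      show e g₁ ^ (m : ℤ) * e g₂ ^ (m : ℤ) = e (g₁ ^ (m : ℤ) * g₂ ^ (m : ℤ))
      rw [map_mul, map_zpow, map_zpow]
    refine isConj_iff.2 ⟨π ⟨x, mem_centralizer_singleton_iff.2 hx⟩, ?_⟩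
    rw [hu, hval, hval, ← map_inv, ← map_mul, ← map_mul]
    exact congrArg π (Subtype.ext hxu)

end Shape

end Cfsg.Agent.G2Sylow
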