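import Cfsg.Agent.Lib.G2Sylow.Twist
import Mathlib.GroupTheory.Transfer
import Mathlib.GroupTheory.IndexNormal
import Mathlib.GroupTheory.Sylow

/-!
A group with central `z` and Sylow 2-subgroup of the shape has a subgroup of index 2 avoiding `h`.
-/

set_option autoImplicit false
set_option maxHeartbeats 800000
set_option linter.unusedSectionVars false

namespace Cfsg.Agent.G2Sylow

open MulAction Function

universe u

namespace Shape

variable {H : Type u} [Group H] [Finite H] {T : Sylow 2 H} {m : ℕ} {z g₁ a₁ g₂ a₂ w : ↥(T : Subgroup H)}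
variable {D : Shape ↥(T : Subgroup H) m z g₁ a₁ g₂ a₂ w} {h : ↥(T : Subgroup H)} {r₁ r₂ i j : ℤ}

/-- An element of the Sylow group outside `S₀` is conjugate to nothing in `S₀` having the same large power. -/
theorem Tw.conj_out (W : Tw D h r₁ r₂ i j) (hz : ∀ x : H, (z : H) * x = x * z) {g : H}
    {s : ↥(T : Subgroup H)} (hs : (s : H) = g⁻¹ * h * g) : s ∉ D.S₀ := by
  intro h0
  have hp : ((s ^ (2 * m) : ↥(T : Subgroup H)) : H) = g⁻¹ * ((h ^ (2 * m) : ↥(T : Subgroup H)) : H) * g := by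
    rw [Subgroup.coe_pow, hs, Subgroup.coe_pow, show g⁻¹ * (h : H) * g = g⁻¹ * h * g⁻¹⁻¹ by rw [inv_inv],
      _root_.conj_pow, inv_inv]
  rcases D.S₀_pow h0 with e | e <;> rw [e] at hp
  · refine W.half_ne.1 (Subtype.ext ?_)
    rw [OneMemClass.coe_one] at hp ⊢
    rw [show ((h ^ (2 * m) : ↥(T : Subgroup H)) : H) = g * (g⁻¹ * ((h ^ (2 * m) : ↥(T : Subgroup H)) : H) * g) * g⁻¹
      by group, ← hp]
    group
  · refine W.half_ne.2 (Subtype.ext ?_)
    rw [show ((h ^ (2 * m) : ↥(T : Subgroup H)) : H) = g * (g⁻¹ * ((h ^ (2 * m) : ↥(T : Subgroup H)) : H) * g) * g⁻¹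
      by group, ← hp, ← hz, mul_inv_cancel_right]

theorem two_pow_m (D : Shape ↥(T : Subgroup H) m z g₁ a₁ g₂ a₂ w) : ∃ n : ℕ, 4 * m = 2 ^ n := by
  obtain ⟨n, hn⟩ := D.two g₁
  obtain ⟨j, -, hj⟩ := (Nat.dvd_prime_pow Nat.prime_two).1 (orderOf_dvd_of_pow_eq_one hn)
  exact ⟨j, by rw [← D.F₁.ord, hj]⟩

/-- A bad period is one. -/
theorem Tw.no_bad (W : Tw D h r₁ r₂ i j) (hz : ∀ x : H, (z : H) * x = x * z) {c : H} {r : ℕ}
    (hr : r ∣ 4 * m) (hne : r ≠ 1) {y : ↥(T : Subgroup H)} (hy : (y : H) = c⁻¹ * (h : H) ^ r * c)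
    (hy0 : y ∉ D.S₀) {k : ℤ} (hsT : c⁻¹ * ((h : H) ^ k * (g₁ : H)) * c ∈ (T : Subgroup H)) : False := by
  have hrT : c⁻¹ * (h : H) ^ r * c ∈ (T : Subgroup H) := hy ▸ y.2
  obtain rfl : y = ⟨_, hrT⟩ := Subtype.ext hy
  set y : ↥(T : Subgroup H) := ⟨_, hrT⟩
  set hh : H := (h : H) with hhh
  obtain ⟨n, hn⟩ := two_pow_m D
  have h4 : hh ^ (4 * m) = 1 := by rw [hhh, ← Subgroup.coe_pow, W.pow_four_m, OneMemClass.coe_one]
  have hcomm : Commute (g₁ : H) hh := by
    have := (W.comm_g₁ 1).map (T : Subgroup H).subtype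
    simpa [hhh] using this
  obtain ⟨e, hen, he⟩ := (Nat.dvd_prime_pow Nat.prime_two).1 (hn ▸ hr)
  have he0 : e ≠ 0 := fun e0 => hne (by rw [he, e0, pow_zero])
  have hen' : e ≠ n := fun e0 => hy0 (by
    have : y = 1 := Subtype.ext (by
      show c⁻¹ * hh ^ r * c = 1
      rw [he, e0, ← hn, h4]; group)
    rw [this]; exact one_mem _)
  have hn2 : 2 * m = 2 ^ (n - 1) := by
    obtain ⟨n', rfl⟩ : ∃ n', n = n' + 1 := ⟨n - 1, by omega⟩
    rw [pow_succ] at hn
    rw [Nat.add_sub_cancel]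
    omega
  have hyp : ∀ k, y ^ k = 1 ↔ hh ^ (r * k) = 1 := fun k => by
    rw [Subtype.ext_iff, Subgroup.coe_pow, OneMemClass.coe_one]
    show (c⁻¹ * hh ^ r * c) ^ k = 1 ↔ _
    rw [show c⁻¹ * hh ^ r * c = c⁻¹ * hh ^ r * c⁻¹⁻¹ by rw [inv_inv], _root_.conj_pow,
      conj_eq_one_iff, ← pow_mul]
  have hy2m : y ^ (2 * m) = 1 := by
    rw [hyp, he, hn2, ← pow_add, show e + (n - 1) = n + (e - 1) by omega, pow_add, pow_mul, ← hn, h4, one_pow]
  have hhalf : (y : H) ^ 2 ^ (n - 1 - e) = c⁻¹ * hh ^ (2 * m) * c := by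
    show (c⁻¹ * hh ^ r * c) ^ 2 ^ (n - 1 - e) = c⁻¹ * hh ^ (2 * m) * c
    rw [show c⁻¹ * hh ^ r * c = c⁻¹ * hh ^ r * c⁻¹⁻¹ by rw [inv_inv], _root_.conj_pow,
      inv_inv, ← pow_mul, he, ← pow_add, show e + (n - 1 - e) = n - 1 by omega, ← hn2]
  by_cases hlt : e < n - 1
  · obtain ⟨d, hd⟩ : ∃ d, n - 1 - e = d + 1 := ⟨n - 2 - e, by omega⟩
    rw [hd, pow_succ', pow_mul, pow_two] at hhalf
    rcases W.short hy0 hy2m with h' | h' <;>
      rw [← Subgroup.coe_mul, h'] at hhalf
    · refine W.half_ne.1 (Subtype.ext ?_)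
      have e1 : c⁻¹ * hh ^ (2 * m) * c = 1 := by
        rw [← hhalf, OneMemClass.coe_one, one_pow]
      rw [Subgroup.coe_pow, OneMemClass.coe_one]
      rwa [show c⁻¹ * hh ^ (2 * m) * c = c⁻¹ * hh ^ (2 * m) * c⁻¹⁻¹ by rw [inv_inv],
        conj_eq_one_iff] at e1
    · have e1 := hhalf
      change (z : H) ^ 2 ^ d = c⁻¹ * hh ^ (2 * m) * c at e1
      rcases Nat.eq_zero_or_pos d with rfl | hd0
      · refine W.half_ne.2 (Subtype.ext ?_)
        rw [pow_zero, pow_one] at e1
        rw [Subgroup.coe_pow, show hh ^ (2 * m) = c * (c⁻¹ * hh ^ (2 * m) * c) * c⁻¹ by group,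
          ← e1, ← hz, mul_inv_cancel_right]
      · refine W.half_ne.1 (Subtype.ext ?_)
        obtain ⟨d', rfl⟩ : ∃ d', d = d' + 1 := ⟨d - 1, by omega⟩
        rw [pow_succ', pow_mul, pow_two, ← Subgroup.coe_mul, D.F₁.z_sq, OneMemClass.coe_one, one_pow] at e1
        rw [Subgroup.coe_pow, OneMemClass.coe_one,
          show hh ^ (2 * m) = c * (c⁻¹ * hh ^ (2 * m) * c) * c⁻¹ by group, ← e1]
        group
  · -- an involution: `g₁` moves the orbit
    have hye : y * y = 1 := by
      rw [← pow_two, hyp, he, ← pow_succ, show e + 1 = n by omega, ← hn, h4]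
    set s : ↥(T : Subgroup H) := ⟨_, hsT⟩ with hs
    have hsy : s * y = y * s := Subtype.ext (by
      show c⁻¹ * (hh ^ k * (g₁ : H)) * c * (c⁻¹ * hh ^ r * c) =
        c⁻¹ * hh ^ r * c * (c⁻¹ * (hh ^ k * (g₁ : H)) * c)
      rw [show c⁻¹ * (hh ^ k * (g₁ : H)) * c * (c⁻¹ * hh ^ r * c) =
        c⁻¹ * (hh ^ k * (g₁ : H) * hh ^ r) * c by group,
        show c⁻¹ * hh ^ r * c * (c⁻¹ * (hh ^ k * (g₁ : H)) * c) =
        c⁻¹ * (hh ^ r * (hh ^ k * (g₁ : H))) * c by group]
      have hc : Commute (hh ^ k * (g₁ : H)) (hh ^ r) :=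
        (((Commute.refl hh).pow_right r).zpow_left k).mul_left (hcomm.pow_right r)
      rw [hc.eq])
    have hU : ∀ c : ↥(T : Subgroup H), D.InU c → c * c = 1 := by
      rintro c (rfl | rfl | rfl | rfl)
      · exact one_mul 1
      · exact D.F₁.z_sq
      · exact D.u_sq
      · rw [mul_assoc, ← mul_assoc z, D.z_central, mul_assoc D.u z z, D.F₁.z_sq, mul_one, D.u_sq]
    have hss : s * s = 1 := by
      by_cases hs0 : s ∈ D.S₀
      · exact hU s (D.out_cent hy0 hye hs0 hsy)
      · have h0 : s * y ∈ D.S₀ :=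
          (Subgroup.mul_mem_iff_of_index_two D.index_two).2 ⟨fun h' => absurd h' hs0, fun h' => absurd h' hy0⟩
        have := hU _ (D.out_cent hy0 hye h0 (by rw [mul_assoc, ← mul_assoc y, ← hsy, mul_assoc]))
        rw [show s * y * (s * y) = s * (y * s) * y by group, ← hsy, ← mul_assoc, mul_assoc (s * s), hye,
          mul_one] at this
        exact this
    refine W.shift_ne k (Subtype.ext ?_)
    rw [Subgroup.coe_mul, Subgroup.coe_mul, Subgroup.coe_zpow, OneMemClass.coe_one]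
    have e2 := congrArg Subtype.val hss
    rw [Subgroup.coe_mul, OneMemClass.coe_one] at e2
    change c⁻¹ * (hh ^ k * (g₁ : H)) * c * (c⁻¹ * (hh ^ k * (g₁ : H)) * c) = 1 at e2
    rw [show c⁻¹ * (hh ^ k * (g₁ : H)) * c * (c⁻¹ * (hh ^ k * (g₁ : H)) * c) =
      c⁻¹ * (hh ^ k * (g₁ : H) * (hh ^ k * (g₁ : H))) * c⁻¹⁻¹ by group, conj_eq_one_iff] at e2
    exact e2

/-- The subgroup of index two. -/
theorem Tw.exists_index_two (W : Tw D h r₁ r₂ i j) (hz : ∀ x : H, (z : H) * x = x * z) :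
    ∃ N : Subgroup H, N.Normal ∧ N.index = 2 ∧ (h : H) ∉ N := by
  classical
  haveI : Fact (Nat.Prime 2) := ⟨Nat.prime_two⟩
  haveI := Fintype.ofFinite H
  let sgn : ↥(T : Subgroup H) →* ℤˣ := MonoidHom.mk' (fun x => if x ∈ D.S₀ then 1 else -1) fun x y => by
    by_cases hx : x ∈ D.S₀ <;> by_cases hy : y ∈ D.S₀ <;>
      simp [Subgroup.mul_mem_iff_of_index_two D.index_two, hx, hy]
  let V : H →* ℤˣ := sgn.transfer
  suffices hV : V (h : H) = -1 by
    refine ⟨V.ker, inferInstance, ?_, fun hk => ?_⟩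
    · have hr : V.range = ⊤ := by
        rw [eq_top_iff]
        intro x _
        rcases Int.units_eq_one_or x with rfl | rfl
        · exact one_mem _
        · exact ⟨h, hV⟩
      rw [Subgroup.index_ker, hr, Subgroup.card_top, Nat.card_eq_fintype_card, Fintype.card_units_int]
    · exact absurd (hk.symm.trans hV) (by decide)
  set hh : H := (h : H) with hhh
  set Ω := Quotient (orbitRel (Subgroup.zpowers hh) (H ⧸ (T : Subgroup H)))
  let S' : Subgroup H := D.S₀.map (T : Subgroup H).subtype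
  obtain ⟨per, hper⟩ : ∃ per : H ⧸ (T : Subgroup H) → ℕ, ∀ x, per x = Function.minimalPeriod (hh • ·) x :=
    ⟨_, fun _ => rfl⟩
  obtain ⟨bad, hbad⟩ : ∃ bad : H ⧸ (T : Subgroup H) → Prop, ∀ x, bad x ↔ x.out⁻¹ * hh ^ per x * x.out ∉ S' :=
    ⟨_, fun _ => Iff.rfl⟩
  -- the set of bad orbits
  have hV : V hh = (-1) ^ (Finset.univ.filter fun q : Ω => bad q.out).card := by
    rw [show V = sgn.transfer from rfl, MonoidHom.transfer_eq_prod_quotient_orbitRel_zpowers_quot,
      ← Finset.prod_const, Finset.prod_filter]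
    refine Finset.prod_congr rfl fun q _ => ?_
    have hmem : ∀ t : ↥(T : Subgroup H), (t : H) ∈ S' ↔ t ∈ D.S₀ := fun t =>
      Subgroup.mem_map_iff_mem Subtype.coe_injective
    show (if _ then _ else _) = _
    simp only [hbad, hper]
    split_ifs with h1 h2 h2
    · rfl
    · exact absurd ((hmem _).2 h1) h2
    · exact absurd ((hmem _).1 h2) h1
    · rfl
  -- labels do not depend on the representative
  have lab : ∀ (x : H ⧸ (T : Subgroup H)) (g : H) (k : ℕ), (g : H ⧸ (T : Subgroup H)) = x →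
      (x.out⁻¹ * hh ^ k * x.out ∈ S' ↔ g⁻¹ * hh ^ k * g ∈ S') := by
    intro x g k hg
    have ht : g⁻¹ * x.out ∈ (T : Subgroup H) := QuotientGroup.eq.1 (hg.trans x.out_eq'.symm)
    have key : ∀ (t : H), t ∈ (T : Subgroup H) → ∀ s : H, s ∈ S' → t * s * t⁻¹ ∈ S' := by
      rintro t ht s ⟨s₀, hs₀, rfl⟩
      exact ⟨_, (Subgroup.normal_of_index_eq_two D.index_two).conj_mem s₀ hs₀ ⟨t, ht⟩, rfl⟩
    constructor <;> intro hs
    · have := key _ ht _ hs
      convert this using 1
      group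
    · have := key _ (inv_mem ht) _ hs
      convert this using 1
      group
  -- the group of `g₁` and `h`
  let A : Subgroup H := Subgroup.closure {(g₁ : H), hh}
  have hcomm : Commute (g₁ : H) hh := by
    have := (W.comm_g₁ 1).map (T : Subgroup H).subtype
    simpa [hhh] using this
  have hA : ∀ a : A, Commute (a : H) hh := fun a => by
    have hle : A ≤ Subgroup.centralizer {hh} := by
      rw [Subgroup.closure_le]
      rintro x (rfl | rfl) <;> rw [SetLike.mem_coe, Subgroup.mem_centralizer_singleton_iff]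
      exact hcomm.eq
    exact Subgroup.mem_centralizer_singleton_iff.1 (hle a.2)
  have hAT : A ≤ (T : Subgroup H) := by
    rw [Subgroup.closure_le]
    rintro x (rfl | rfl)
    exacts [g₁.2, h.2]
  have hhA : hh ∈ A := Subgroup.subset_closure (Set.mem_insert_of_mem _ (Set.mem_singleton _))
  have hzA : ∀ k ∈ Subgroup.zpowers hh, k ∈ A := fun k hk => Subgroup.zpowers_le.2 hhA hk
  have hA2 : IsPGroup 2 A := T.2.to_le hAT
  have hperA : ∀ (a : A) (x : H ⧸ (T : Subgroup H)), per ((a : H) • x) = per x := by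
    intro a x
    rw [hper, hper]
    refine Function.minimalPeriod_eq_minimalPeriod_iff.2 fun n => ?_
    simp only [Function.IsPeriodicPt, Function.IsFixedPt, smul_iterate]
    rw [smul_smul, ((hA a).pow_right n).symm.eq, ← smul_smul]
    exact (MulAction.injective (a : H)).eq_iff
  have badA : ∀ (a : A) (x : H ⧸ (T : Subgroup H)), bad ((a : H) • x) ↔ bad x := by
    intro a x
    rw [hbad, hbad, hperA, not_iff_not, lab _ ((a : H) * x.out) _ (by
      rw [← smul_eq_mul, MulAction.Quotient.coe_smul_out])]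
    rw [mul_inv_rev, show x.out⁻¹ * (a : H)⁻¹ * hh ^ per x * ((a : H) * x.out) =
      x.out⁻¹ * ((a : H)⁻¹ * (hh ^ per x * a)) * x.out by group, ← ((hA a).pow_right _).eq, inv_mul_cancel_left]
  -- `A` permutes the orbits
  letI act : MulAction A Ω :=
    { smul := fun a => Quotient.map' (fun x => (a : H) • x) (by
        rintro x y ⟨⟨k, hk⟩, rfl⟩
        obtain ⟨n, rfl⟩ := hk
        refine ⟨⟨hh ^ n, n, rfl⟩, ?_⟩
        show hh ^ n • (a : H) • y = (a : H) • hh ^ n • y
        rw [smul_smul, smul_smul, ((hA a).zpow_right n).eq])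
      one_smul := fun q => by
        induction q using Quotient.inductionOn'
        exact Quotient.sound' (by simp only [OneMemClass.coe_one, one_smul]; rfl)
      mul_smul := fun a b q => by
        induction q using Quotient.inductionOn'
        exact Quotient.sound' (by simp only [Subgroup.coe_mul, mul_smul]; rfl) }
  have act_mk : ∀ (a : A) (x : H ⧸ (T : Subgroup H)), a • (Quotient.mk'' x : Ω) = Quotient.mk'' ((a : H) • x) :=
    fun a x => rfl
  have bad_rel : ∀ {x y : H ⧸ (T : Subgroup H)}, (Quotient.mk'' x : Ω) = Quotient.mk'' y → (bad x ↔ bad y) := by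
    intro x y hxy
    obtain ⟨⟨k, hk⟩, rfl⟩ := Quotient.exact' hxy
    have hb := badA ⟨k, hzA k hk⟩ y
    exact hb
  letI actB : MulAction A {q : Ω // bad q.out} :=
    { smul := fun a q => ⟨a • q.1, by
        have h1 : bad ((a : H) • q.1.out) := (badA a _).2 q.2
        refine (bad_rel (x := (a • q.1).out) ?_).2 h1
        rw [Quotient.out_eq', ← act_mk, Quotient.out_eq']⟩
      one_smul := fun q => Subtype.ext (one_smul A q.1)
      mul_smul := fun a b q => Subtype.ext (mul_smul a b q.1) }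
  -- a bad orbit fixed by `A` is a point
  have hfix : ∀ q : {q : Ω // bad q.out}, (∀ a : A, a • q = q) → ∀ a : A, (a : H) • q.1.out = q.1.out := by
    intro q hq
    set x := q.1.out with hx
    have hfx : ∀ a : A, ∃ n : ℤ, hh ^ n • ((a : H) • x) = x := by
      intro a
      have e : (Quotient.mk'' ((a : H) • x) : Ω) = Quotient.mk'' x := by
        rw [← act_mk, hx, Quotient.out_eq']
        exact congrArg Subtype.val (hq a)
      obtain ⟨⟨k, n, rfl⟩, hk⟩ := Quotient.exact' e.symm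
      exact ⟨n, hk⟩
    set r := per x with hr
    have hrT : x.out⁻¹ * hh ^ r * x.out ∈ (T : Subgroup H) := by
      rw [hr, hper]; exact QuotientGroup.out_conj_pow_minimalPeriod_mem _ hh x
    set y : ↥(T : Subgroup H) := ⟨_, hrT⟩ with hy
    have hy0 : y ∉ D.S₀ := fun h0 => (hbad x).1 q.2 ⟨y, h0, rfl⟩
    obtain ⟨n, hn⟩ := two_pow_m D
    have h4 : hh ^ (4 * m) = 1 := by rw [hhh, ← Subgroup.coe_pow, W.pow_four_m, OneMemClass.coe_one]
    have hr4 : r ∣ 4 * m := by
      rw [hr, hper]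
      refine Function.IsPeriodicPt.minimalPeriod_dvd (n := 4 * m) ?_
      show (hh • ·)^[4 * m] x = x
      rw [smul_iterate, h4]
      exact one_smul _ x
    have hr1 : r = 1 := by
      by_contra hne
      obtain ⟨k, hk⟩ := hfx ⟨g₁, Subgroup.subset_closure (Set.mem_insert _ _)⟩
      rw [smul_smul] at hk
      refine W.no_bad hz hr4 hne (c := x.out) (y := y) rfl hy0 (k := k) ?_
      have e : ((hh ^ k * (g₁ : H) * x.out : H) : H ⧸ (T : Subgroup H)) = (x.out : H ⧸ (T : Subgroup H)) := by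
        rw [← smul_eq_mul, MulAction.Quotient.coe_smul_out, hk, QuotientGroup.out_eq']
      have := inv_mem (QuotientGroup.eq.1 e)
      rwa [mul_inv_rev, inv_inv, ← mul_assoc] at this
    have hxh : hh • x = x := by
      have := Function.isPeriodicPt_minimalPeriod (hh • ·) x
      rw [← hper, ← hr, hr1] at this
      exact this
    intro a
    obtain ⟨k, hk⟩ := hfx a
    have e : hh ^ (-k) • x = x := by
      have : hh ∈ MulAction.stabilizer H x := hxh
      exact zpow_mem this (-k)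
    calc (a : H) • x = hh ^ (-k) • hh ^ k • (a : H) • x := by
          rw [smul_smul (hh ^ (-k)), ← zpow_add, neg_add_cancel, zpow_zero, one_smul]
      _ = x := by rw [hk, e]
  -- count
  have hbadfix : ∀ x : H ⧸ (T : Subgroup H), (∀ a : A, (a : H) • x = x) → bad x := by
    intro x hx
    have hxh : hh • x = x := hx ⟨hh, hhA⟩
    have hp : per x = 1 := (hper x).trans (Function.minimalPeriod_eq_one_iff_isFixedPt.2 hxh)
    rw [hbad, hp, pow_one]
    rintro ⟨s, hs, e⟩
    exact W.conj_out hz (g := x.out) e hs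
  let Φ : fixedPoints A (H ⧸ (T : Subgroup H)) → fixedPoints A {q : Ω // bad q.out} := fun x =>
    ⟨⟨Quotient.mk'' x.1, (bad_rel (x := (Quotient.mk'' x.1 : Ω).out) (Quotient.out_eq' _)).2 (hbadfix x.1 x.2)⟩,
      fun a => Subtype.ext (by
        show a • (Quotient.mk'' x.1 : Ω) = _
        rw [act_mk, show (a : H) • x.1 = x.1 from x.2 a])⟩
  have hΦ : Function.Bijective Φ := by
    constructor
    · intro x y hxy
      have e : (Quotient.mk'' x.1 : Ω) = Quotient.mk'' y.1 :=
        congrArg (fun p : fixedPoints A {q : Ω // bad q.out} => p.1.1) hxy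
      obtain ⟨⟨k, hk⟩, e'⟩ := Quotient.exact' e
      refine Subtype.ext (e'.symm.trans ?_)
      exact y.2 ⟨k, hzA k hk⟩
    · rintro ⟨q, hq⟩
      exact ⟨⟨q.1.out, hfix q hq⟩, Subtype.ext (Subtype.ext (Quotient.out_eq' q.1))⟩
  have h1 := hA2.card_modEq_card_fixedPoints (H ⧸ (T : Subgroup H))
  have h2 := hA2.card_modEq_card_fixedPoints {q : Ω // bad q.out}
  rw [← Nat.card_congr (Equiv.ofBijective Φ hΦ)] at h2
  have h3 := h2.trans h1.symm
  rw [← Subgroup.index_eq_card, Nat.card_eq_fintype_card, Fintype.card_subtype] at h3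
  rw [hV]
  refine Odd.neg_one_pow (Nat.odd_iff.2 ?_)
  rw [h3]
  exact Nat.two_dvd_ne_zero.1 T.not_dvd_index

end Shape

end Cfsg.Agent.G2Sylow
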