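import Cfsg.Agent.Lib.G2Sylow.CentBase
import Cfsg.Agent.Lib.GW.DoubleCover
import Cfsg.Agent.Lib.AutPSL.Outer
import Cfsg.Agent.Lib.Perm.AutAlternating

/-!
A factor which is simple modulo the centre is `SL₂(q)`, and the derived group acts on it by inner
automorphisms.
-/

set_option autoImplicit false
set_option linter.unusedSectionVars false
set_option linter.style.haveILetI false

namespace Cfsg.Agent.G2Sylow

universe u

open Matrix (SpecialLinearGroup)

/-- No element of order `8`, `16`, ... on seven points. -/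
theorem perm_seven_two : ∀ (N : ℕ) {p : Equiv.Perm (Fin 7)}, p ^ 2 ^ N = 1 → p ^ 4 = 1
  | 0, p, h => by rw [pow_zero, pow_one] at h; rw [h, one_pow]
  | N + 1, p, h => by
    refine perm_seven_pow ?_
    rw [show 8 = 2 * 4 from rfl, pow_mul]
    exact perm_seven_two N (by rw [← pow_mul, ← pow_succ', h])

/-- The action on a quotient of a normal subgroup. -/
theorem exists_quot_act {H : Type*} [Group H] {K : Subgroup H} [K.Normal] {Y : Type*} [Group Y] (E : K →* Y)
    (hE : Function.Surjective E) (hk : ∀ (c : H) (x : K), E x = 1 → E (MulAut.conjNormal c x) = 1) :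
    ∃ A : H →* MulAut Y, ∀ (c : H) (x : K), A c (E x) = E (MulAut.conjNormal c x) := by
  have hwd : ∀ (c : H) (x y : K), E x = E y → E (MulAut.conjNormal c x) = E (MulAut.conjNormal c y) := by
    intro c x y e
    have := hk c (x⁻¹ * y) (by rw [map_mul, map_inv, e, inv_mul_cancel])
    rwa [map_mul, map_mul, map_inv, map_inv, inv_mul_eq_one] at this
  obtain ⟨F, hF⟩ : ∃ F : H → Y → Y, ∀ c x, F c (E x) = E (MulAut.conjNormal c x) :=
    ⟨fun c y => E (MulAut.conjNormal c (Function.surjInv hE y)), fun c x => hwd c _ x (Function.surjInv_eq hE _)⟩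
  have hFF : ∀ c d y, F c (F d y) = F (c * d) y := by
    intro c d y
    obtain ⟨x, rfl⟩ := hE y
    rw [hF, hF, hF, map_mul MulAut.conjNormal, MulAut.mul_apply]
  have h1 : ∀ y, F 1 y = y := fun y => by
    obtain ⟨x, rfl⟩ := hE y
    rw [hF, map_one MulAut.conjNormal, MulAut.one_apply]
  refine ⟨MonoidHom.mk' (fun c =>
    { toFun := F c
      invFun := F c⁻¹
      left_inv := fun y => by rw [hFF, inv_mul_cancel, h1]
      right_inv := fun y => by rw [hFF, mul_inv_cancel, h1]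
      map_mul' := fun y y' => by
        obtain ⟨x, rfl⟩ := hE y
        obtain ⟨x', rfl⟩ := hE y'
        rw [← map_mul E, hF, hF, hF, map_mul, map_mul] }) ?_, fun c x => hF c x⟩
  exact fun c d => MulEquiv.ext fun y => (hFF c d y).symm

variable {H : Type u} [Group H] [Finite H] {T : Sylow 2 H} {m : ℕ} {z g₁ a₁ g₂ a₂ w : ↥(T : Subgroup H)}
variable {D : Shape ↥(T : Subgroup H) m z g₁ a₁ g₂ a₂ w} {h : ↥(T : Subgroup H)} {r₁ r₂ i j : ℤ}
variable {N K₁ K₂ : Subgroup H}

namespace Shape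

/-- A finished factor. -/
structure Good (D : Shape ↥(T : Subgroup H) m z g₁ a₁ g₂ a₂ w) (K K' L : Subgroup H) : Prop where
  nL : L.Normal
  K_le : K ≤ L
  le_comm : L ≤ commutator H
  cent : ∀ l ∈ L, ∀ x ∈ K', l * x = x * l
  sl : ∃ (F : Type) (_ : Field F) (_ : Fintype F),
    Odd (Fintype.card F) ∧ Nonempty (L ≃* SpecialLinearGroup (Fin 2) F)
  act : ∀ c ∈ commutator H, ∃ l ∈ L, ∀ x ∈ K, D.Eqz (c * x * c⁻¹) (l * x * l⁻¹)

/-- The second factor fixes the first modulo `z`. -/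
theorem Parts.triv (C : Ctx D) (P : Parts D N K₁ K₂) {q x : H} (hq : q ∈ K₂) (hx : x ∈ K₁) :
    D.Eqz x (q * x * q⁻¹) :=
  C.comm_iff.1 (P.symm.comm q hq x hx)

theorem Parts.z_mem (P : Parts D N K₁ K₂) : (z : H) ∈ K₁ := P.Q₁ z D.F₁.z_mem

theorem Parts.two_le (P : Parts D N K₁ K₂) : commutator H ≤ N := by
  haveI := P.Nn
  rw [commutator_def, Subgroup.commutator_le]
  intro a _ b _
  have key : ∀ x y : H, x * y ∈ N ↔ (x ∈ N ↔ y ∈ N) := fun x y => Subgroup.mul_mem_iff_of_index_two P.N2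
  rw [commutatorElement_def, key, key, key, inv_mem_iff, inv_mem_iff]
  tauto

/-- The factor mapped onto `Y` with kernel `⟨z⟩`. -/
theorem Parts.ker_eq (C : Ctx D) {Y : Type*} [Group Y] (E : K₁ →* Y)
    (hker : ∀ x : K₁, E x = 1 ↔ (x : H) = 1 ∨ (x : H) = z) {x y : K₁} : E x = E y ↔ D.Eqz (x : H) y := by
  rw [← inv_mul_eq_one, ← map_inv, ← map_mul, hker, Subgroup.coe_mul, Subgroup.coe_inv, inv_mul_eq_one,
    inv_mul_eq_iff_eq_mul, Eqz, eq_comm]

theorem Parts.exists_A (C : Ctx D) (P : Parts D N K₁ K₂) {Y : Type*} [Group Y] (E : K₁ →* Y)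
    (hE : Function.Surjective E) (hker : ∀ x : K₁, E x = 1 ↔ (x : H) = 1 ∨ (x : H) = z) :
    ∃ A : H →* MulAut Y, (∀ (c : H) (x : K₁) (y : K₁), (y : H) = c * x * c⁻¹ → A c (E x) = E y) ∧
      (∀ c ∈ K₂, A c = 1) ∧ ∀ k : K₁, A k = MulAut.conj (E k) := by
  haveI := P.n₁
  obtain ⟨A, hA⟩ := exists_quot_act E hE fun c x e => by
    rw [hker] at e ⊢
    rw [MulAut.conjNormal_apply]
    rcases e with e | e <;> rw [e]
    · left; group
    · right; rw [← C.hz, mul_inv_cancel_right]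
  refine ⟨A, fun c x y e => ?_, fun c hc => MulEquiv.ext fun y => ?_, fun k => MulEquiv.ext fun y => ?_⟩
  · rw [hA]
    exact congrArg E (Subtype.ext (by rw [MulAut.conjNormal_apply, e]))
  · obtain ⟨x, rfl⟩ := hE y
    rw [hA, MulAut.one_apply, eq_comm, Parts.ker_eq C E hker, MulAut.conjNormal_apply]
    exact P.triv C hc x.2
  · obtain ⟨x, rfl⟩ := hE y
    rw [hA, MulAut.conj_apply, ← map_inv, ← map_mul, ← map_mul]
    exact congrArg E (Subtype.ext (by rw [MulAut.conjNormal_apply]; rfl))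

/-- The order of the Sylow subgroup of a factor. -/
theorem Parts.sylow_card (P : Parts D N K₁ K₂) : ∃ Q : Sylow 2 K₁, Nat.card (Q : Subgroup K₁) = 8 * m := by
  haveI : Fact (Nat.Prime 2) := ⟨Nat.prime_two⟩
  haveI := P.n₁
  obtain ⟨Q, hQ⟩ := Cfsg.Agent.PBasic.exists_sylow_subgroupOf T K₁
  refine ⟨Q, ?_⟩
  rw [hQ, ← D.F₁.card_Q]
  refine (Nat.card_congr (Equiv.ofBijective
    (fun s : D.F₁.Q => (⟨⟨(s.1 : H), P.Q₁ _ s.2⟩, s.1.2⟩ : (T : Subgroup H).subgroupOf K₁)) ⟨?_, ?_⟩)).symm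
  · intro s t e
    exact Subtype.ext (Subtype.ext (congrArg (fun v : (T : Subgroup H).subgroupOf K₁ => ((v : K₁) : H)) e))
  · rintro ⟨⟨x, hx⟩, hxT⟩
    exact ⟨⟨⟨x, hxT⟩, P.inter₁ ⟨x, hxT⟩ hx⟩, rfl⟩

/-- Maps killing `S₀` have odd image on the subgroup of index two. -/
theorem Parts.odd_image (P : Parts D N K₁ K₂) {M : Type*} [Group M] (γ : H →* M)
    (hS : ∀ s ∈ D.S₀, γ ((s : ↥(T : Subgroup H)) : H) = 1) {c : H} (hc : c ∈ N) : Odd (orderOf (γ c)) := by
  haveI : Fact (Nat.Prime 2) := ⟨Nat.prime_two⟩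
  haveI := P.Nn
  obtain ⟨PN, hPN⟩ := Cfsg.Agent.PBasic.exists_sylow_subgroupOf T N
  have hle : (PN : Subgroup N) ≤ (γ.comp N.subtype).ker := by
    rw [hPN]
    intro x hx
    exact hS ⟨(x : H), hx⟩ ((P.Nmem ⟨(x : H), hx⟩).1 x.2)
  have h1 : orderOf (γ c) ∣ (PN : Subgroup N).index := by
    refine dvd_trans ?_ (Subgroup.index_dvd_of_le hle)
    rw [Subgroup.index_ker]
    have hm : γ c ∈ (γ.comp N.subtype).range := ⟨⟨c, hc⟩, rfl⟩
    rw [← Subgroup.orderOf_mk (γ c) hm]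
    exact orderOf_dvd_natCard _
  exact (Nat.odd_iff.2 (Nat.two_dvd_ne_zero.1 PN.not_dvd_index)).of_dvd_nat h1

/-- No factor is a double cover of the alternating group of degree seven. -/
theorem Parts.not_a7 (C : Ctx D) (W : Tw D h r₁ r₂ i j) (P : Parts D N K₁ K₂)
    (E : K₁ →* alternatingGroup (Fin 7)) (hE : Function.Surjective E)
    (hker : ∀ x : K₁, E x = 1 ↔ (x : H) = 1 ∨ (x : H) = z) : False := by
  haveI : Fact (Nat.Prime 2) := ⟨Nat.prime_two⟩
  haveI := P.n₁
  obtain ⟨A, hA, hA₂, hAk⟩ := P.exists_A C E hE hker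
  obtain ⟨n, hn⟩ := two_pow_m D
  obtain ⟨p, hp⟩ := (AutAlt.bijective_conjNormal (n := 7) (by norm_num) (by norm_num)).2 (A (h : H))
  have hgi : ((g₁ ^ i : ↥(T : Subgroup H)) : H) ∈ K₁ := P.Q₁ _ (D.F₁.g_mem i)
  set k : K₁ := ⟨((g₁ ^ i : ↥(T : Subgroup H)) : H), hgi⟩ with hk
  have hsq : p * p = ((E k : alternatingGroup (Fin 7)) : Equiv.Perm (Fin 7)) := by
    refine (AutAlt.bijective_conjNormal (n := 7) (by norm_num) (by norm_num)).1 ?_
    rw [map_mul, hp, ← map_mul A, ← Subgroup.coe_mul, W.sq, Subgroup.coe_mul, map_mul A,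
      hA₂ _ (P.Q₂ _ (D.F₂.g_mem j)), mul_one, show ((g₁ ^ i : ↥(T : Subgroup H)) : H) = (k : H) from rfl, hAk]
    refine MulEquiv.ext fun y => Subtype.ext ?_
    rw [MulAut.conj_apply, MulAut.conjNormal_apply]
    rfl
  have hk4 : (k : H) ^ 2 ^ n = 1 := by
    show ((g₁ ^ i : ↥(T : Subgroup H)) : H) ^ 2 ^ n = 1
    rw [← Subgroup.coe_pow, ← zpow_natCast, ← zpow_mul, ← hn, (D.F₁.zpow_one_iff).2 ⟨i, by push_cast; ring⟩,
      OneMemClass.coe_one]
  have hp4 : p ^ 4 = 1 := by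
    refine perm_seven_two (n + 1) ?_
    rw [pow_succ', pow_mul, pow_two, hsq, ← Subgroup.coe_pow, ← map_pow,
      show k ^ 2 ^ n = 1 from Subtype.ext (by rw [Subgroup.coe_pow, hk4, OneMemClass.coe_one]), map_one,
      OneMemClass.coe_one]
  have hk2 : (k : H) * k = 1 ∨ (k : H) * k = z := by
    have e : E (k * k) = 1 := by
      refine Subtype.ext ?_
      rw [map_mul, Subgroup.coe_mul, ← hsq, show p * p * (p * p) = p ^ 4 by simp [pow_succ, mul_assoc], hp4, OneMemClass.coe_one]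
    exact (hker _).1 e
  have hdiv : (2 * m : ℤ) ∣ i + i := by
    change ((g₁ ^ i : ↥(T : Subgroup H)) : H) * ((g₁ ^ i : ↥(T : Subgroup H)) : H) = 1 ∨
      ((g₁ ^ i : ↥(T : Subgroup H)) : H) * ((g₁ ^ i : ↥(T : Subgroup H)) : H) = z at hk2
    rw [← Subgroup.coe_mul, ← zpow_add] at hk2
    rcases hk2 with e | e
    · obtain ⟨c, hc⟩ := D.F₁.zpow_one_iff.1 (Subtype.ext (by rw [e, OneMemClass.coe_one]))
      exact ⟨2 * c, by linear_combination hc⟩
    · obtain ⟨c, hc⟩ := D.F₁.zpow_eq.1 ((Subtype.ext e : g₁ ^ (i + i) = z).trans D.F₁.half.symm)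
      exact ⟨1 - 2 * c, by linear_combination -hc⟩
  -- but `m` is even
  have hm2 : 2 ∣ m := by
    obtain ⟨Q, hQ⟩ := P.sylow_card
    have hcardA : Nat.card (alternatingGroup (Fin 7)) = 2520 := by
      have := two_mul_nat_card_alternatingGroup (α := Fin 7)
      rw [Nat.card_perm, Nat.card_fin] at this
      norm_num [Nat.factorial] at this ⊢
      omega
    have hker2 : Nat.card E.ker = 2 := by
      rw [Nat.card_eq_two_iff]
      refine ⟨1, ⟨⟨z, P.z_mem⟩, (hker _).2 (Or.inr rfl)⟩, fun e => C.z_ne ?_, ?_⟩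
      · exact (congrArg (fun v : E.ker => ((v : K₁) : H)) e).symm
      · refine Set.eq_univ_of_forall fun x => ?_
        rcases (hker _).1 x.2 with e | e
        · exact Or.inl (Subtype.ext (Subtype.ext e))
        · exact Or.inr (Set.mem_singleton_iff.2 (Subtype.ext (Subtype.ext e)))
    have hK : Nat.card K₁ = 5040 := by
      rw [← Subgroup.card_mul_index E.ker, hker2, Subgroup.index_ker, MonoidHom.range_eq_top.2 hE,
        Subgroup.card_top, hcardA]
    have h1 := Subgroup.card_mul_index (Q : Subgroup K₁)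
    rw [hQ, hK] at h1
    have h3 : ¬ 2 ∣ (Q : Subgroup K₁).index := Q.not_dvd_index
    have h4 : 16 ∣ 8 * m * (Q : Subgroup K₁).index := by rw [h1]; norm_num
    rw [show 16 = 8 * 2 from rfl, mul_assoc, Nat.mul_dvd_mul_iff_left (by norm_num)] at h4
    exact (Nat.prime_two.dvd_mul.1 h4).resolve_right h3
  obtain ⟨c, hc⟩ := hdiv
  obtain ⟨m', rfl⟩ := hm2
  exact W.i_odd ⟨(m' : ℤ) * c, by push_cast at hc; linarith⟩

/-- The simple case. -/
theorem Parts.good_simple (C : Ctx D) (W : Tw D h r₁ r₂ i j) (P : Parts D N K₁ K₂) {Y : Type u} [Group Y]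
    (π : K₁ →* Y) (hY : IsSimpleGroup Y) (hnc : ¬ IsMulCommutative Y) (ht : GW.IsTarget Y)
    (hπ : Function.Surjective π) (hker : ∀ x : K₁, π x = 1 ↔ (x : H) = 1 ∨ (x : H) = z) : Good D K₁ K₂ K₁ := by
  haveI : Fact (Nat.Prime 2) := ⟨Nat.prime_two⟩
  haveI := P.n₁
  haveI := hY
  have hYperf : commutator Y = ⊤ := by
    rcases (inferInstance : (commutator Y).Normal).eq_bot_or_eq_top with e | e
    · exfalso
      rw [commutator_def, Subgroup.commutator_eq_bot_iff_le_centralizer] at e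
      exact hnc ⟨⟨fun a b => Subgroup.mem_centralizer_iff.1 (e (Subgroup.mem_top b)) a trivial⟩⟩
    · exact e
  have hdY : ∀ y : Y, ∃ d ∈ commutator K₁, π d = y := by
    intro y
    have : y ∈ (commutator K₁).map π := by
      rw [commutator_def, Subgroup.map_commutator, ← MonoidHom.range_eq_map, MonoidHom.range_eq_top.2 hπ,
        ← commutator_def, hYperf]
      exact Subgroup.mem_top y
    obtain ⟨d, hd, e⟩ := this
    exact ⟨d, hd, e⟩
  have hzK : (⟨z, P.z_mem⟩ : K₁) ∈ commutator K₁ := by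
    have hg : ((g₁ ^ (m : ℤ) : ↥(T : Subgroup H)) : H) ∈ K₁ := P.Q₁ _ (D.F₁.g_mem m)
    obtain ⟨e, he, hee⟩ := hdY (π ⟨_, hg⟩)
    obtain e' | e' : (e : H) = ((g₁ ^ (m : ℤ) : ↥(T : Subgroup H)) : H) ∨
        (e : H) = ((g₁ ^ (m : ℤ) : ↥(T : Subgroup H)) : H) * z := (Parts.ker_eq C π hker).1 hee.symm
    · have : e * e = ⟨z, P.z_mem⟩ := Subtype.ext (by
        rw [Subgroup.coe_mul, e', ← Subgroup.coe_mul, D.F₁.quarter_sq])
      exact this ▸ mul_mem he he
    · have : e * e = ⟨z, P.z_mem⟩ := Subtype.ext (by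
        rw [Subgroup.coe_mul, e', mul_assoc, C.hz, mul_assoc, C.zz, mul_one, ← Subgroup.coe_mul, D.F₁.quarter_sq])
      exact this ▸ mul_mem he he
  have hperf : commutator K₁ = ⊤ := by
    rw [eq_top_iff]
    intro x _
    obtain ⟨d, hd, e⟩ := hdY (π x)
    rcases (Parts.ker_eq C π hker).1 e with e' | e'
    · rwa [show x = d from Subtype.ext e']
    · rw [show x = d * ⟨z, P.z_mem⟩ from Subtype.ext e']
      exact mul_mem hd hzK
  have hcent : ∀ x : K₁, x ∈ Subgroup.center K₁ ↔ π x = 1 := by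
    intro x
    constructor
    · intro hx
      have hc : π x ∈ Subgroup.center Y := Subgroup.mem_center_iff.2 fun y => by
        obtain ⟨v, rfl⟩ := hπ y
        rw [← map_mul, ← map_mul, Subgroup.mem_center_iff.1 hx v]
      rcases (inferInstance : (Subgroup.center Y).Normal).eq_bot_or_eq_top with e | e
      · rwa [e, Subgroup.mem_bot] at hc
      · exact absurd ⟨⟨fun a b => Subgroup.mem_center_iff.1 (e ▸ Subgroup.mem_top b) a⟩⟩ hnc
    · intro hx
      refine Subgroup.mem_center_iff.2 fun v => Subtype.ext ?_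
      rcases (hker x).1 hx with e | e <;> rw [Subgroup.coe_mul, Subgroup.coe_mul, e]
      · rw [one_mul, mul_one]
      · exact (C.hz _).symm
  rcases ht with ⟨F, _, _, hF, h3, ⟨e⟩⟩ | ⟨⟨e⟩⟩
  swap
  · refine absurd ?_ id
    exact P.not_a7 C W (e.toMonoidHom.comp π) (e.surjective.comp hπ) fun x => by
      rw [← hker x]
      exact MulEquiv.map_eq_one_iff e
  let E : K₁ →* Matrix.ProjectiveSpecialLinearGroup (Fin 2) F := e.toMonoidHom.comp π
  have hE : Function.Surjective E := e.surjective.comp hπ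
  have hkerE : ∀ x : K₁, E x = 1 ↔ (x : H) = 1 ∨ (x : H) = z := fun x => by
    rw [← hker x]
    exact MulEquiv.map_eq_one_iff e
  have hZ2 : Nat.card (Subgroup.center K₁) = 2 := by
    rw [Nat.card_eq_two_iff]
    refine ⟨1, ⟨⟨z, P.z_mem⟩, (hcent _).2 ((hker _).2 (Or.inr rfl))⟩, fun e' => C.z_ne ?_, ?_⟩
    · exact (congrArg (fun v : Subgroup.center K₁ => ((v : K₁) : H)) e').symm
    · refine Set.eq_univ_of_forall fun x => ?_
      rcases (hker _).1 ((hcent _).1 x.2) with e' | e'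
      · exact Or.inl (Subtype.ext (Subtype.ext e'))
      · exact Or.inr (Set.mem_singleton_iff.2 (Subtype.ext (Subtype.ext e')))
  have hSL := GW.sl2_cover hperf hZ2 hF h3
    (((QuotientGroup.quotientMulEquivOfEq (show Subgroup.center K₁ = π.ker from
      Subgroup.ext fun x => hcent x)).trans (QuotientGroup.quotientKerEquivOfSurjective π hπ)).trans e)
  refine ⟨P.n₁, le_rfl, ?_, ?_, ⟨F, inferInstance, inferInstance, hF, hSL⟩, ?_⟩
  · intro x hx
    have := (show (⟨x, hx⟩ : K₁) ∈ commutator K₁ from hperf ▸ Subgroup.mem_top _)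
    have h' : x ∈ (commutator K₁).map K₁.subtype := ⟨_, this, rfl⟩
    rw [commutator_def, Subgroup.map_commutator] at h'
    exact Subgroup.commutator_mono le_top le_top h'
  · intro l hl x hx
    let f : K₁ →* H := MonoidHom.mk' (fun a => (a : H) * x * (a : H)⁻¹ * x⁻¹) fun a b => by
      have hb : (b : H) * x * (b : H)⁻¹ * x⁻¹ = 1 ∨ (b : H) * x * (b : H)⁻¹ * x⁻¹ = z := P.comm _ b.2 _ hx
      have hmid : ∀ v : H, v = 1 ∨ v = z → (a : H) * v * (a : H)⁻¹ = v := by
        rintro v (rfl | rfl)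
        · group
        · rw [← C.hz, mul_inv_cancel_right]
      have hcm : ∀ v : H, v = 1 ∨ v = z → v * ((a : H) * x * (a : H)⁻¹ * x⁻¹) =
          (a : H) * x * (a : H)⁻¹ * x⁻¹ * v := by
        rintro v (rfl | rfl)
        · group
        · exact C.hz _
      rw [Subgroup.coe_mul]
      calc (a : H) * b * x * ((a : H) * b)⁻¹ * x⁻¹ =
          (a : H) * ((b : H) * x * (b : H)⁻¹ * x⁻¹) * (a : H)⁻¹ * ((a : H) * x * (a : H)⁻¹ * x⁻¹) := by group
        _ = _ := by rw [hmid _ hb, hcm _ hb]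
    have hf : commutator K₁ ≤ f.ker := by
      rw [commutator_def, Subgroup.commutator_le]
      intro a _ b _
      have hc : f a * f b = f b * f a := by
        rcases P.comm _ a.2 _ hx with e' | e'
        · rw [show f a = 1 from e', one_mul, mul_one]
        · rw [show f a = (z : H) from e', C.hz]
      rw [MonoidHom.mem_ker, map_commutatorElement]
      exact commutatorElement_eq_one_iff_mul_comm.2 hc
    have : f ⟨l, hl⟩ = 1 := hf (hperf ▸ Subgroup.mem_top _)
    exact mul_inv_eq_iff_eq_mul.1 (mul_inv_eq_one.1 this)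
  · intro c hc
    obtain ⟨A, hA, hA₂, hAk⟩ := P.exists_A C E hE hkerE
    obtain ⟨φ, -, -, hφ2, ⟨κ⟩⟩ := AutPSL.exists_outer_hom (F := F) (n := 2) le_rfl
    let γ : H →* Cfsg.Out (Matrix.ProjectiveSpecialLinearGroup (Fin 2) F) := (QuotientGroup.mk' _).comp A
    have hS : ∀ s ∈ D.S₀, γ ((s : ↥(T : Subgroup H)) : H) = 1 := by
      rintro s ⟨p, hp, q, hq, rfl⟩
      show (QuotientGroup.mk (A _) : Cfsg.Out _) = 1
      rw [QuotientGroup.eq_one_iff, Subgroup.coe_mul, map_mul, hA₂ _ (P.Q₂ q hq), mul_one]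
      exact ⟨E ⟨_, P.Q₁ p hp⟩, (hAk ⟨_, P.Q₁ p hp⟩).symm⟩
    have hodd : Odd (orderOf (γ c)) := P.odd_image γ hS (P.two_le hc)
    have hφc : φ (γ c) = 1 := by
      obtain ⟨p, hp⟩ := CharP.exists F
      obtain ⟨f, hpp, hcard⟩ := FiniteField.card F p
      haveI := Fact.mk hpp
      obtain ⟨ε⟩ := AutPSL.exists_ringAut_equiv (F := F) p f hcard
      have hab : ∀ a b : (F ≃+* F) × Multiplicative (ZMod 2), a * b = b * a := fun a b =>
        Prod.ext (ε.injective (by rw [Prod.fst_mul, Prod.fst_mul, map_mul, map_mul, mul_comm])) (mul_comm _ _)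
      have hle : commutator H ≤ (φ.comp γ).ker := by
        rw [commutator_def, Subgroup.commutator_le]
        intro a _ b _
        rw [MonoidHom.mem_ker, map_commutatorElement]
        exact commutatorElement_eq_one_iff_mul_comm.2 (hab _ _)
      exact hle hc
    have hγc : γ c = 1 := by
      have hsq : γ c * γ c = 1 := by
        have e1 : κ (⟨γ c, hφc⟩ * ⟨γ c, hφc⟩) = κ 1 := by
          rw [map_mul, map_one]
          obtain ⟨a, ha⟩ := QuotientGroup.mk_surjective (κ ⟨γ c, hφc⟩)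
          rw [← ha, ← QuotientGroup.mk_mul, QuotientGroup.eq_one_iff]
          exact ⟨a, pow_two a⟩
        exact congrArg Subtype.val (κ.injective e1)
      rw [← orderOf_eq_one_iff]
      have h2 : orderOf (γ c) ∣ 2 := orderOf_dvd_of_pow_eq_one (by rw [pow_two, hsq])
      rcases (Nat.dvd_prime Nat.prime_two).1 h2 with e' | e'
      · exact e'
      · rw [e'] at hodd
        exact absurd hodd (by decide)
    obtain ⟨y, hy⟩ := (QuotientGroup.eq_one_iff _).1 (show (QuotientGroup.mk (A c) : Cfsg.Out _) = 1 from hγc)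
    obtain ⟨l, rfl⟩ := hE y
    refine ⟨l, l.2, fun x hx => ?_⟩
    have e1 := hA c ⟨x, hx⟩ ⟨c * x * c⁻¹, P.n₁.conj_mem x hx c⟩ rfl
    rw [← hy, MulAut.conj_apply, ← map_inv, ← map_mul, ← map_mul, eq_comm, Parts.ker_eq C E hkerE] at e1
    exact e1

end Shape

end Cfsg.Agent.G2Sylow
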