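import Mathlib.GroupTheory.OrderOfElement
import Mathlib.Algebra.Group.Subgroup.ZPowers.Basic
import Mathlib.GroupTheory.Index
import Mathlib.Tactic.Group
import Mathlib.Tactic.Ring
import Mathlib.Tactic.LinearCombination
import Mathlib.Tactic.Linarith

/-!
A quaternion factor: an element `g` of order `4m` with `g^(2m) = z` and `a` with `a^2 = z` inverting it.
-/

set_option autoImplicit false

namespace Cfsg.Agent.G2Sylow

variable {X : Type*} [Group X]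

/-- `g` and `a` generate a generalised quaternion group of order `8m` with centre `z`. -/
structure Fac (m : ℕ) (z g a : X) : Prop where
  pos : 0 < m
  ord : orderOf g = 4 * m
  half : g ^ (2 * (m : ℤ)) = z
  sq : a * a = z
  inv : a * g * a⁻¹ = g⁻¹
  out : ∀ i : ℤ, g ^ i ≠ a

namespace Fac

variable {m : ℕ} {z g a : X} (F : Fac m z g a)
include F

theorem zpow_eq {i j : ℤ} : g ^ i = g ^ j ↔ (4 * m : ℤ) ∣ j - i := by
  rw [zpow_eq_zpow_iff_modEq, Int.modEq_iff_dvd, F.ord]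
  push_cast
  exact Iff.rfl

theorem zpow_one_iff {i : ℤ} : g ^ i = 1 ↔ (4 * m : ℤ) ∣ i := by
  rw [← orderOf_dvd_iff_zpow_eq_one, F.ord]
  push_cast
  exact Iff.rfl

theorem z_ne : z ≠ 1 := by
  rw [← F.half, Ne, F.zpow_one_iff]
  intro h
  have := Int.le_of_dvd (by have := F.pos; omega) h
  have := F.pos
  omega

theorem z_sq : z * z = 1 := by
  rw [← F.half, ← zpow_add, F.zpow_one_iff]
  exact ⟨1, by ring⟩

theorem z_inv : z⁻¹ = z := inv_eq_of_mul_eq_one_right F.z_sq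

theorem conj_zpow (i : ℤ) : a * g ^ i * a⁻¹ = g ^ (-i) := by
  rw [← _root_.conj_zpow, F.inv, inv_zpow, zpow_neg]

theorem a_mul (i : ℤ) : a * g ^ i = g ^ (-i) * a := by
  rw [← F.conj_zpow i, inv_mul_cancel_right]

theorem z_comm_g (i : ℤ) : z * g ^ i = g ^ i * z := by
  rw [← F.half, ← zpow_add, ← zpow_add, add_comm]

theorem z_comm_a : z * a = a * z := by rw [← F.sq, mul_assoc]

theorem outer_sq (i : ℤ) : g ^ i * a * (g ^ i * a) = z := by
  rw [mul_assoc, ← mul_assoc a, F.a_mul, mul_assoc (g ^ (-i)), F.sq, ← mul_assoc, ← zpow_add,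
    add_neg_cancel, zpow_zero, one_mul]

theorem a_zpow_eq {i j : ℤ} : g ^ i * a = g ^ j * a ↔ (4 * m : ℤ) ∣ j - i :=
  ⟨fun h => F.zpow_eq.1 (mul_right_cancel h), fun h => by rw [F.zpow_eq.2 h]⟩

theorem inner_ne_outer (i j : ℤ) : g ^ i ≠ g ^ j * a := fun h =>
  F.out (-j + i) (by rw [zpow_add, h, ← mul_assoc, ← zpow_add, neg_add_cancel, zpow_zero, one_mul])

/-- The factor. -/
def Q : Subgroup X where
  carrier := {x | ∃ i : ℤ, x = g ^ i ∨ x = g ^ i * a}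
  one_mem' := ⟨0, Or.inl (zpow_zero g).symm⟩
  mul_mem' := by
    rintro x y ⟨i, rfl | rfl⟩ ⟨j, rfl | rfl⟩
    · exact ⟨i + j, Or.inl (zpow_add g i j).symm⟩
    · exact ⟨i + j, Or.inr (by rw [zpow_add, mul_assoc])⟩
    · exact ⟨i - j, Or.inr (by rw [mul_assoc, F.a_mul, ← mul_assoc, ← zpow_add, ← sub_eq_add_neg])⟩
    · refine ⟨i - j + 2 * m, Or.inl ?_⟩
      rw [mul_assoc, ← mul_assoc a, F.a_mul, mul_assoc (g ^ (-j)), F.sq, ← mul_assoc, ← zpow_add,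
        ← sub_eq_add_neg, zpow_add, F.half]
  inv_mem' := by
    rintro x ⟨i, rfl | rfl⟩
    · exact ⟨-i, Or.inl (zpow_neg g i).symm⟩
    · refine ⟨i + 2 * m, Or.inr (inv_eq_of_mul_eq_one_right ?_)⟩
      rw [add_comm, zpow_add, F.half, mul_assoc z, ← mul_assoc (g ^ i * a),
        show g ^ i * a * z = z * (g ^ i * a) by
          rw [mul_assoc, ← F.z_comm_a, ← mul_assoc, ← F.z_comm_g, mul_assoc],
        mul_assoc z, F.outer_sq, F.z_sq]

theorem mem_Q {x : X} : x ∈ F.Q ↔ ∃ i : ℤ, x = g ^ i ∨ x = g ^ i * a := Iff.rfl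

theorem g_mem (i : ℤ) : g ^ i ∈ F.Q := ⟨i, Or.inl rfl⟩

theorem a_mem : a ∈ F.Q := ⟨0, Or.inr (by rw [zpow_zero, one_mul])⟩

theorem outer_mem (i : ℤ) : g ^ i * a ∈ F.Q := ⟨i, Or.inr rfl⟩

theorem z_mem : z ∈ F.Q := F.half ▸ F.g_mem _

theorem z_comm {x : X} (hx : x ∈ F.Q) : z * x = x * z := by
  obtain ⟨i, rfl | rfl⟩ := hx
  · exact F.z_comm_g i
  · rw [← mul_assoc, F.z_comm_g, mul_assoc, F.z_comm_a, ← mul_assoc]

/-- The fourth root. -/
theorem quarter_sq : g ^ (m : ℤ) * g ^ (m : ℤ) = z := by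
  rw [← zpow_add, ← F.half, two_mul]

/-- An element of the factor squaring into `⟨z⟩`. -/
theorem sq_cases {i : ℤ} (h : g ^ i * g ^ i = 1 ∨ g ^ i * g ^ i = z) :
    ∃ e : ℤ, g ^ i = g ^ (e * m) := by
  obtain ⟨d, hd⟩ : (2 * m : ℤ) ∣ 2 * i := by
    rw [← zpow_add] at h
    rcases h with h | h
    · obtain ⟨c, hc⟩ := F.zpow_one_iff.1 h
      exact ⟨2 * c, by linear_combination hc⟩
    · rw [← F.half] at h
      obtain ⟨c, hc⟩ := F.zpow_eq.1 h
      exact ⟨1 - 2 * c, by linear_combination (-1 : ℤ) * hc⟩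
  exact ⟨d, by rw [show i = d * m by linarith [hd]]⟩

/-- Its odd multiples move `g` to a generator. -/
theorem odd_ne {r : ℤ} (hr : ¬ 2 ∣ r) : g ^ r ≠ 1 ∧ g ^ r ≠ z := by
  refine ⟨fun h => hr ?_, fun h => hr ?_⟩
  · exact dvd_trans ⟨2 * m, by ring⟩ (F.zpow_one_iff.1 h)
  · rw [← F.half] at h
    obtain ⟨c, hc⟩ := F.zpow_eq.1 h
    exact ⟨m - 2 * m * c, by linear_combination (-1 : ℤ) * hc⟩

/-- Conjugates of an outer element inside the factor. -/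
theorem conj_outer {x : X} (hx : x ∈ F.Q) (i : ℤ) :
    ∃ t : ℤ, 2 ∣ t - i ∧ x * (g ^ i * a) * x⁻¹ = g ^ t * a := by
  obtain ⟨j, rfl | rfl⟩ := hx
  · refine ⟨2 * j + i, ⟨j, by ring⟩, ?_⟩
    rw [← mul_assoc, ← zpow_add, mul_assoc, ← zpow_neg, F.a_mul, neg_neg, ← mul_assoc, ← zpow_add]
    ring_nf
  · refine ⟨2 * j - i, ⟨j - i, by ring⟩, ?_⟩
    rw [mul_inv_rev, show g ^ j * a * (g ^ i * a) * (a⁻¹ * (g ^ j)⁻¹) = g ^ j * (a * g ^ i) * (g ^ j)⁻¹ by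
        simp only [mul_assoc, mul_inv_cancel_left],
      F.a_mul, ← mul_assoc, ← zpow_add, mul_assoc, ← zpow_neg, F.a_mul, neg_neg, ← mul_assoc, ← zpow_add]
    ring_nf

/-- The elements of the factor moving an outer element at most by `z`. -/
theorem cent_outer {x : X} (hx : x ∈ F.Q) {i : ℤ}
    (h : x * (g ^ i * a) * x⁻¹ = g ^ i * a ∨ x * (g ^ i * a) * x⁻¹ = g ^ i * a * z) :
    ∃ e : ℤ, x = g ^ (e * m) ∨ x = g ^ (e * m) * (g ^ i * a) := by
  obtain ⟨j, rfl | rfl⟩ := hx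
  · have e1 : g ^ j * (g ^ i * a) * (g ^ j)⁻¹ = g ^ (2 * j + i) * a := by
      rw [← mul_assoc, ← zpow_add, mul_assoc, ← zpow_neg, F.a_mul, neg_neg, ← mul_assoc, ← zpow_add]
      ring_nf
    rw [e1, mul_assoc _ a, ← F.z_comm_a, ← mul_assoc, ← F.half, ← zpow_add, F.a_zpow_eq, F.a_zpow_eq] at h
    obtain ⟨e, he⟩ := F.sq_cases (i := j) (by
      rw [← zpow_add, ← F.half, F.zpow_one_iff, F.zpow_eq]
      rcases h with ⟨c, hc⟩ | ⟨c, hc⟩
      · exact Or.inl ⟨-c, by linear_combination (-1 : ℤ) * hc⟩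
      · exact Or.inr ⟨c, by linear_combination hc⟩)
    exact ⟨e, Or.inl he⟩
  · have e1 : g ^ j * a * (g ^ i * a) * (g ^ j * a)⁻¹ = g ^ (2 * j - i) * a := by
      rw [mul_inv_rev, show g ^ j * a * (g ^ i * a) * (a⁻¹ * (g ^ j)⁻¹) = g ^ j * (a * g ^ i) * (g ^ j)⁻¹ by
          simp only [mul_assoc, mul_inv_cancel_left],
        F.a_mul, ← mul_assoc, ← zpow_add, mul_assoc, ← zpow_neg, F.a_mul, neg_neg, ← mul_assoc, ← zpow_add]
      ring_nf
    rw [e1, mul_assoc _ a, ← F.z_comm_a, ← mul_assoc, ← F.half, ← zpow_add, F.a_zpow_eq, F.a_zpow_eq] at h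
    obtain ⟨e, he⟩ := F.sq_cases (i := j - i) (by
      rw [← zpow_add, ← F.half, F.zpow_one_iff, F.zpow_eq]
      rcases h with ⟨c, hc⟩ | ⟨c, hc⟩
      · exact Or.inl ⟨-c, by linear_combination (-1 : ℤ) * hc⟩
      · exact Or.inr ⟨c, by linear_combination hc⟩)
    exact ⟨e, Or.inr (by rw [← mul_assoc, ← he, ← zpow_add, sub_add_cancel])⟩

end Fac

end Cfsg.Agent.G2Sylow
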