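import Cfsg.Agent.Lib.G2Sylow.Factor
import Mathlib.SetTheory.Cardinal.Finite
import Mathlib.Data.Set.Card
import Mathlib.GroupTheory.Coset.Card
import Mathlib.Tactic.IntervalCases
import Mathlib.Tactic.FinCases
import Mathlib.Data.Fintype.Pi
import Mathlib.Data.Fintype.Prod
import Mathlib.GroupTheory.PGroup
import Mathlib.RingTheory.Coprime.Lemmas

/-!
The shape of a Sylow 2-subgroup of `G₂(q)`, `q` odd, and its involutions.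
-/

set_option autoImplicit false
set_option linter.unusedSectionVars false

namespace Cfsg.Agent.G2Sylow

/-- Two quaternion factors glued at `z`, and `w` moving an outer element of each by an odd power. -/
structure Shape (X : Type*) [Group X] (m : ℕ) (z g₁ a₁ g₂ a₂ w : X) : Prop where
  F₁ : Fac m z g₁ a₁
  F₂ : Fac m z g₂ a₂
  comm : ∀ x ∈ F₁.Q, ∀ y ∈ F₂.Q, x * y = y * x
  cap : ∀ x ∈ F₁.Q, x ∈ F₂.Q → x = 1 ∨ x = z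
  conj₁ : ∃ k r : ℤ, ¬ 2 ∣ r ∧ w * g₁ * w⁻¹ = g₁ ^ k ∧ w * a₁ * w⁻¹ = g₁ ^ r * a₁
  conj₂ : ∃ k r : ℤ, ¬ 2 ∣ r ∧ w * g₂ * w⁻¹ = g₂ ^ k ∧ w * a₂ * w⁻¹ = g₂ ^ r * a₂
  str : (∃ k : ℤ, (k = 1 ∨ k = -1) ∧ w * g₁ * w⁻¹ = g₁ ^ k) ∧
    ∃ k : ℤ, (k = 1 ∨ k = -1) ∧ w * g₂ * w⁻¹ = g₂ ^ k
  decomp : ∀ x : X, ∃ p ∈ F₁.Q, ∃ q ∈ F₂.Q, x = p * q ∨ x = p * q * w
  out : ∀ p ∈ F₁.Q, ∀ q ∈ F₂.Q, w ≠ p * q
  card : Nat.card X = (8 * m) ^ 2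
  two : IsPGroup 2 X

variable {X : Type*} [Group X] [Finite X] {m : ℕ} {z g₁ a₁ g₂ a₂ w : X}

namespace Shape

variable (D : Shape X m z g₁ a₁ g₂ a₂ w)
include D

theorem swap : Shape X m z g₂ a₂ g₁ a₁ w where
  F₁ := D.F₂
  F₂ := D.F₁
  comm x hx y hy := (D.comm y hy x hx).symm
  cap x hx hx' := D.cap x hx' hx
  conj₁ := D.conj₂
  conj₂ := D.conj₁
  str := ⟨D.str.2, D.str.1⟩
  decomp x := by
    obtain ⟨p, hp, q, hq, h | h⟩ := D.decomp x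
    · exact ⟨q, hq, p, hp, Or.inl (by rw [h, D.comm p hp q hq])⟩
    · exact ⟨q, hq, p, hp, Or.inr (by rw [h, D.comm p hp q hq])⟩
  out p hp q hq := (D.comm q hq p hp) ▸ D.out q hq p hp
  card := D.card
  two := D.two

/-- The product of the factors. -/
def S₀ : Subgroup X where
  carrier := {x | ∃ p ∈ D.F₁.Q, ∃ q ∈ D.F₂.Q, x = p * q}
  one_mem' := ⟨1, one_mem _, 1, one_mem _, (one_mul 1).symm⟩
  mul_mem' := by
    rintro x y ⟨p, hp, q, hq, rfl⟩ ⟨p', hp', q', hq', rfl⟩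
    exact ⟨p * p', mul_mem hp hp', q * q', mul_mem hq hq', by
      rw [mul_assoc, ← mul_assoc q, ← D.comm p' hp' q hq, mul_assoc p' q q', ← mul_assoc p]⟩
  inv_mem' := by
    rintro x ⟨p, hp, q, hq, rfl⟩
    exact ⟨p⁻¹, inv_mem hp, q⁻¹, inv_mem hq, by
      rw [D.comm p hp q hq, mul_inv_rev, D.comm p⁻¹ (inv_mem hp) q⁻¹ (inv_mem hq)]⟩

theorem mem_S₀ {x : X} : x ∈ D.S₀ ↔ ∃ p ∈ D.F₁.Q, ∃ q ∈ D.F₂.Q, x = p * q := Iff.rfl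

theorem Q₁_le {p : X} (hp : p ∈ D.F₁.Q) : p ∈ D.S₀ := ⟨p, hp, 1, one_mem _, (mul_one p).symm⟩

theorem Q₂_le {q : X} (hq : q ∈ D.F₂.Q) : q ∈ D.S₀ := ⟨1, one_mem _, q, hq, (one_mul q).symm⟩

theorem w_out : w ∉ D.S₀ := fun ⟨p, hp, q, hq, h⟩ => D.out p hp q hq h

theorem mem_or (x : X) : x ∈ D.S₀ ∨ x * w⁻¹ ∈ D.S₀ := by
  obtain ⟨p, hp, q, hq, h | h⟩ := D.decomp x
  · exact Or.inl ⟨p, hp, q, hq, h⟩
  · exact Or.inr ⟨p, hp, q, hq, by rw [h, mul_inv_cancel_right]⟩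

theorem index_two : D.S₀.index = 2 := by
  rw [Subgroup.index_eq_two_iff]
  refine ⟨w⁻¹, fun b => ?_⟩
  by_cases hb : b ∈ D.S₀
  · exact Or.inr ⟨hb, fun h => D.w_out (inv_mem_iff.1 ((D.S₀.mul_mem_cancel_left hb).1 h))⟩
  · exact Or.inl ⟨(D.mem_or b).resolve_left hb, hb⟩

theorem z_central (x : X) : z * x = x * z := by
  have hw : w * z * w⁻¹ = z := by
    obtain ⟨k, -, -, hk, -⟩ := D.conj₁
    have h1 : w * z * w⁻¹ = g₁ ^ (k * (2 * m)) := by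
      rw [← D.F₁.half, ← _root_.conj_zpow, hk, ← zpow_mul]
    have hne : w * z * w⁻¹ ≠ 1 := fun e => D.F₁.z_ne (conj_eq_one_iff.1 e)
    rcases Int.even_or_odd' k with ⟨c, rfl | rfl⟩
    · refine absurd ?_ hne
      rw [h1, D.F₁.zpow_one_iff]
      exact ⟨c, by ring⟩
    · rw [h1, ← D.F₁.half, D.F₁.zpow_eq]
      exact ⟨-c, by ring⟩
  have hw' : z * w = w * z := (mul_inv_eq_iff_eq_mul.1 hw).symm
  obtain ⟨p, hp, q, hq, h | h⟩ := D.decomp x <;> subst h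
  · rw [← mul_assoc, D.F₁.z_comm hp, mul_assoc, D.F₂.z_comm hq, ← mul_assoc]
  · rw [← mul_assoc, ← mul_assoc, D.F₁.z_comm hp, mul_assoc p z q, D.F₂.z_comm hq,
      ← mul_assoc p q z, mul_assoc _ z w, hw', ← mul_assoc]

/-- The factor parts are unique modulo `z`. -/
theorem uniq {p p' q q' : X} (hp : p ∈ D.F₁.Q) (hp' : p' ∈ D.F₁.Q) (hq : q ∈ D.F₂.Q) (hq' : q' ∈ D.F₂.Q)
    (h : p * q = p' * q') : (p' = p ∧ q' = q) ∨ (p' = p * z ∧ q' = q * z) := by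
  have h1 : p⁻¹ * p' = q * q'⁻¹ := by
    rw [inv_mul_eq_iff_eq_mul, ← mul_assoc, h, mul_inv_cancel_right]
  rcases D.cap _ (mul_mem (inv_mem hp) hp') (h1 ▸ mul_mem hq (inv_mem hq')) with e | e
  · exact Or.inl ⟨(inv_mul_eq_one.1 e).symm, (mul_inv_eq_one.1 (h1 ▸ e)).symm⟩
  · refine Or.inr ⟨inv_mul_eq_iff_eq_mul.1 e, ?_⟩
    have h2 := mul_inv_eq_iff_eq_mul.1 (h1 ▸ e)
    rw [h2, D.z_central q', mul_assoc, D.F₁.z_sq, mul_one]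

theorem conj_mul {x : X} {p q p' q' : X} (hp : x * p * x⁻¹ = p') (hq : x * q * x⁻¹ = q') :
    x * (p * q) * x⁻¹ = p' * q' := by
  rw [← hp, ← hq]; group

/-- An element outside `S₀` moves the outer elements of a factor by odd powers. -/
theorem out_conj₁ {x : X} (hx : x ∉ D.S₀) :
    ∃ k : ℤ, ¬ 2 ∣ k ∧ x * g₁ * x⁻¹ = g₁ ^ k ∧
      ∀ i : ℤ, ∃ t : ℤ, ¬ 2 ∣ t - i ∧ x * (g₁ ^ i * a₁) * x⁻¹ = g₁ ^ t * a₁ := by
  obtain ⟨k, r, hr, hk, hra⟩ := D.conj₁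
  have hkodd : ¬ 2 ∣ k := by
    rintro ⟨c, rfl⟩
    have h1 : w * g₁ ^ (2 * (m : ℤ)) * w⁻¹ = 1 := by
      rw [← _root_.conj_zpow, hk, ← zpow_mul, D.F₁.zpow_one_iff]
      exact ⟨c, by ring⟩
    rw [D.F₁.half, conj_eq_one_iff] at h1
    exact D.F₁.z_ne h1
  obtain ⟨p, hp, q, hq, h⟩ := (D.mem_or x).resolve_left hx
  obtain rfl : x = p * q * w := by rw [← h, inv_mul_cancel_right]
  have hqc : ∀ y ∈ D.F₁.Q, q * y * q⁻¹ = y := fun y hy => by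
    rw [← D.comm y hy q hq, mul_inv_cancel_right]
  have e : ∀ y : X, w * y * w⁻¹ ∈ D.F₁.Q → p * q * w * y * (p * q * w)⁻¹ = p * (w * y * w⁻¹) * p⁻¹ :=
    fun y hy => by
      calc p * q * w * y * (p * q * w)⁻¹ = p * (q * (w * y * w⁻¹) * q⁻¹) * p⁻¹ := by group
        _ = _ := by rw [hqc _ hy]
  have hg : p * q * w * g₁ * (p * q * w)⁻¹ = p * g₁ ^ k * p⁻¹ := by
    rw [e g₁ (hk ▸ D.F₁.g_mem k), hk]
  have ha : ∀ i : ℤ, ∃ t : ℤ, ¬ 2 ∣ t - i ∧ p * q * w * (g₁ ^ i * a₁) * (p * q * w)⁻¹ = g₁ ^ t * a₁ := by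
    intro i
    have h1 : w * (g₁ ^ i * a₁) * w⁻¹ = g₁ ^ (k * i + r) * a₁ := by
      rw [D.conj_mul (p' := g₁ ^ (k * i)) (q' := g₁ ^ r * a₁) (by rw [← _root_.conj_zpow, hk, ← zpow_mul]) hra,
        ← mul_assoc, ← zpow_add]
    obtain ⟨t, ht, he⟩ := D.F₁.conj_outer hp (k * i + r)
    refine ⟨t, fun h2 => hr ?_, by rw [e _ (h1 ▸ D.F₁.outer_mem _), h1, he]⟩
    obtain ⟨c, hc⟩ := ht
    obtain ⟨d, hd⟩ := h2
    obtain ⟨k', hk'⟩ : 2 ∣ k - 1 := by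
      rcases Int.even_or_odd' k with ⟨c', rfl | rfl⟩
      · exact absurd ⟨c', rfl⟩ hkodd
      · exact ⟨c', by ring⟩
    exact ⟨d - c - k' * i, by linear_combination hd - hc - i * hk'⟩
  obtain ⟨j, rfl | rfl⟩ := hp
  · exact ⟨k, hkodd, by rw [hg, ← zpow_neg, ← zpow_add, ← zpow_add]; ring_nf, ha⟩
  · refine ⟨-k, fun h' => hkodd ((dvd_neg).1 h'), ?_, ha⟩
    rw [hg, mul_inv_rev, show g₁ ^ j * a₁ * g₁ ^ k * (a₁⁻¹ * (g₁ ^ j)⁻¹) =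
      g₁ ^ j * (a₁ * g₁ ^ k * a₁⁻¹) * (g₁ ^ j)⁻¹ by group, D.F₁.conj_zpow, ← zpow_neg, ← zpow_add, ← zpow_add]
    ring_nf

/-- An involution outside `S₀` inverts the cyclic part. -/
theorem out_invol_inv {x : X} (hx : x ∉ D.S₀) (hxx : x * x = 1) (i : ℤ) :
    x * g₁ ^ i * x⁻¹ = g₁ ^ (-i) := by
  obtain ⟨k, hk, hg, hout⟩ := D.out_conj₁ hx
  obtain ⟨t, ht, hta⟩ := hout 0
  rw [zpow_zero, one_mul] at hta
  have ht' : ¬ 2 ∣ t := by simpa using ht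
  have h2 : x * (x * a₁ * x⁻¹) * x⁻¹ = a₁ := by
    rw [show x * (x * a₁ * x⁻¹) * x⁻¹ = x * x * a₁ * (x * x)⁻¹ by group, hxx, one_mul, inv_one, mul_one]
  rw [hta, D.conj_mul (p' := g₁ ^ (k * t)) (q' := g₁ ^ t * a₁) (by rw [← _root_.conj_zpow, hg, ← zpow_mul]) hta,
    ← mul_assoc, ← zpow_add] at h2
  have h3 : (4 * m : ℤ) ∣ (k * t + t) := D.F₁.zpow_one_iff.1 (mul_eq_right.1 h2)
  have hcop : IsCoprime (4 * (m : ℤ)) t := by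
    obtain ⟨n, hn⟩ : ∃ n : ℕ, 4 * m = 2 ^ n := by
      obtain ⟨n, hn⟩ := D.two g₁
      obtain ⟨j, -, hj⟩ := (Nat.dvd_prime_pow Nat.prime_two).1 (orderOf_dvd_of_pow_eq_one hn)
      exact ⟨j, by rw [← D.F₁.ord, hj]⟩
    have h4 : (4 * m : ℤ) = (2 : ℤ) ^ n := by exact_mod_cast hn
    rw [h4]
    refine IsCoprime.pow_left ?_
    rcases Int.even_or_odd' t with ⟨c, rfl | rfl⟩
    · exact absurd ⟨c, rfl⟩ ht'
    · exact ⟨-c, 1, by ring⟩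
  have h4 : (4 * m : ℤ) ∣ k + 1 := hcop.dvd_of_dvd_mul_right (by rwa [add_mul, one_mul])
  rw [← _root_.conj_zpow, hg, ← zpow_mul, D.F₁.zpow_eq]
  obtain ⟨c, hc⟩ := h4
  exact ⟨-(c * i), by linear_combination (-i) * hc⟩

/-! ### The central four-group -/

/-- The product of the fourth roots. -/
def u (_D : Shape X m z g₁ a₁ g₂ a₂ w) : X := g₁ ^ (m : ℤ) * g₂ ^ (m : ℤ)

/-- `x` lies in `⟨z, u⟩`. -/
def InU (x : X) : Prop := x = 1 ∨ x = z ∨ x = D.u ∨ x = D.u * z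

theorem g_comm (i j : ℤ) : g₁ ^ i * g₂ ^ j = g₂ ^ j * g₁ ^ i :=
  D.comm _ (D.F₁.g_mem i) _ (D.F₂.g_mem j)

theorem u_sq : D.u * D.u = 1 := by
  rw [u, mul_assoc, ← mul_assoc (g₂ ^ (m : ℤ)), ← D.g_comm m m, mul_assoc (g₁ ^ (m : ℤ)) _ (g₂ ^ (m : ℤ)),
    D.F₂.quarter_sq, ← mul_assoc, D.F₁.quarter_sq, D.F₁.z_sq]

theorem g_quarter (e : ℤ) : g₁ ^ (e * m) = 1 ∨ g₁ ^ (e * m) = z ∨ g₁ ^ (e * m) = g₁ ^ (m : ℤ) ∨
    g₁ ^ (e * m) = g₁ ^ (m : ℤ) * z := by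
  obtain ⟨c, hc⟩ : ∃ c, e = 4 * c + e % 4 := ⟨e / 4, (Int.mul_ediv_add_emod e 4).symm⟩
  have h0 : g₁ ^ (e * m) = g₁ ^ ((e % 4) * m) := by
    rw [D.F₁.zpow_eq]
    exact ⟨-c, by linear_combination (-(m : ℤ)) * hc⟩
  rw [h0]
  have h1 := Int.emod_nonneg e (show (4 : ℤ) ≠ 0 by norm_num)
  have h2 := Int.emod_lt_of_pos e (show (0 : ℤ) < 4 by norm_num)
  interval_cases e % 4
  · exact Or.inl (by rw [zero_mul, zpow_zero])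
  · exact Or.inr (Or.inr (Or.inl (by rw [one_mul])))
  · exact Or.inr (Or.inl D.F₁.half)
  · refine Or.inr (Or.inr (Or.inr ?_))
    rw [← D.F₁.half, ← zpow_add]; ring_nf

/-- Both parts inner fourth roots or both in `⟨z⟩`: in `⟨z, u⟩`. -/
theorem inU_of_inner {i j : ℤ} (h : g₁ ^ i * g₂ ^ j * (g₁ ^ i * g₂ ^ j) = 1) : D.InU (g₁ ^ i * g₂ ^ j) := by
  rw [mul_assoc, ← mul_assoc (g₂ ^ j), ← D.g_comm i j, mul_assoc (g₁ ^ i) (g₂ ^ j) (g₂ ^ j), ← mul_assoc] at h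
  have hcap : g₁ ^ i * g₁ ^ i = 1 ∨ g₁ ^ i * g₁ ^ i = z :=
    D.cap _ (mul_mem (D.F₁.g_mem i) (D.F₁.g_mem i))
      (mul_eq_one_iff_eq_inv.1 h ▸ inv_mem (mul_mem (D.F₂.g_mem j) (D.F₂.g_mem j)))
  have h2 : g₂ ^ j * g₂ ^ j = g₁ ^ i * g₁ ^ i := by
    rw [mul_eq_one_iff_inv_eq.1 h |>.symm]
    rcases hcap with e | e <;> rw [e]
    · exact inv_one
    · exact D.F₁.z_inv
  obtain ⟨e, he⟩ := D.F₁.sq_cases hcap
  obtain ⟨f, hf⟩ := D.F₂.sq_cases (h2 ▸ hcap)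
  rw [he, hf] at h2 ⊢
  have hz : z * z = 1 := D.F₁.z_sq
  have hzc := D.z_central
  have hsq₁ := D.F₁.quarter_sq
  have hsq₂ := D.F₂.quarter_sq
  have hzne := D.F₁.z_ne
  have hq : ∀ y : X, y * z * (y * z) = y * y := fun y => by
    rw [mul_assoc, ← mul_assoc z y, hzc y, mul_assoc y z z, hz, mul_one]
  have e3 : g₁ ^ (m : ℤ) * z * g₂ ^ (m : ℤ) = D.u * z := by rw [u, mul_assoc, hzc, ← mul_assoc]
  have e4 : g₁ ^ (m : ℤ) * z * (g₂ ^ (m : ℤ) * z) = D.u := by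
    rw [← mul_assoc, e3, mul_assoc, hz, mul_one]
  have e5 : g₁ ^ (m : ℤ) * (g₂ ^ (m : ℤ) * z) = D.u * z := (mul_assoc _ _ _).symm
  rcases D.g_quarter e with e1 | e1 | e1 | e1 <;> rcases D.swap.g_quarter f with e2 | e2 | e2 | e2 <;>
    rw [e1, e2] at h2 ⊢ <;> simp only [hq, hz, hsq₁, hsq₂, mul_one, one_mul] at h2 <;>
    first
      | exact absurd h2 hzne
      | exact absurd h2.symm hzne
      | exact Or.inl (one_mul 1)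
      | exact Or.inl hz
      | exact Or.inr (Or.inl (one_mul z))
      | exact Or.inr (Or.inl (mul_one z))
      | exact Or.inr (Or.inr (Or.inl rfl))
      | exact Or.inr (Or.inr (Or.inl e4))
      | exact Or.inr (Or.inr (Or.inr e3))
      | exact Or.inr (Or.inr (Or.inr e5))

theorem inU_mem {x : X} (h : D.InU x) : x ∈ D.S₀ ∧ ∃ i j : ℤ, x = g₁ ^ i * g₂ ^ j := by
  have key : ∀ i j : ℤ, g₁ ^ i * g₂ ^ j ∈ D.S₀ := fun i j => ⟨_, D.F₁.g_mem i, _, D.F₂.g_mem j, rfl⟩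
  rcases h with rfl | rfl | rfl | rfl
  · exact ⟨one_mem _, 0, 0, by simp⟩
  · exact ⟨D.Q₁_le D.F₁.z_mem, 2 * m, 0, by rw [zpow_zero, mul_one, D.F₁.half]⟩
  · exact ⟨key m m, m, m, rfl⟩
  · refine ⟨mul_mem (key m m) (D.Q₁_le D.F₁.z_mem), m, m + 2 * m, ?_⟩
    rw [u, mul_assoc, zpow_add (g₂), D.F₂.half]

/-- An involution outside `S₀` centralises only `⟨z, u⟩` there. -/
theorem out_cent {x c : X} (hx : x ∉ D.S₀) (hxx : x * x = 1) (hc : c ∈ D.S₀) (h : c * x = x * c) :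
    D.InU c := by
  obtain ⟨p, hp, q, hq, rfl⟩ := hc
  have hc' : x * (p * q) * x⁻¹ = p * q := by rw [← h, mul_inv_cancel_right]
  obtain ⟨k, -, hg, hout⟩ := D.out_conj₁ hx
  obtain ⟨k', -, hg', hout'⟩ := D.swap.out_conj₁ (x := x) (fun h' => hx (by
    obtain ⟨a, ha, b, hb, e⟩ := h'
    exact ⟨b, hb, a, ha, e.trans (D.comm b hb a ha).symm⟩))
  have hxQ : ∀ y ∈ D.F₁.Q, x * y * x⁻¹ ∈ D.F₁.Q := fun y hy => by
    obtain ⟨i, rfl | rfl⟩ := hy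
    · exact ⟨k * i, Or.inl (by rw [← _root_.conj_zpow, hg, ← zpow_mul])⟩
    · obtain ⟨t, -, e⟩ := hout i
      exact ⟨t, Or.inr e⟩
  have hxQ' : ∀ y ∈ D.F₂.Q, x * y * x⁻¹ ∈ D.F₂.Q := fun y hy => by
    obtain ⟨i, rfl | rfl⟩ := hy
    · exact ⟨k' * i, Or.inl (by rw [← _root_.conj_zpow, hg', ← zpow_mul])⟩
    · obtain ⟨t, -, e⟩ := hout' i
      exact ⟨t, Or.inr e⟩
  rw [D.conj_mul rfl rfl] at hc'
  have hu := D.uniq hp (hxQ p hp) hq (hxQ' q hq) hc'.symm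
  have inner : ∀ {g a : X} (F : Fac m z g a),
      (∀ i : ℤ, ∃ t : ℤ, ¬ 2 ∣ t - i ∧ x * (g ^ i * a) * x⁻¹ = g ^ t * a) → ∀ {y : X}, y ∈ F.Q →
      (x * y * x⁻¹ = y ∨ x * y * x⁻¹ = y * z) → ∃ i : ℤ, y = g ^ i := by
    intro g a F ho y hy hy'
    obtain ⟨i, rfl | rfl⟩ := hy
    · exact ⟨i, rfl⟩
    · exfalso
      obtain ⟨t, ht, e⟩ := ho i
      rw [e, mul_assoc _ a, ← F.z_comm_a, ← mul_assoc, ← F.half, ← zpow_add, F.a_zpow_eq, F.a_zpow_eq] at hy'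
      rcases hy' with ⟨c, hc⟩ | ⟨c, hc⟩
      · exact ht ⟨-(2 * m * c), by linear_combination (-1 : ℤ) * hc⟩
      · exact ht ⟨m - 2 * m * c, by linear_combination (-1 : ℤ) * hc⟩
  obtain ⟨i, rfl⟩ := inner D.F₁ hout hp (hu.imp (·.1) (·.1))
  obtain ⟨j, rfl⟩ := inner D.F₂ hout' hq (hu.imp (·.2) (·.2))
  refine D.inU_of_inner ?_
  have hi := D.out_invol_inv hx hxx i
  have hj := D.swap.out_invol_inv (x := x) (fun h' => hx (by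
    obtain ⟨a, ha, b, hb, e⟩ := h'
    exact ⟨b, hb, a, ha, e.trans (D.comm b hb a ha).symm⟩)) hxx j
  rw [hi, hj, zpow_neg, zpow_neg, ← mul_inv_rev, ← D.g_comm i j] at hc'
  exact mul_eq_one_iff_eq_inv.2 hc'.symm

/-- Involutions of `S₀` outside `⟨z, u⟩`: both parts square to `z`. -/
theorem invol_split {x : X} (hx : x ∈ D.S₀) (hxx : x * x = 1) (hU : ¬ D.InU x) :
    ∃ p ∈ D.F₁.Q, ∃ q ∈ D.F₂.Q, x = p * q ∧ p * p = z ∧ q * q = z ∧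
      ((∃ i : ℤ, p = g₁ ^ i * a₁) ∨ ∃ i : ℤ, q = g₂ ^ i * a₂) := by
  obtain ⟨p, hp, q, hq, rfl⟩ := hx
  have hz2 := D.F₁.z_sq
  have h1 : p * p * (q * q) = 1 := by
    rw [← hxx, mul_assoc p q (p * q), ← mul_assoc q p q, ← D.comm p hp q hq, mul_assoc p q q,
      ← mul_assoc p p]
  rcases D.F₁.mem_Q.1 hp with ⟨i, rfl | rfl⟩ <;> rcases D.F₂.mem_Q.1 hq with ⟨j, rfl | rfl⟩
  · exact absurd (D.inU_of_inner hxx) hU
  · rw [D.F₂.outer_sq, mul_eq_one_iff_eq_inv, D.F₁.z_inv] at h1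
    exact ⟨_, hp, _, hq, rfl, h1, D.F₂.outer_sq j, Or.inr ⟨j, rfl⟩⟩
  · rw [D.F₁.outer_sq, mul_eq_one_iff_inv_eq, D.F₁.z_inv] at h1
    exact ⟨_, hp, _, hq, rfl, D.F₁.outer_sq i, h1.symm, Or.inl ⟨i, rfl⟩⟩
  · exact ⟨_, hp, _, hq, rfl, D.F₁.outer_sq i, D.F₂.outer_sq j, Or.inl ⟨i, rfl⟩⟩

/-- The square of an element outside `S₀` has no outer part. -/
theorem sq_no_outer {y : X} (hy : y ∉ D.S₀) {q : X} (hq : q ∈ D.F₂.Q) {i : ℤ}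
    (e : y * y = g₁ ^ i * a₁ * q) : False := by
  obtain ⟨k, hk, hg, -⟩ := D.out_conj₁ hy
  have h1 : y * y * g₁ * (y * y)⁻¹ = g₁ ^ (k * k) := by
    rw [show y * y * g₁ * (y * y)⁻¹ = y * (y * g₁ * y⁻¹) * y⁻¹ by group, hg, ← _root_.conj_zpow, hg,
      ← zpow_mul]
  have hgq : q * g₁ * q⁻¹ = g₁ := by
    rw [← D.comm g₁ (by simpa using D.F₁.g_mem 1) q hq, mul_inv_cancel_right]
  have h2 : y * y * g₁ * (y * y)⁻¹ = g₁⁻¹ := by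
    rw [e, show g₁ ^ i * a₁ * q * g₁ * (g₁ ^ i * a₁ * q)⁻¹ =
      g₁ ^ i * (a₁ * (q * g₁ * q⁻¹) * a₁⁻¹) * (g₁ ^ i)⁻¹ by group, hgq, D.F₁.inv]
    group
  rw [h1, ← zpow_neg_one, D.F₁.zpow_eq] at h2
  obtain ⟨c, hc⟩ := h2
  rcases Int.even_or_odd' k with ⟨d, rfl | rfl⟩
  · exact hk ⟨d, rfl⟩
  · have h3 : 2 * (d * d + d + m * c) = -1 := by linarith
    omega

theorem not_mem_swap {y : X} (hy : y ∉ D.S₀) : y ∉ D.swap.S₀ := fun ⟨b, hb, c, hc', e'⟩ =>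
  hy ⟨c, hc', b, hb, e'.trans (D.comm c hc' b hb).symm⟩

/-- The square of an element outside `S₀` is inner in both factors. -/
theorem sq_inner {y : X} (hy : y ∉ D.S₀) : ∃ i j : ℤ, y * y = g₁ ^ i * g₂ ^ j := by
  obtain ⟨p, hp, q, hq, e⟩ := Subgroup.mul_self_mem_of_index_two D.index_two y
  obtain ⟨i, rfl | rfl⟩ := hp
  · obtain ⟨j, rfl | rfl⟩ := hq
    · exact ⟨i, j, e⟩
    · exact (D.swap.sq_no_outer (D.not_mem_swap hy) (D.F₁.g_mem i)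
        (e.trans (D.comm _ (D.F₁.g_mem i) _ (D.F₂.outer_mem j)))).elim
  · exact (D.sq_no_outer hy hq e).elim

/-- A square which is an involution lies in `⟨z, u⟩`. -/
theorem sq_inU {y : X} (h : y * y * (y * y) = 1) : D.InU (y * y) := by
  by_cases hy : y ∈ D.S₀
  · obtain ⟨p, hp, q, hq, rfl⟩ := hy
    have e : p * q * (p * q) = p * p * (q * q) := by
      rw [mul_assoc p q, ← mul_assoc q, ← D.comm p hp q hq, mul_assoc p q q, ← mul_assoc]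
    rw [e] at h ⊢
    have inner : ∀ {g a : X} (F : Fac m z g a) {y : X}, y ∈ F.Q → ∃ i : ℤ, y * y = g ^ i := by
      intro g a F y hy
      obtain ⟨i, rfl | rfl⟩ := hy
      · exact ⟨i + i, (zpow_add g i i).symm⟩
      · exact ⟨2 * m, by rw [F.outer_sq, F.half]⟩
    obtain ⟨i, hi⟩ := inner D.F₁ hp
    obtain ⟨j, hj⟩ := inner D.F₂ hq
    rw [hi, hj] at h ⊢
    exact D.inU_of_inner h
  · obtain ⟨i, j, e⟩ := D.sq_inner hy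
    rw [e] at h ⊢
    exact D.inU_of_inner h

end Shape

end Cfsg.Agent.G2Sylow
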