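import Cfsg.Agent.Lib.G2Sylow.Shape

/-!
An element outside `S₀` centralising both cyclic parts.
-/

set_option autoImplicit false
set_option linter.unusedSectionVars false

namespace Cfsg.Agent.G2Sylow

variable {X : Type*} [Group X] [Finite X] {m : ℕ} {z g₁ a₁ g₂ a₂ w : X}

namespace Shape

/-- `h` centralises `g₁` and `g₂` and moves `a₁`, `a₂` by odd powers. -/
structure Tw (D : Shape X m z g₁ a₁ g₂ a₂ w) (h : X) (r₁ r₂ i j : ℤ) : Prop where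
  out : h ∉ D.S₀
  c₁ : ∀ s : ℤ, h * g₁ ^ s = g₁ ^ s * h
  c₂ : ∀ s : ℤ, h * g₂ ^ s = g₂ ^ s * h
  a₁' : h * a₁ * h⁻¹ = g₁ ^ r₁ * a₁
  a₂' : h * a₂ * h⁻¹ = g₂ ^ r₂ * a₂
  sq : h * h = g₁ ^ i * g₂ ^ j
  i_odd : ¬ 2 ∣ i
  j_odd : ¬ 2 ∣ j
  i_r : (2 * m : ℤ) ∣ i - r₁
  j_r : (2 * m : ℤ) ∣ j - r₂

variable (D : Shape X m z g₁ a₁ g₂ a₂ w)
include D

/-- Outer elements of the first factor fix the second. -/
theorem a₁_fix {y : X} (hy : y ∈ D.F₂.Q) : a₁ * y * a₁⁻¹ = y := by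
  rw [D.comm _ D.F₁.a_mem _ hy, mul_inv_cancel_right]

/-- Correcting the action on the first cyclic part. -/
theorem fix₁ {x : X} (hx : x ∉ D.S₀) {k r k' r' : ℤ} (hk : k = 1 ∨ k = -1) (hr : ¬ 2 ∣ r)
    (h1 : x * g₁ * x⁻¹ = g₁ ^ k) (h2 : x * a₁ * x⁻¹ = g₁ ^ r * a₁) (h3 : x * g₂ * x⁻¹ = g₂ ^ k')
    (h4 : x * a₂ * x⁻¹ = g₂ ^ r' * a₂) :
    ∃ (y : X) (s : ℤ), y ∉ D.S₀ ∧ ¬ 2 ∣ s ∧ y * g₁ * y⁻¹ = g₁ ∧ y * a₁ * y⁻¹ = g₁ ^ s * a₁ ∧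
      y * g₂ * y⁻¹ = g₂ ^ k' ∧ y * a₂ * y⁻¹ = g₂ ^ r' * a₂ := by
  rcases hk with rfl | rfl
  · exact ⟨x, r, hx, hr, by rw [h1, zpow_one], h2, h3, h4⟩
  · refine ⟨a₁ * x, -r, fun h => hx ((D.S₀.mul_mem_cancel_left (D.Q₁_le D.F₁.a_mem)).1 h),
      fun h => hr (dvd_neg.1 h), ?_, ?_, ?_, ?_⟩
    · rw [show a₁ * x * g₁ * (a₁ * x)⁻¹ = a₁ * (x * g₁ * x⁻¹) * a₁⁻¹ by group, h1, D.F₁.conj_zpow, neg_neg,
        zpow_one]
    · rw [show a₁ * x * a₁ * (a₁ * x)⁻¹ = a₁ * (x * a₁ * x⁻¹) * a₁⁻¹ by group, h2, ← mul_assoc, D.F₁.a_mul,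
        mul_inv_cancel_right]
    · rw [show a₁ * x * g₂ * (a₁ * x)⁻¹ = a₁ * (x * g₂ * x⁻¹) * a₁⁻¹ by group, h3, D.a₁_fix (D.F₂.g_mem _)]
    · rw [show a₁ * x * a₂ * (a₁ * x)⁻¹ = a₁ * (x * a₂ * x⁻¹) * a₁⁻¹ by group, h4,
        D.a₁_fix (D.F₂.outer_mem _)]

theorem sq_mul {x p q : X} (hp : p ∈ D.F₁.Q) (hq : q ∈ D.F₂.Q) (hp' : x * p * x⁻¹ ∈ D.F₁.Q) :
    p * q * x * (p * q * x) = p * (x * p * x⁻¹) * (q * (x * q * x⁻¹)) * (x * x) := by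
  calc p * q * x * (p * q * x) = p * (q * (x * p * x⁻¹)) * (x * q * x⁻¹) * (x * x) := by group
    _ = _ := by rw [← D.comm _ hp' q hq]; group

/-- Such an element exists. -/
theorem exists_tw : ∃ (h : X) (r₁ r₂ i j : ℤ), Tw D h r₁ r₂ i j := by
  obtain ⟨k, r, hr, hw₁, hwa₁⟩ := D.conj₁
  obtain ⟨k', r', hr', hw₂, hwa₂⟩ := D.conj₂
  obtain ⟨⟨κ, hκ, e₁⟩, κ', hκ', e₂⟩ := D.str
  obtain ⟨y, s, hy, hs, hy1, hy2, hy3, hy4⟩ := D.fix₁ D.w_out hκ hr e₁ hwa₁ e₂ hwa₂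
  obtain ⟨h, s', hh, hs', h3, h4, h1, h2⟩ :=
    D.swap.fix₁ (D.not_mem_swap hy) hκ' hr' hy3 hy4 (k' := 1) (by rw [zpow_one]; exact hy1) hy2
  rw [zpow_one] at h1
  have hout : h ∉ D.S₀ := fun e => hh (by
    obtain ⟨p, hp, q, hq, e'⟩ := e
    exact ⟨q, hq, p, hp, e'.trans (D.comm p hp q hq)⟩)
  have c₁ : ∀ t : ℤ, h * g₁ ^ t * h⁻¹ = g₁ ^ t := fun t => by rw [← _root_.conj_zpow, h1]
  have c₂ : ∀ t : ℤ, h * g₂ ^ t * h⁻¹ = g₂ ^ t := fun t => by rw [← _root_.conj_zpow, h3]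
  obtain ⟨i, j, e⟩ := D.sq_inner hout
  have key : ∀ {g a g' : X} (F : Fac m z g a) {i s : ℤ}, h * h = g ^ i * g' →
      (∀ t : ℤ, h * g ^ t * h⁻¹ = g ^ t) → h * a * h⁻¹ = g ^ s * a → g' * a * g'⁻¹ = a →
      (2 * m : ℤ) ∣ i - s := by
    intro g a g' F i s e hc ha hg'
    have h5 : h * h * a * (h * h)⁻¹ = g ^ (s + s) * a := by
      rw [show h * h * a * (h * h)⁻¹ = h * (h * a * h⁻¹) * h⁻¹ by group, ha,
        show h * (g ^ s * a) * h⁻¹ = h * g ^ s * h⁻¹ * (h * a * h⁻¹) by group, hc, ha, ← mul_assoc, ← zpow_add]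
    have h6 : h * h * a * (h * h)⁻¹ = g ^ (i + i) * a := by
      rw [e, show g ^ i * g' * a * (g ^ i * g')⁻¹ = g ^ i * (g' * a * g'⁻¹) * (g ^ i)⁻¹ by group, hg',
        ← zpow_neg, mul_assoc, F.a_mul, ← mul_assoc, ← zpow_add, neg_neg]
    obtain ⟨c, hc'⟩ := F.a_zpow_eq.1 (h5.symm.trans h6)
    exact ⟨c, by linarith⟩
  have hi := key D.F₁ e c₁ h2 (by rw [← D.comm _ D.F₁.a_mem _ (D.F₂.g_mem j), mul_inv_cancel_right])
  have hj := key (g' := g₁ ^ i) D.F₂ (e.trans (D.g_comm i j)) c₂ h4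
    (by rw [D.comm _ (D.F₁.g_mem i) _ D.F₂.a_mem, mul_inv_cancel_right])
  have odd : ∀ {i s : ℤ}, (2 * m : ℤ) ∣ i - s → ¬ 2 ∣ s → ¬ 2 ∣ i := fun {i s} hd hs' h2' => hs' (by
    have := dvd_sub h2' (dvd_trans (dvd_mul_right 2 (m : ℤ)) hd)
    rwa [sub_sub_cancel] at this)
  exact ⟨h, s, s', i, j, ⟨hout, fun t => mul_inv_eq_iff_eq_mul.1 (c₁ t), fun t => mul_inv_eq_iff_eq_mul.1 (c₂ t),
    h2, h4, e, odd hi hs, odd hj hs', hi, hj⟩⟩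

variable {h : X} {r₁ r₂ i j : ℤ}

theorem cap_pow {a b : ℤ} (e : g₁ ^ a * g₂ ^ b = 1) : (2 * m : ℤ) ∣ a := by
  have h1 : g₁ ^ a = g₂ ^ (-b) := by rw [zpow_neg, eq_inv_of_mul_eq_one_left e]
  rcases D.cap _ (D.F₁.g_mem a) (h1 ▸ D.F₂.g_mem _) with e' | e'
  · exact dvd_trans ⟨2, by ring⟩ (D.F₁.zpow_one_iff.1 e')
  · rw [← D.F₁.half, D.F₁.zpow_eq] at e'
    obtain ⟨c, hc⟩ := e'
    exact ⟨1 - 2 * c, by linarith⟩

omit D in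
theorem odd_mul_not {i : ℤ} (hm : 0 < m) (hi : ¬ 2 ∣ i) : ¬ (2 * m : ℤ) ∣ i * m := by
  rintro ⟨c, hc⟩
  refine hi ⟨c, ?_⟩
  have : (i - 2 * c) * (m : ℤ) = 0 := by linarith
  rcases mul_eq_zero.1 this with h | h <;> omega

variable {D} in
theorem Tw.comm_g₁ (W : Tw D h r₁ r₂ i j) (s : ℤ) : Commute (g₁ ^ s) h := (W.c₁ s).symm

variable {D} in
theorem Tw.half_eq (W : Tw D h r₁ r₂ i j) : h ^ (2 * m) = g₁ ^ (i * m) * g₂ ^ (j * m) := by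
  rw [pow_mul, pow_two, W.sq, Commute.mul_pow (D.g_comm i j), ← zpow_natCast, ← zpow_natCast (g₂ ^ j),
    ← zpow_mul, ← zpow_mul]

variable {D} in
theorem Tw.half_ne (W : Tw D h r₁ r₂ i j) : h ^ (2 * m) ≠ 1 ∧ h ^ (2 * m) ≠ z := by
  rw [W.half_eq]
  refine ⟨fun e => odd_mul_not D.F₁.pos W.i_odd (D.cap_pow e), fun e => ?_⟩
  refine odd_mul_not D.F₁.pos W.i_odd (D.cap_pow (b := j * m + 2 * m) ?_)
  rw [zpow_add, D.F₂.half, ← mul_assoc, e, D.F₁.z_sq]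

variable {D} in
theorem Tw.pow_four_m (W : Tw D h r₁ r₂ i j) : h ^ (4 * m) = 1 := by
  have hh : h ^ (2 * m) * h ^ (2 * m) = 1 := by
    rw [W.half_eq]
    calc _ = g₁ ^ (i * m) * g₁ ^ (i * m) * (g₂ ^ (j * m) * g₂ ^ (j * m)) := by
          rw [mul_assoc, ← mul_assoc (g₂ ^ (j * (m : ℤ))), ← D.g_comm, mul_assoc, ← mul_assoc]
      _ = 1 := by
          rw [← zpow_add, ← zpow_add]
          have e1 : g₁ ^ (i * m + i * m) = z := by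
            rw [← D.F₁.half, D.F₁.zpow_eq]
            obtain ⟨c, hc⟩ : 2 ∣ i - 1 := by have := W.i_odd; omega
            exact ⟨-c, by linear_combination (-(m : ℤ)) * hc * 2⟩
          have e2 : g₂ ^ (j * m + j * m) = z := by
            rw [← D.F₂.half, D.F₂.zpow_eq]
            obtain ⟨c, hc⟩ : 2 ∣ j - 1 := by have := W.j_odd; omega
            exact ⟨-c, by linear_combination (-(m : ℤ)) * hc * 2⟩
          rw [e1, e2, D.F₁.z_sq]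
  rw [← hh, ← pow_add]
  ring_nf

/-- Powers in `S₀`. -/
theorem S₀_pow {x : X} (hx : x ∈ D.S₀) : x ^ (2 * m) = 1 ∨ x ^ (2 * m) = z := by
  have inner : ∀ {g a : X} (F : Fac m z g a) {y : X}, y ∈ F.Q → y ^ (2 * m) ∈ Subgroup.zpowers z := by
    intro g a F y hy
    obtain ⟨s, rfl | rfl⟩ := F.mem_Q.1 hy
    · refine ⟨s, ?_⟩
      show z ^ s = _
      rw [← F.half, ← zpow_mul, ← zpow_natCast (g ^ s), ← zpow_mul]
      push_cast; ring_nf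
    · rw [pow_mul, pow_two, F.outer_sq]
      exact pow_mem (Subgroup.mem_zpowers z) m
  obtain ⟨p, hp, q, hq, rfl⟩ := hx
  rw [Commute.mul_pow (D.comm p hp q hq)]
  obtain ⟨c, hc⟩ := mul_mem (inner D.F₁ hp) (inner D.F₂ hq)
  change z ^ c = _ at hc
  rw [← hc]
  rcases Int.even_or_odd' c with ⟨e, rfl | rfl⟩
  · left; rw [zpow_mul, zpow_two, D.F₁.z_sq, one_zpow]
  · right; rw [zpow_add, zpow_mul, zpow_two, D.F₁.z_sq, one_zpow, one_mul, zpow_one]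

variable {D} in
/-- Short elements outside `S₀`. -/
theorem Tw.short (W : Tw D h r₁ r₂ i j) {y : X} (hy : y ∉ D.S₀) (hp2 : y ^ (2 * m) = 1) :
    y * y = 1 ∨ y * y = z := by
  have hc : y * h⁻¹ ∈ D.S₀ := (Subgroup.mul_mem_iff_of_index_two D.index_two).2
    ⟨fun h' => absurd h' hy, fun h' => absurd (inv_mem_iff.1 h') W.out⟩
  obtain ⟨p, hp, q, hq, e⟩ := hc
  obtain rfl : y = p * q * h := by rw [← e, inv_mul_cancel_right]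
  have fac : ∀ {g a : X} (F : Fac m z g a) {s r : ℤ}, (∀ t : ℤ, h * g ^ t = g ^ t * h) → h * a * h⁻¹ = g ^ r * a →
      ¬ 2 ∣ s → (2 * m : ℤ) ∣ s - r → ∀ {p : X}, p ∈ F.Q → (h * p * h⁻¹ ∈ F.Q) ∧
        ∃ e : ℤ, p * (h * p * h⁻¹) = g ^ e ∧ (¬ 2 ∣ e + s ∨ (2 * m : ℤ) ∣ e + s) := by
    intro g a F s r hc ha hs hsr p hp
    obtain ⟨t, rfl | rfl⟩ := F.mem_Q.1 hp
    · have e : h * g ^ t * h⁻¹ = g ^ t := by rw [hc, mul_inv_cancel_right]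
      refine ⟨by rw [e]; exact F.g_mem t, t + t, by rw [e, zpow_add], Or.inl fun h' => hs ?_⟩
      have := dvd_sub h' ⟨t, (two_mul t).symm⟩
      rwa [add_sub_cancel_left] at this
    · have e : h * (g ^ t * a) * h⁻¹ = g ^ (t + r) * a := by
        rw [← mul_assoc, hc, mul_assoc (g ^ t), mul_assoc, ha, ← mul_assoc, ← zpow_add]
      refine ⟨by rw [e]; exact F.outer_mem _, 2 * m - r, ?_, Or.inr ?_⟩
      · rw [e, zpow_add g t r, mul_assoc (g ^ t), ← mul_assoc (g ^ t) a, ← zpow_add]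
        rw [show g ^ t * a * (g ^ (t + r) * a) = g ^ (t - (t + r)) * (a * a) by
          rw [mul_assoc, ← mul_assoc a, F.a_mul, mul_assoc (g ^ (-(t + r))), ← mul_assoc, ← zpow_add,
            ← sub_eq_add_neg], F.sq, ← F.half, ← zpow_add]
        ring_nf
      · obtain ⟨c, hc'⟩ := hsr
        exact ⟨1 + c, by linear_combination hc'⟩
  obtain ⟨hp', e₁, he₁, d₁⟩ := fac D.F₁ W.c₁ W.a₁' W.i_odd W.i_r hp
  obtain ⟨-, e₂, he₂, d₂⟩ := fac D.F₂ W.c₂ W.a₂' W.j_odd W.j_r hq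
  have hyy : p * q * h * (p * q * h) = g₁ ^ (e₁ + i) * g₂ ^ (e₂ + j) := by
    rw [D.sq_mul hp hq hp', he₁, he₂, W.sq, zpow_add, zpow_add, mul_assoc (g₁ ^ e₁),
      ← mul_assoc (g₂ ^ e₂), ← D.g_comm, mul_assoc, ← mul_assoc, ← mul_assoc]
  have h1 : g₁ ^ ((e₁ + i) * m) * g₂ ^ ((e₂ + j) * m) = 1 := by
    rw [← hp2, pow_mul, pow_two, hyy, Commute.mul_pow (D.g_comm _ _), ← zpow_natCast (g₁ ^ (e₁ + i)),
      ← zpow_natCast (g₂ ^ (e₂ + j)), ← zpow_mul, ← zpow_mul]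
  obtain ⟨c₁, hc₁⟩ := d₁.resolve_left fun hd => odd_mul_not D.F₁.pos hd (D.cap_pow h1)
  obtain ⟨c₂, hc₂⟩ := d₂.resolve_left fun hd => odd_mul_not D.F₁.pos hd
    (D.swap.cap_pow (by rw [← D.g_comm]; exact h1))
  rw [hyy, hc₁, hc₂, zpow_mul, zpow_mul g₂, D.F₁.half, D.F₂.half, ← zpow_add]
  rcases Int.even_or_odd' (c₁ + c₂) with ⟨e, he | he⟩ <;> rw [he]
  · left; rw [zpow_mul, zpow_two, D.F₁.z_sq, one_zpow]
  · right; rw [zpow_add, zpow_mul, zpow_two, D.F₁.z_sq, one_zpow, one_mul, zpow_one]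

variable {D} in
/-- No involution is `h^k g₁`. -/
theorem Tw.shift_ne (W : Tw D h r₁ r₂ i j) (k : ℤ) : h ^ k * g₁ * (h ^ k * g₁) ≠ 1 := by
  intro e
  have hc : Commute (h ^ k) g₁ := ((by simpa using W.comm_g₁ 1 : Commute g₁ h).symm).zpow_left k
  rw [mul_assoc, ← mul_assoc g₁, ← hc.eq, mul_assoc, ← mul_assoc, ← zpow_add, ← two_mul, zpow_mul, zpow_two,
    W.sq, Commute.mul_zpow (D.g_comm i j), ← zpow_mul, ← zpow_mul, mul_assoc, ← mul_assoc (g₂ ^ (j * k)),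
    show g₂ ^ (j * k) * g₁ = g₁ ^ (1 : ℤ) * g₂ ^ (j * k) by rw [D.g_comm, zpow_one],
    mul_assoc (g₁ ^ (1 : ℤ)), show g₂ ^ (j * k) * g₁ = g₁ ^ (1 : ℤ) * g₂ ^ (j * k) by rw [D.g_comm, zpow_one],
    ← mul_assoc, ← mul_assoc, ← zpow_add, ← zpow_add] at e
  have hA := D.cap_pow e
  have hB := D.swap.cap_pow (a := j * k) (b := i * k + 1 + 1) (by rw [← D.g_comm]; exact e)
  have hm1 : m = 1 := by
    obtain ⟨n, hn⟩ : ∃ n : ℕ, 4 * m = 2 ^ n := by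
      obtain ⟨n, hn⟩ := D.two g₁
      obtain ⟨j, -, hj⟩ := (Nat.dvd_prime_pow Nat.prime_two).1 (orderOf_dvd_of_pow_eq_one hn)
      exact ⟨j, by rw [← D.F₁.ord, hj]⟩
    have hcop : IsCoprime (2 * m : ℤ) j := by
      have h4 : IsCoprime ((2 : ℤ) ^ n) j := by
        refine IsCoprime.pow_left ?_
        rcases Int.even_or_odd' j with ⟨c, rfl | rfl⟩
        · exact absurd ⟨c, rfl⟩ W.j_odd
        · exact ⟨-c, 1, by ring⟩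
      refine IsCoprime.of_isCoprime_of_dvd_left h4 ?_
      exact ⟨2, by rw [show (2 : ℤ) ^ n = ((2 ^ n : ℕ) : ℤ) by push_cast; rfl, ← hn]; push_cast; ring⟩
    have hk : (2 * m : ℤ) ∣ k := hcop.dvd_of_dvd_mul_left hB
    have h2 : (2 * m : ℤ) ∣ 2 := by
      have := dvd_sub hA (dvd_mul_of_dvd_right hk i)
      rwa [show i * k + 1 + 1 - i * k = 2 by ring] at this
    have := Int.le_of_dvd two_pos h2
    have := D.F₁.pos
    omega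
  subst hm1
  obtain ⟨c, hc⟩ : (2 : ℤ) ∣ j * k := by simpa using hB
  obtain ⟨d, hd⟩ : (2 : ℤ) ∣ i * k + 1 + 1 := by simpa using hA
  have hk2 : 2 ∣ k := by
    rcases Int.even_or_odd' k with ⟨e', rfl | rfl⟩
    · exact ⟨e', rfl⟩
    · refine absurd ⟨c - j * e', ?_⟩ W.j_odd
      linear_combination hc
  obtain ⟨l, rfl⟩ := hk2
  rw [hd, show j * (2 * l) = 2 * (j * l) by ring, show (2 : ℤ) * d = 2 * ((1 : ℕ) : ℤ) * d by simp,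
    show 2 * (j * l) = 2 * ((1 : ℕ) : ℤ) * (j * l) by simp, zpow_mul, zpow_mul g₂, D.F₁.half, D.F₂.half,
    ← zpow_add] at e
  have hd2 : d = i * l + 1 := by linarith
  obtain ⟨t, ht⟩ : ∃ t, d + j * l = 2 * t + 1 := by
    obtain ⟨a, ha⟩ : 2 ∣ i + j := by have := W.i_odd; have := W.j_odd; omega
    exact ⟨a * l, by rw [hd2]; linear_combination l * ha⟩
  rw [ht, zpow_add, zpow_mul, zpow_two, D.F₁.z_sq, one_zpow, one_mul, zpow_one] at e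
  exact D.F₁.z_ne e

end Shape

end Cfsg.Agent.G2Sylow
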